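import Cfsg.Agent.Lib.RankThreeNormal.Linear

/-!
Two opposite transvections on a plane generate minus one.
-/

set_option autoImplicit false
set_option linter.unusedSectionVars false

open Cfsg.Agent.RankThreeEss

namespace Cfsg.Agent.RankThreeNormal

variable {p : ℕ} [hp : Fact p.Prime] {G : Type*} [Group G] {E : Subgroup G}

theorem app_transv_pow {a : MulAut E} {x q : G} (hx : x ∈ E) (hq : q ∈ E) (hax : app a x = x * q)
    (haq : app a q = q) (n : ℕ) : app (a ^ n) x = x * q ^ n := by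
  induction n with
  | zero => rw [pow_zero, app_one_aut, pow_zero, mul_one]
  | succ n ih =>
    rw [pow_succ', app_mul_aut, ih, app_mul a hx (pow_mem hq n), app_pow a hq, haq, hax, mul_assoc, ← pow_succ']

theorem app_pow_fixed {a : MulAut E} {x : G} (hax : app a x = x) (n : ℕ) : app (a ^ n) x = x := by
  induction n with
  | zero => rw [pow_zero, app_one_aut]
  | succ n ih => rw [pow_succ', app_mul_aut, ih, hax]

/-- Two opposite transvections generate an element inverting their plane. -/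
theorem exists_neg {a a' : MulAut E} {X Y : G} (hX : X ∈ E) (hY : Y ∈ E) (hXY : Commute X Y) (hXp : X ^ p = 1)
    (hYp : Y ^ p = 1) {α β : ZMod p} (hα : α ≠ 0) (hβ : β ≠ 0) (haX : app a X = X * ev Y α) (haY : app a Y = Y)
    (ha'Y : app a' Y = Y * ev X β) (ha'X : app a' X = X) :
    ∃ w ∈ Subgroup.closure ({a, a'} : Set (MulAut E)), app w X = X⁻¹ ∧ app w Y = Y⁻¹ ∧
      ∀ q, app a q = q → app a' q = q → app w q = q := by
  set u := ev a α⁻¹ with hu
  set v := ev a' (-β⁻¹) with hv
  have huY : app u Y = Y := app_pow_fixed haY _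
  have hvX : app v X = X := app_pow_fixed ha'X _
  have huX : app u X = X * Y := by
    rw [hu, ev, app_transv_pow hX (ev_mem hY α) haX (by rw [app_ev a hY, haY])]
    congr 1
    rw [show (ev Y α) ^ (α⁻¹ : ZMod p).val = ev (ev Y α) α⁻¹ from rfl, ← ev_mul hYp, mul_inv_cancel₀ hα, ev_one]
  have hvY : app v Y = Y * X⁻¹ := by
    rw [hv, ev, app_transv_pow hY (ev_mem hX β) ha'Y (by rw [app_ev a' hX, ha'X])]
    congr 1
    rw [show (ev X β) ^ (-β⁻¹ : ZMod p).val = ev (ev X β) (-β⁻¹) from rfl, ← ev_mul hXp, mul_neg,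
      mul_inv_cancel₀ hβ, ev_neg hXp, ev_one]
  have h1 : app (u * v * u) X = Y := by
    rw [app_mul_aut, app_mul_aut, huX, app_mul v hX hY, hvX, hvY, ← mul_assoc, hXY.eq, mul_inv_cancel_right, huY]
  have h2 : app (u * v * u) Y = X⁻¹ := by
    rw [app_mul_aut, app_mul_aut, huY, hvY, app_mul u hY (inv_mem hX), huY, app_inv u hX, huX, mul_inv_rev,
      ← mul_assoc, mul_inv_cancel, one_mul]
  refine ⟨(u * v * u) * (u * v * u), ?_, ?_, ?_, fun q hq hq' => ?_⟩
  · have hm : ∀ {b : MulAut E}, b ∈ ({a, a'} : Set (MulAut E)) → ∀ c : ZMod p,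
        ev b c ∈ Subgroup.closure ({a, a'} : Set (MulAut E)) := fun hb c => ev_mem (Subgroup.subset_closure hb) c
    have := mul_mem (mul_mem (hm (Or.inl rfl) α⁻¹) (hm (Or.inr rfl) (-β⁻¹))) (hm (Or.inl rfl) α⁻¹)
    exact mul_mem this this
  · rw [app_mul_aut, h1, h2]
  · rw [app_mul_aut, h2, app_inv _ hX, h1]
  · have hc : app (u * v * u) q = q := by
      rw [app_mul_aut, app_mul_aut, hu, hv, ev, ev, app_pow_fixed hq _, app_pow_fixed hq' _, app_pow_fixed hq _]
    rw [app_mul_aut, hc, hc]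

end Cfsg.Agent.RankThreeNormal
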