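import Cfsg.Agent.Lib.RankThreeNormal.Pair
import Cfsg.Agent.Lib.Classical.Symplectic

/-!
The groups of this shape are the Sylow subgroups of the symplectic group of rank two.
-/

set_option autoImplicit false
set_option linter.unusedSectionVars false
set_option linter.style.haveILetI false
set_option maxHeartbeats 1000000

open Matrix
open Cfsg.Agent.RankThreeEss

namespace Cfsg.Agent.RankThreeNormal

variable {p : ℕ} [hp : Fact p.Prime]

section Bound

variable {Q : Type*} [Group Q]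

/-- The relations of the shape. -/
def Rel (p : ℕ) (z y t x : Q) : Prop :=
  z ^ p = 1 ∧ y ^ p = 1 ∧ t ^ p = 1 ∧ x ^ p = 1 ∧ Commute z y ∧ Commute z t ∧ Commute y t ∧ Commute x t ∧
    x * z * x⁻¹ = z * y ∧ x * y * x⁻¹ = y * t

variable [Finite Q]

theorem card_sup_le {A B : Subgroup Q} (h : B ≤ Subgroup.normalizer (A : Set Q)) :
    Nat.card (A ⊔ B : Subgroup Q) ≤ Nat.card A * Nat.card B := by
  rw [← Nat.card_prod]
  refine Nat.card_le_card_of_surjective (fun a : A × B => (⟨a.1 * a.2, mul_mem (Subgroup.mem_sup_left a.1.2)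
    (Subgroup.mem_sup_right a.2.2)⟩ : (A ⊔ B : Subgroup Q))) fun w => ?_
  have hw : (w : Q) ∈ ((A ⊔ B : Subgroup Q) : Set Q) := w.2
  rw [Subgroup.coe_mul_of_right_le_normalizer_left A B h] at hw
  obtain ⟨a, ha, b, hb, hab⟩ := hw
  exact ⟨(⟨a, ha⟩, ⟨b, hb⟩), Subtype.ext hab⟩

theorem card_zpowers_le {z : Q} (hz : z ^ p = 1) : Nat.card (Subgroup.zpowers z) ≤ p := by
  rw [Nat.card_zpowers]; exact orderOf_le_of_pow_eq_one hp.out.pos hz

theorem card_rel_le {z y t x : Q} (h : Rel p z y t x) :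
    Nat.card (Subgroup.closure ({z, y, t, x} : Set Q)) ≤ p ^ 4 := by
  obtain ⟨hz, hy, ht, hx, czy, czt, cyt, cxt, rz, ry⟩ := h
  have hcn : ∀ {H : Subgroup Q} {g : Q}, (∀ a ∈ H, Commute g a) → Subgroup.zpowers g ≤ Subgroup.normalizer (H : Set Q) :=
    fun {H g} hc => Subgroup.zpowers_le.2 (Subgroup.mem_normalizer_iff.2 fun a =>
      ⟨fun ha => by rw [(hc a ha).eq, mul_inv_cancel_right]; exact ha, fun ha => by
        have e := (hc _ ha).inv_left.eq
        have h' : g⁻¹ * (g * a * g⁻¹) * g ∈ H := by rw [e, inv_mul_cancel_right]; exact ha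
        rwa [show g⁻¹ * (g * a * g⁻¹) * g = a by group] at h'⟩)
  set A := Subgroup.zpowers z ⊔ Subgroup.zpowers y ⊔ Subgroup.zpowers t with hA
  have hAt : ∀ a ∈ A, Commute t a := fun a ha => by
    have hle : A ≤ Subgroup.centralizer {t} := sup_le (sup_le
      (Subgroup.zpowers_le.2 (Subgroup.mem_centralizer_iff.2 (by rintro _ rfl; exact czt.eq.symm)))
      (Subgroup.zpowers_le.2 (Subgroup.mem_centralizer_iff.2 (by rintro _ rfl; exact cyt.eq.symm))))
      (Subgroup.zpowers_le.2 (Subgroup.mem_centralizer_iff.2 (by rintro _ rfl; rfl)))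
    exact Subgroup.mem_centralizer_iff.1 (hle ha) t rfl
  have h1 : Nat.card (Subgroup.zpowers z ⊔ Subgroup.zpowers y : Subgroup Q) ≤ p * p :=
    (card_sup_le (hcn fun a ha => by
      obtain ⟨k, rfl⟩ := Subgroup.mem_zpowers_iff.1 ha
      exact czy.symm.zpow_right k)).trans (Nat.mul_le_mul (card_zpowers_le hz) (card_zpowers_le hy))
  have h3 : Nat.card A ≤ p * p * p :=
    (card_sup_le (hcn fun a ha => hAt a (Subgroup.mem_sup_left ha))).trans (Nat.mul_le_mul h1 (card_zpowers_le ht))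
  have hzA : z ∈ A := Subgroup.mem_sup_left (Subgroup.mem_sup_left (Subgroup.mem_zpowers z))
  have hyA : y ∈ A := Subgroup.mem_sup_left (Subgroup.mem_sup_right (Subgroup.mem_zpowers y))
  have htA : t ∈ A := Subgroup.mem_sup_right (Subgroup.mem_zpowers t)
  have hmap : A.map (MulAut.conj x).toMonoidHom = A := by
    refine Subgroup.eq_of_le_of_card_ge (Subgroup.map_le_iff_le_comap.2 ?_)
      (Subgroup.card_map_of_injective (MulAut.conj x).injective).ge
    refine sup_le (sup_le ?_ ?_) ?_ <;> refine Subgroup.zpowers_le.2 ?_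
    · show x * z * x⁻¹ ∈ A
      rw [rz]; exact mul_mem hzA hyA
    · show x * y * x⁻¹ ∈ A
      rw [ry]; exact mul_mem hyA htA
    · show x * t * x⁻¹ ∈ A
      rw [cxt.eq, mul_inv_cancel_right]; exact htA
  have hnx : Subgroup.zpowers x ≤ Subgroup.normalizer (A : Set Q) :=
    Subgroup.zpowers_le.2 (Subgroup.mem_normalizer_iff.2 fun a => by
      constructor
      · exact fun ha => hmap.le ⟨a, ha, rfl⟩
      · intro ha
        obtain ⟨b, hb, hbe⟩ := hmap.ge ha
        exact (MulAut.conj x).injective hbe ▸ hb)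
  calc Nat.card (Subgroup.closure ({z, y, t, x} : Set Q)) ≤ Nat.card (A ⊔ Subgroup.zpowers x : Subgroup Q) := by
        refine Subgroup.card_le_of_le ((Subgroup.closure_le _).2 ?_)
        rintro _ (rfl | rfl | rfl | rfl)
        exacts [Subgroup.mem_sup_left hzA, Subgroup.mem_sup_left hyA, Subgroup.mem_sup_left htA,
          Subgroup.mem_sup_right (Subgroup.mem_zpowers _)]
    _ ≤ p * p * p * p := (card_sup_le hnx).trans (Nat.mul_le_mul h3 (card_zpowers_le hx))
    _ = p ^ 4 := by ring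

end Bound

/-- Two groups of the shape are isomorphic. -/
theorem iso_of_rel {G : Type*} [Group G] [Finite G] {H : Type*} [Group H] [Finite H] (hG : Shape p G)
    {z' y' t' x' : H} (hH : Rel p z' y' t' x') (hc : Nat.card (Subgroup.closure ({z', y', t', x'} : Set H)) = p ^ 4) :
    Nonempty (G ≃* Subgroup.closure ({z', y', t', x'} : Set H)) := by
  obtain ⟨hcard, z, y, t, x, hz, hy, ht, hx, czy, czt, cyt, cxt, rz, ry, hgen⟩ := hG
  obtain ⟨hz', hy', ht', hx', czy', czt', cyt', cxt', rz', ry'⟩ := hH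
  set T : Set (G × H) := {(z, z'), (y, y'), (t, t'), (x, x')} with hT
  set K := Subgroup.closure T with hK
  have hle : Nat.card K ≤ p ^ 4 := by
    refine card_rel_le ⟨?_, ?_, ?_, ?_, czy.prod czy', czt.prod czt', cyt.prod cyt', cxt.prod cxt', ?_, ?_⟩
    · exact Prod.ext hz hz'
    · exact Prod.ext hy hy'
    · exact Prod.ext ht ht'
    · exact Prod.ext hx hx'
    · exact Prod.ext rz rz'
    · exact Prod.ext ry ry'
  let π₁ : K →* G := (MonoidHom.fst G H).comp K.subtype
  have hs₁ : Function.Surjective π₁ := by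
    rw [← MonoidHom.range_eq_top, MonoidHom.range_comp, Subgroup.range_subtype, hK, MonoidHom.map_closure, hT,
      Set.image_insert_eq, Set.image_insert_eq, Set.image_pair]
    exact hgen
  have hK4 : Nat.card K = p ^ 4 := le_antisymm hle (hcard ▸ Nat.card_le_card_of_surjective π₁ hs₁)
  have hb₁ : Function.Bijective π₁ := (Nat.bijective_iff_surjective_and_card π₁).2 ⟨hs₁, hK4.trans hcard.symm⟩
  have hmap : K.map (MonoidHom.snd G H) = Subgroup.closure ({z', y', t', x'} : Set H) := by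
    rw [hK, MonoidHom.map_closure, hT, Set.image_insert_eq, Set.image_insert_eq, Set.image_pair]
    rfl
  let π₂ : K →* K.map (MonoidHom.snd G H) := (MonoidHom.snd G H).subgroupMap K
  have hb₂ : Function.Bijective π₂ :=
    (Nat.bijective_iff_surjective_and_card π₂).2 ⟨(MonoidHom.snd G H).subgroupMap_surjective K, by rw [hmap, hK4, hc]⟩
  exact ⟨((MulEquiv.ofBijective π₁ hb₁).symm.trans (MulEquiv.ofBijective π₂ hb₂)).trans
    (MulEquiv.subgroupCongr hmap)⟩

section Sp

/-- The translation part. -/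
def uB (a b c : ZMod p) : Matrix (Fin 2) (Fin 2) (ZMod p) := !![b + 2 * c, b; b, a]

/-- The Levi part. -/
def lM (d : ZMod p) : Matrix (Fin 2) (Fin 2) (ZMod p) := !![1, d; 0, 1]

/-- The transposed inverse of the Levi part. -/
def lN (d : ZMod p) : Matrix (Fin 2) (Fin 2) (ZMod p) := !![1, 0; -d, 1]

theorem uB_symm (a b c : ZMod p) : (uB a b c)ᵀ = uB a b c := by
  ext i j; fin_cases i <;> fin_cases j <;> simp [uB]

theorem lM_lN (d : ZMod p) : lM d * (lN d)ᵀ = 1 ∧ lN d * (lM d)ᵀ = 1 := by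
  constructor <;> ext i j <;> fin_cases i <;> fin_cases j <;> simp [lM, lN, Matrix.mul_apply]

/-- A translation in the symplectic group. -/
def uu (a b c : ZMod p) : symplecticGroup (Fin 2) (ZMod p) :=
  ⟨fromBlocks 1 (uB a b c) 0 1, by
    rw [SymplecticGroup.mem_iff, J, fromBlocks_transpose, fromBlocks_multiply, fromBlocks_multiply, uB_symm]
    simp⟩

/-- An element of the Levi factor. -/
def dd (d : ZMod p) : symplecticGroup (Fin 2) (ZMod p) :=
  ⟨fromBlocks (lM d) 0 0 (lN d), by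
    rw [SymplecticGroup.mem_iff, J, fromBlocks_transpose, fromBlocks_multiply, fromBlocks_multiply]
    simp [(lM_lN d).1, (lM_lN d).2]⟩

theorem uu_mul (a b c a' b' c' : ZMod p) : uu a b c * uu a' b' c' = uu (a + a') (b + b') (c + c') := by
  refine Subtype.ext ?_
  show fromBlocks 1 (uB a b c) 0 1 * fromBlocks 1 (uB a' b' c') 0 1 = fromBlocks 1 (uB (a + a') (b + b') (c + c')) 0 1
  rw [fromBlocks_multiply]
  congr 1 <;> simp
  ext i j; fin_cases i <;> fin_cases j <;> simp [uB] <;> ring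

theorem uu_zero : uu (0 : ZMod p) 0 0 = 1 := by
  refine Subtype.ext ?_
  show fromBlocks 1 (uB 0 0 0) 0 1 = (1 : Matrix (Fin 2 ⊕ Fin 2) (Fin 2 ⊕ Fin 2) (ZMod p))
  rw [show uB (0 : ZMod p) 0 0 = 0 by ext i j; fin_cases i <;> fin_cases j <;> simp [uB], fromBlocks_one]

theorem dd_mul (d d' : ZMod p) : dd d * dd d' = dd (d + d') := by
  refine Subtype.ext ?_
  show fromBlocks (lM d) 0 0 (lN d) * fromBlocks (lM d') 0 0 (lN d') = fromBlocks (lM (d + d')) 0 0 (lN (d + d'))
  rw [fromBlocks_multiply]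
  congr 1 <;> simp <;> ext i j <;> fin_cases i <;> fin_cases j <;> simp [lM, lN, Matrix.mul_apply] <;> ring

theorem dd_zero : dd (0 : ZMod p) = 1 := by
  refine Subtype.ext ?_
  show fromBlocks (lM 0) 0 0 (lN 0) = (1 : Matrix (Fin 2 ⊕ Fin 2) (Fin 2 ⊕ Fin 2) (ZMod p))
  rw [show lM (0 : ZMod p) = 1 by ext i j; fin_cases i <;> fin_cases j <;> simp [lM],
    show lN (0 : ZMod p) = 1 by ext i j; fin_cases i <;> fin_cases j <;> simp [lN], fromBlocks_one]

theorem uu_pow (a b c : ZMod p) (n : ℕ) : uu a b c ^ n = uu ((n : ZMod p) * a) ((n : ZMod p) * b) ((n : ZMod p) * c) := by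
  induction n with
  | zero => rw [pow_zero, Nat.cast_zero, zero_mul, zero_mul, zero_mul, uu_zero]
  | succ n ih => rw [pow_succ, ih, uu_mul, Nat.cast_succ]; congr 1 <;> ring

theorem dd_pow (d : ZMod p) (n : ℕ) : dd d ^ n = dd ((n : ZMod p) * d) := by
  induction n with
  | zero => rw [pow_zero, Nat.cast_zero, zero_mul, dd_zero]
  | succ n ih => rw [pow_succ, ih, dd_mul, Nat.cast_succ, add_one_mul]

theorem rel_sp : Rel p (uu (1 : ZMod p) 0 0) (uu 0 1 0) (uu 0 0 1) (dd (1 : ZMod p)) := by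
  have hc : ∀ a b c a' b' c' : ZMod p, Commute (uu a b c) (uu a' b' c') := fun a b c a' b' c' => by
    show _ = _
    rw [uu_mul, uu_mul]; congr 1 <;> ring
  have hconj : ∀ a b c : ZMod p, dd 1 * uu a b c = uu a (a + b) (b + c) * dd 1 := fun a b c => by
    refine Subtype.ext ?_
    show fromBlocks (lM 1) 0 0 (lN 1) * fromBlocks 1 (uB a b c) 0 1 =
      fromBlocks 1 (uB a (a + b) (b + c)) 0 1 * fromBlocks (lM 1) 0 0 (lN 1)
    rw [fromBlocks_multiply, fromBlocks_multiply]
    congr 1 <;> simp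
    ext i j; fin_cases i <;> fin_cases j <;> simp [uB, lM, lN, Matrix.mul_apply] <;> ring
  have hp0 : (p : ZMod p) = 0 := ZMod.natCast_self p
  refine ⟨?_, ?_, ?_, ?_, hc _ _ _ _ _ _, hc _ _ _ _ _ _, hc _ _ _ _ _ _, ?_, ?_, ?_⟩
  · rw [uu_pow, hp0]; simp [uu_zero]
  · rw [uu_pow, hp0]; simp [uu_zero]
  · rw [uu_pow, hp0]; simp [uu_zero]
  · rw [dd_pow, hp0, zero_mul, dd_zero]
  · show _ = _
    rw [hconj]; congr 2 <;> ring
  · rw [mul_inv_eq_iff_eq_mul, hconj, uu_mul]; congr 2 <;> ring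
  · rw [mul_inv_eq_iff_eq_mul, hconj, uu_mul]; congr 2 <;> ring

/-- A group of the shape is a Sylow subgroup of the symplectic group. -/
theorem exists_sylow (hp2 : p ≠ 2) {G : Type*} [Group G] [Finite G] (hG : Shape p G) :
    ∃ P : Sylow p ↥(Matrix.symplecticGroup (Fin 2) (ZMod p)),
      Nonempty (G ≃* ↥(P : Subgroup ↥(Matrix.symplecticGroup (Fin 2) (ZMod p)))) := by
  set z := uu (1 : ZMod p) 0 0
  set y := uu (0 : ZMod p) 1 0
  set t := uu (0 : ZMod p) 0 1
  set x := dd (1 : ZMod p)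
  set K := Subgroup.closure ({z, y, t, x} : Set ↥(symplecticGroup (Fin 2) (ZMod p))) with hK
  have hval : ∀ r : ZMod p, ((r.val : ℕ) : ZMod p) = r := ZMod.natCast_zmod_val
  have hmem : ∀ a b c d : ZMod p, uu a b c * dd d ∈ K := by
    intro a b c d
    have e : uu a b c * dd d = z ^ a.val * y ^ b.val * t ^ c.val * x ^ d.val := by
      simp only [z, y, t, x, uu_pow, dd_pow, uu_mul, hval, mul_one, mul_zero, add_zero, zero_add]
    rw [e]
    exact mul_mem (mul_mem (mul_mem (pow_mem (Subgroup.subset_closure (by simp)) _)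
      (pow_mem (Subgroup.subset_closure (by simp)) _)) (pow_mem (Subgroup.subset_closure (by simp)) _))
      (pow_mem (Subgroup.subset_closure (by simp)) _)
  let g : ZMod p × ZMod p × ZMod p × ZMod p → K := fun q => ⟨_, hmem q.1 q.2.1 q.2.2.1 q.2.2.2⟩
  have h2 : (2 : ZMod p) ≠ 0 := fun h' => hp2 ((Nat.prime_dvd_prime_iff_eq hp.out Nat.prime_two).1
    ((ZMod.natCast_eq_zero_iff 2 p).1 (by rw [Nat.cast_ofNat, h'])))
  have hinj : Function.Injective g := by
    rintro ⟨a, b, c, d⟩ ⟨a', b', c', d'⟩ h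
    have h' : fromBlocks 1 (uB a b c) 0 1 * fromBlocks (lM d) 0 0 (lN d) =
        fromBlocks 1 (uB a' b' c') 0 1 * fromBlocks (lM d') 0 0 (lN d') :=
      congrArg Subtype.val (congrArg Subtype.val h)
    rw [fromBlocks_multiply, fromBlocks_multiply, fromBlocks_inj] at h'
    simp only [Matrix.one_mul, Matrix.mul_zero, Matrix.zero_mul, zero_add, add_zero] at h'
    obtain ⟨e1, e2, -, -⟩ := h'
    have hd : d = d' := by simpa [lM] using congrFun (congrFun e1 0) 1
    subst hd
    have e3 := congrArg (· * (lM d)ᵀ) e2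
    simp only [Matrix.mul_assoc, (lM_lN d).2, Matrix.mul_one] at e3
    have ha : a = a' := by simpa [uB] using congrFun (congrFun e3 1) 1
    have hb : b = b' := by simpa [uB] using congrFun (congrFun e3 0) 1
    have hc : b + 2 * c = b' + 2 * c' := by simpa [uB] using congrFun (congrFun e3 0) 0
    rw [hb] at hc
    have hc' : c = c' := mul_left_cancel₀ h2 (add_left_cancel hc)
    rw [ha, hb, hc']
  have hcK : Nat.card K = p ^ 4 := by
    refine le_antisymm (card_rel_le rel_sp) ?_
    have := Nat.card_le_card_of_injective g hinj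
    rw [Nat.card_prod, Nat.card_prod, Nat.card_prod, Nat.card_zmod] at this
    exact (le_of_eq (by ring)).trans this
  have hKp : IsPGroup p K := IsPGroup.of_card hcK
  have hidx : ¬ p ∣ K.index := by
    intro hdvd
    have h := K.card_mul_index
    rw [hcK, ClassicalSp.card_sp, Nat.card_zmod] at h
    rw [show Finset.range 2 = {0, 1} from by decide, Finset.prod_insert (by simp), Finset.prod_singleton] at h
    norm_num at h
    rw [h.resolve_right hp.out.ne_zero] at hdvd
    have hn : ∀ k : ℕ, k ≠ 0 → ¬ p ∣ p ^ k - 1 := fun k hk hd' => by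
      have h1 : 1 ≤ p ^ k := Nat.one_le_pow _ _ hp.out.pos
      have := Nat.dvd_sub (dvd_pow_self p hk) hd'
      rw [show p ^ k - (p ^ k - 1) = 1 by omega] at this
      exact hp.out.not_dvd_one this
    rcases hp.out.dvd_mul.1 hdvd with hd' | hd'
    · exact hn 2 (by norm_num) hd'
    · exact hn 4 (by norm_num) hd'
  exact ⟨hKp.toSylow hidx, iso_of_rel hG rel_sp hcK⟩

end Sp

end Cfsg.Agent.RankThreeNormal
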