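import Cfsg.Agent.Lib.RankThreeNormal.Far
import Cfsg.Agent.Lib.RankThreeNormal.Model
import Cfsg.Agent.Lib.RankThreeCore.Main

/-!
The frame of a fusion system whose essential subgroups are all normal.
-/

set_option autoImplicit false
set_option linter.unusedSectionVars false
set_option linter.style.haveILetI false
set_option maxHeartbeats 2000000

open scoped commutatorElement
open Cfsg Cfsg.FusionSystem Cfsg.Agent.FusionSys Cfsg.Agent.MaxEss Cfsg.Agent.RankThreeEss

namespace Cfsg.Agent.RankThreeNormal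

variable {Ω : Type*} [Group Ω] {S : Subgroup Ω} [Finite S] {F : FusionSystem S} {p : ℕ} [hp : Fact p.Prime]

theorem nrm_eq_top (hnn : ∀ E : Subgroup Ω, F.IsEssential p E → S ≤ Subgroup.normalizer (E : Set Ω))
    {E₀ : Subgroup S} (hE : F.IsEssential p (om E₀)) : nrm E₀ = ⊤ :=
  eq_top_iff.2 fun g _ => mem_normalizer_om.1 (hnn _ hE g.2)

theorem index_eq (hS : IsPGroup p S) (hF : F.IsSaturated p) (hsec : Cfsg.SectionalPRankLE p 3 S) (h3 : 3 ≤ p)
    {E₀ : Subgroup S} (hE : F.IsEssential p (om E₀)) (hN : nrm E₀ = ⊤) : E₀.index = p := by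
  haveI hn : E₀.Normal := Subgroup.normalizer_eq_top_iff.1 hN
  have hP : IsPGroup p E₀ := hS.to_subgroup E₀
  letI : CommGroup (E₀ ⧸ frattini E₀) := RankThreeCore.quotCommGroup hP
  have hexp : ∀ r : E₀ ⧸ frattini E₀, r ^ p = 1 := fun r => RankThreeCore.quot_exp hP r
  obtain ⟨M, hM, hPM⟩ := RankThreeCore.exists_M hS hF hE
  have hPp := RankThreeCore.kappa_isPGroup (F := F) (E₀ := E₀) hS
  have hP1 := RankThreeCore.kappa_ne_bot hS hF hE
  obtain ⟨α, ⟨y, rfl⟩, hα1⟩ := (Subgroup.bot_or_exists_ne_one (RankThreeCore.kappa F E₀).range).resolve_left hP1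
  have key : (RankThreeCore.kappa F E₀).range = Subgroup.zpowers (RankThreeCore.kappa F E₀ y) ∧
      RankThreeCore.kappa F E₀ y ^ p = 1 := by
    rcases RankThreeCore.rank_cases hS hF hsec hE with hidx | hidx
    · have hcard : Nat.card (E₀ ⧸ frattini E₀) = p ^ 2 := (Subgroup.index_eq_card _).symm.trans hidx
      obtain ⟨h1, h2, -⟩ := RankThreeCore.plane_data hexp hcard h3 _ M hM _ hPp hPM 1 ⟨y, rfl⟩ hα1
      exact ⟨h1, h2⟩
    · have hcard : Nat.card (E₀ ⧸ frattini E₀) = p ^ 3 := (Subgroup.index_eq_card _).symm.trans hidx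
      refine ⟨RankThreeEss.eq_zpowers hexp hcard h3 _ M hM _ hPp hPM hP1 ⟨y, rfl⟩ hα1, ?_⟩
      obtain ⟨a, b, hab, -, -, hst⟩ := RankThreeEss.exists_chain hexp hcard hPp
        ((RankThreeCore.Gq F E₀).subtype.comp (RankThreeCore.kappa F E₀).range.subtype)
      exact Subtype.ext (stab_pow hexp h3 (hst ⟨_, y, rfl⟩))
  have htop := RankThreeCore.top_of_gen hS hF hE key.1
  have hyp : ((y : S)) ^ p ∈ E₀ := Subgroup.mem_subgroupOf.1 (RankThreeCore.pow_mem_of_gen hS hF hE key.2)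
  have hyE : (y : S) ∉ E₀ := fun h => hα1 (Subtype.ext (by
    rw [RankThreeCore.kappa_apply, show conjN E₀ y = MulAut.conj (⟨y, h⟩ : E₀) from MulEquiv.ext fun x => Subtype.ext rfl,
      autQuot_conj_one hP]
    rfl))
  have hmap : E₀ ⊔ Subgroup.zpowers (y : S) = ⊤ := by
    refine eq_top_iff.2 fun g _ => ?_
    have hle : eIn E₀ ⊔ Subgroup.zpowers y ≤ (E₀ ⊔ Subgroup.zpowers (y : S)).comap (nrm E₀).subtype :=
      sup_le (fun x hx => Subgroup.mem_sup_left (Subgroup.mem_subgroupOf.1 hx))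
        (Subgroup.zpowers_le.2 (Subgroup.mem_sup_right (S := E₀) (Subgroup.mem_zpowers (y : S))))
    exact hle (htop.ge (Subgroup.mem_top (⟨g, hN.ge (Subgroup.mem_top g)⟩ : nrm E₀)))
  have hc := card_step hS hyE hyp
  rw [hmap, Subgroup.card_top, ← E₀.card_mul_index, mul_comm] at hc
  exact Nat.eq_of_mul_eq_mul_right Nat.card_pos hc

variable (hS : IsPGroup p S) (hF : F.IsSaturated p)
include hS hF

theorem radical_conj {E₀ : Subgroup S} (hE : F.IsEssential p (om E₀)) (K : Subgroup (MulAut E₀))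
    (hK : K ≤ autL F E₀) (hn : ∀ a ∈ autL F E₀, ∀ k ∈ K, a * k * a⁻¹ ∈ K) (hKp : IsPGroup p K) :
    ∀ k ∈ K, ∃ q ∈ E₀, ∀ x ∈ E₀, app k x = q * x * q⁻¹ := by
  intro k hk
  haveI := finite_of_le (om_le E₀)
  have hin : MulAut.congr (eL E₀) k ∈ Inn (om E₀) := by
    rw [← (essential_radical hS hF hE).2]
    refine ⟨autEquiv E₀ ⟨k, hK hk⟩, le_sSup (s := {N : Subgroup (F.autGroup (om E₀)) | N.Normal ∧ IsPGroup p N})
      (a := (K.subgroupOf (autL F E₀)).map (autEquiv E₀).toMonoidHom) ⟨?_, ?_⟩ ⟨⟨k, hK hk⟩, hk, rfl⟩, rfl⟩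
    · exact Subgroup.Normal.map (show (K.subgroupOf (autL F E₀)).Normal from ⟨fun n hn' g => hn _ g.2 _ hn'⟩) _
        (autEquiv E₀).surjective
    · exact (hKp.comap_of_injective (autL F E₀).subtype (autL F E₀).subtype_injective :
        IsPGroup p (K.subgroupOf (autL F E₀))).map _
  obtain ⟨q, hq⟩ := RankThreeCore.exists_conj_of_inn ⟨k, hK hk⟩ hin
  refine ⟨q, q.2, fun x hx => ?_⟩
  rw [show k = MulAut.conj q from hq, app_conj_apply q hx]

theorem sylow_conj {E₀ : Subgroup S} (hE : F.IsEssential p (om E₀)) (K : Subgroup (MulAut E₀))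
    (hK : K ≤ autL F E₀) (hKp : IsPGroup p K)
    (hc : ∀ g : S, ∀ a : MulAut E₀, (∀ x ∈ E₀, app a x = g * x * g⁻¹) → a ∈ K) :
    ∀ k ∈ K, ∃ g : S, ∀ x ∈ E₀, app k x = g * x * g⁻¹ := by
  intro k hk
  obtain ⟨R, hR⟩ := (fullyNormalized_imp hS hF hE.2.1).2.2
  set K' := (K.subgroupOf (autL F E₀)).map (autEquiv E₀).toMonoidHom with hK'
  have hK'p : IsPGroup p K' := ((hKp.comap_of_injective (autL F E₀).subtype (autL F E₀).subtype_injective :
    IsPGroup p (K.subgroupOf (autL F E₀)))).map _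
  have hle : (R : Subgroup (F.autGroup (om E₀))) ≤ K' := by
    intro b hb
    rw [hR] at hb
    obtain ⟨a, rfl⟩ := (autEquiv E₀).surjective b
    obtain ⟨g, hg⟩ := exists_of_induced (a := (a : MulAut E₀)) (Subgroup.mem_subgroupOf.1 hb)
    exact ⟨a, hc g a (fun x hx => by
      lift x to E₀ using hx
      rw [app_coe, hg]), rfl⟩
  have hmem : autEquiv E₀ ⟨k, hK hk⟩ ∈ (R : Subgroup (F.autGroup (om E₀))) :=
    R.is_maximal' hK'p hle ▸ ⟨⟨k, hK hk⟩, hk, rfl⟩
  rw [hR] at hmem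
  obtain ⟨g, hg⟩ := exists_of_induced (a := k) (Subgroup.mem_subgroupOf.1 hmem)
  exact ⟨g, fun x hx => by
    lift x to E₀ using hx
    rw [app_coe, hg]⟩

omit hS hF in
theorem transport_ess (hnn : ∀ E : Subgroup Ω, F.IsEssential p E → S ≤ Subgroup.normalizer (E : Set Ω))
    {φ : MulAut S} (hφ : φ ∈ F.autGroup S) {E₀ : Subgroup S} (hE : F.IsEssential p (om E₀)) :
    F.IsEssential p (om (E₀.map φ.toMonoidHom)) ∧ ∀ a ∈ autL F E₀,
      ∃ b ∈ autL F (E₀.map φ.toMonoidHom), ∀ x ∈ E₀, app b (φ x) = φ (app a x) := by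
  haveI hn : E₀.Normal := Subgroup.normalizer_eq_top_iff.1 (nrm_eq_top hnn hE)
  set E₁ := E₀.map φ.toMonoidHom with hE₁
  set f : E₀ →* S := φ.toMonoidHom.comp E₀.subtype with hfd
  have hf : HomG F f := by
    refine hom_congr F (restrict_mem F ((mem_autGroup_iff F le_rfl φ).1 hφ) (om_le E₀)) fun y => ?_
    obtain ⟨x, rfl⟩ := (eL E₀).surjective y
    rw [push_apply]
    rfl
  have hfr : f.range = E₁ := by rw [hfd, MonoidHom.range_comp, Subgroup.range_subtype]
  obtain ⟨e, he, hesymm⟩ := hf.exists_inv hfr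
  have hefwd : HomG F (E₁.subtype.comp e.toMonoidHom) := homG_congr hf fun x => he x
  have hconj : F.IsConj (om E₀) (om E₁) := hfr ▸ hf.isConj
  refine ⟨⟨⟨om_le E₁, fun Q hQ => hE.1.2 Q (isConj_trans hconj hQ)⟩, ⟨om_le E₁, fun Q hQ => ?_⟩, ?_⟩, fun a ha => ?_⟩
  · haveI hn₁ : E₁.Normal := hn.map _ φ.surjective
    haveI : Finite (normalizerIn S (om E₁)) := finite_of_le inf_le_left
    have h2 : S ≤ normalizerIn S (om E₁) := le_inf le_rfl fun g hg =>
      mem_normalizer_om (g := ⟨g, hg⟩) |>.2 (by rw [Subgroup.normalizer_eq_top_iff.2 hn₁]; exact Subgroup.mem_top _)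
    exact Subgroup.card_le_of_le (inf_le_left.trans h2)
  · obtain ⟨-, -, hn', M, hM⟩ := hE
    haveI := finite_of_le (om_le E₀)
    haveI := finite_of_le (om_le E₁)
    have hmap : (autL F E₀).map (MulAut.congr e).toMonoidHom = autL F E₁ := by
      refine le_antisymm (by rintro _ ⟨a, ha, rfl⟩; exact congr_mem_autL e hefwd hesymm ha) fun a ha => ?_
      refine ⟨MulAut.congr e.symm a, congr_mem_autL e.symm hesymm
        (homG_congr hefwd fun x => rfl) ha, MulEquiv.ext fun x => ?_⟩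
      show e (e.symm (a (e (e.symm x)))) = a x
      rw [e.apply_symm_apply, e.apply_symm_apply]
    let A : F.autGroup (om E₀) ≃* F.autGroup (om E₁) :=
      ((autEquiv E₀).symm.trans (((MulAut.congr e).subgroupMap (autL F E₀)).trans
        (MulEquiv.subgroupCongr hmap))).trans (autEquiv E₁)
    let e' : om E₀ ≃* om E₁ := (eL E₀).symm.trans (e.trans (eL E₁))
    have hA : ∀ (a : F.autGroup (om E₀)) (z : om E₀), (A a : MulAut (om E₁)) (e' z) = e' ((a : MulAut _) z) := by
      intro a z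
      show eL E₁ (e ((eL E₀).symm ((a : MulAut _) (eL E₀ (e.symm ((eL E₁).symm (eL E₁
        (e ((eL E₀).symm z))))))))) = _
      rw [MulEquiv.symm_apply_apply, MulEquiv.symm_apply_apply, MulEquiv.apply_symm_apply]
      rfl
    have hinn : ((Inn (om E₀)).subgroupOf (F.autGroup (om E₀))).map (A : _ →* _) =
        (Inn (om E₁)).subgroupOf (F.autGroup (om E₁)) := by
      ext b
      constructor
      · rintro ⟨a, ⟨q, hq⟩, rfl⟩
        refine ⟨e' q, MulEquiv.ext fun z => ?_⟩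
        obtain ⟨z, rfl⟩ := e'.surjective z
        show e' q * e' z * (e' q)⁻¹ = (A a : MulAut (om E₁)) (e' z)
        rw [hA, ← map_inv, ← map_mul, ← map_mul, ← show MulAut.conj q = (a : MulAut _) from hq]
        rfl
      · rintro ⟨q, hq⟩
        obtain ⟨a, rfl⟩ := A.surjective b
        refine ⟨a, ⟨e'.symm q, MulEquiv.ext fun z => e'.injective ?_⟩, rfl⟩
        show e' (e'.symm q * z * (e'.symm q)⁻¹) = e' ((a : MulAut _) z)
        rw [← hA, ← show MulAut.conj q = (A a : MulAut (om E₁)) from hq, map_mul, map_mul, map_inv,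
          e'.apply_symm_apply]
        rfl
    exact ⟨innSubgroupOfNormal _ _, _,
      Cfsg.Agent.MaxEss.stronglyEmbedded_map_equiv (QuotientGroup.congr _ _ A hinn) hM⟩
  · refine ⟨MulAut.congr e a, congr_mem_autL e hefwd hesymm ha, fun x hx => ?_⟩
    lift x to E₀ using hx
    rw [show φ (x : S) = ((e x : E₁) : S) from (he x).symm, app_coe, app_coe]
    show ((e (a (e.symm (e x))) : E₁) : S) = _
    rw [e.symm_apply_apply, he]
    rfl

/-- The frame of a system whose essential subgroups are all normal. -/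
noncomputable def frame (hsec : Cfsg.SectionalPRankLE p 3 S) (h3 : 3 ≤ p) (hO : F.core = ⊥)
    (hnn : ∀ E : Subgroup Ω, F.IsEssential p E → S ≤ Subgroup.normalizer (E : Set Ω)) : Frame p S where
  ess := {E₀ | F.IsEssential p (om E₀)}
  aut E := autL F E
  autTop := F.autGroup S
  normal E hE := Subgroup.normalizer_eq_top_iff.1 (nrm_eq_top hnn hE)
  index E hE := index_eq hS hF hsec h3 hE (nrm_eq_top hnn hE)
  cent E hE g hg := by
    refine (Subgroup.mem_map_iff_mem S.subtype_injective).1 (centralizerIn_le_of_centric hE.1 ⟨g.2, ?_⟩)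
    refine Subgroup.mem_centralizer_iff.2 ?_
    rintro _ ⟨x, hx, rfl⟩
    exact (congrArg Subtype.val (hg x hx).eq).symm
  conj E hE g a ha := by
    have hg : g ∈ Subgroup.normalizer (E : Set S) := (nrm_eq_top hnn hE).ge (Subgroup.mem_top g)
    rw [show a = conjN E ⟨g, hg⟩ from aut_ext fun x hx => by
      rw [ha x hx]
      exact (app_coe (conjN E ⟨g, hg⟩) ⟨x, hx⟩).symm]
    exact conj_mem_autL _
  radical E hE := radical_conj hS hF hE
  sylow E hE := sylow_conj hS hF hE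
  extend E hE a ha hnorm := by
    obtain ⟨b, hb, hbe⟩ := exists_extend hS hF hE.2.1 ha fun g _ => by
      obtain ⟨k, hk⟩ := hnorm g
      refine ⟨k, (nrm_eq_top hnn hE).ge (Subgroup.mem_top k), fun x hx => ?_⟩
      rw [← app_coe, ← app_coe]
      exact hk x x.2
    obtain ⟨χ, hχ, hχe⟩ := RankThreeCore.exists_autS (nrm_eq_top hnn hE) hb
    refine ⟨χ, hχ, fun x hx => ?_⟩
    lift x to E using hx
    rw [app_coe, hχe _ (Subgroup.le_normalizer x.2)]
    exact hbe x _
  core Q hQ hQE := by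
    by_contra hne
    exact RankThreeCore.contra_of_invariant hS hF hO Q hne hQ fun E₀ hE => ⟨(hQE E₀ hE).1, fun a ha x hx => by
      rw [← app_coe]; exact (hQE E₀ hE).2 a ha _ hx⟩
  transport φ hφ E hE := transport_ess hnn hφ hE
  fixCenter κ hκ k hk z hz := RankThreeCore.fix_center hS hF hκ k hk hz

/-- Either the group is a Sylow subgroup of the symplectic group, or some essential subgroup is not normal. -/
theorem sylow_or_nonnormal (hp2 : p ≠ 2) (hsec : Cfsg.SectionalPRankLE p 3 S)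
    (hsec2 : ¬ Cfsg.SectionalPRankLE p 2 S) (hO : F.core = ⊥) :
    (∃ P : Sylow p ↥(Matrix.symplecticGroup (Fin 2) (ZMod p)),
        Nonempty (↥S ≃* ↥(P : Subgroup ↥(Matrix.symplecticGroup (Fin 2) (ZMod p))))) ∨
      ∃ E : Subgroup Ω, F.IsEssential p E ∧ ¬ S ≤ Subgroup.normalizer (E : Set Ω) := by
  refine or_iff_not_imp_right.2 fun hno => ?_
  push Not at hno
  have h3 : 3 ≤ p := lt_of_le_of_ne hp.out.two_le (Ne.symm hp2)
  exact exists_sylow hp2 (shape (frame hS hF hsec h3 hO hno) hS hsec hsec2 hp2)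

end Cfsg.Agent.RankThreeNormal
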