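import Cfsg.Agent.Lib.RankThreeNormal.Line

/-!
A central element of order `p` of one member outside another forces the symplectic Sylow subgroup.
-/

set_option autoImplicit false
set_option linter.unusedSectionVars false
set_option linter.style.haveILetI false
set_option maxHeartbeats 1000000

open scoped commutatorElement
open Cfsg.Agent.RankThreeEss

namespace Cfsg.Agent.RankThreeNormal

variable {p : ℕ} [hp : Fact p.Prime] {G : Type*} [Group G] [Finite G]

theorem shape_or_small (f : Frame p G) (hG : IsPGroup p G) (hsec : Cfsg.SectionalPRankLE p 3 G)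
    (hp2 : p ≠ 2) {E₁ E₂ : Subgroup G} (hE₁ : E₁ ∈ f.ess)
    (hE₂ : E₂ ∈ f.ess) {z : G} (hz : z ∈ zOm p E₁) (hz2 : z ∉ E₂) :
    Shape p G ∨ (Nat.card G = p ^ 3 ∧ ∃ a b : G, ¬ Commute a b) := by
  obtain ⟨⟨X, Y, c, hX, hXp, hY1, hY2, hYp, hzY, hconj, hYc, ht, htp, hc, hc1, hc2, hX1, hDgen, hgen⟩⟩ :=
    pairData f hG hsec hE₁ hE₂ hz hz2
  haveI := f.normal E₁ hE₁
  haveI := f.normal E₂ hE₂
  haveI hCn : (Subgroup.zpowers c).Normal := ⟨fun x hx g => by
    obtain ⟨i, rfl⟩ := Subgroup.mem_zpowers_iff.1 hx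
    rw [← ((hc g).zpow_left i).eq, mul_inv_cancel_right]; exact hx⟩
  have hzp : z ^ p = 1 := hz.2.2
  have hzc : Commute z c := (hc z).symm
  have htop : ∀ K : Subgroup G, c ∈ K → Y ∈ K → X ∈ K → z ∈ K → K = ⊤ := fun K h1 h2 h3 h4 => by
    refine eq_top_of_index (f.index E₂ hE₂) ?_ h4 hz2
    rw [← hgen, ← hDgen]
    exact sup_le (sup_le (Subgroup.zpowers_le.2 h1) (Subgroup.zpowers_le.2 h2)) (Subgroup.zpowers_le.2 h3)
  obtain ⟨m, hm⟩ := IsPGroup.iff_orderOf.1 hG c
  have hcD : Nat.card (E₁ ⊓ E₂ : Subgroup G) = p * p ^ m := by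
    rw [← hDgen, card_step hG hYc (by rw [hYp]; exact one_mem _), Nat.card_zpowers, hm]
  have hcE : Nat.card E₂ = p * (p * p ^ m) := by
    rw [← hgen, card_step hG (N := E₁ ⊓ E₂) (fun h => hX1 h.1) (by rw [hXp]; exact one_mem _), hcD]
  have hcG : Nat.card G = p ^ (m + 3) := by
    rw [← E₂.card_mul_index, f.index E₂ hE₂, hcE]; ring
  have hxz : X⁻¹ * z * X = z * Y := by
    rw [hzY.eq, show X⁻¹ * z * X = X⁻¹ * (z * X * z⁻¹) * z by group, hconj, inv_mul_cancel_left]
  rcases m with _ | m
  · -- too small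
    refine Or.inr ⟨by rw [hcG], z, X, fun h => hYc ?_⟩
    rw [h.eq, mul_inv_cancel_right, left_eq_mul] at hconj
    rw [hconj]; exact one_mem _
  refine Or.inl ?_
  have hc1' : c ≠ 1 := fun h => by
    rw [h, orderOf_one] at hm
    exact absurd hm.symm (Nat.one_lt_pow (Nat.succ_ne_zero m) hp.out.one_lt).ne'
  have hcy : Commute c Y := hc Y
  rcases m with _ | m
  · rw [pow_one] at hm
    have hcp : c ^ p = 1 := hm ▸ pow_orderOf_eq_one c
    by_cases ht1 : ⁅Y, X⁆ = 1
    · -- direct product
      exfalso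
      have hYX : Commute Y X := commutatorElement_eq_one_iff_commute.1 ht1
      have hYcen : ∀ g, Commute Y g := fun g => by
        have := htop (Subgroup.centralizer {Y}) (Subgroup.mem_centralizer_iff.2 (by rintro _ rfl; exact hcy.eq.symm))
          (Subgroup.mem_centralizer_iff.2 (by rintro _ rfl; rfl))
          (Subgroup.mem_centralizer_iff.2 (by rintro _ rfl; exact hYX.eq))
          (Subgroup.mem_centralizer_iff.2 (by rintro _ rfl; exact hzY.eq.symm))
        exact Subgroup.mem_centralizer_iff.1 (this.ge (Subgroup.mem_top g)) Y rfl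
      have hY0 : Y ≠ 1 := fun h => hYc (by rw [h]; exact one_mem _)
      have hcY : c ∉ Subgroup.zpowers Y := fun h => by
        obtain ⟨i, hi⟩ := exists_ev hYp h
        exact hYc (mem_of_ev hYp (a := i) (fun h0 => hc1' (by rw [hi, h0, ev_zero])) (hi ▸ Subgroup.mem_zpowers c))
      haveI hYn : (Subgroup.zpowers Y).Normal := ⟨fun x hx g => by
        obtain ⟨i, rfl⟩ := Subgroup.mem_zpowers_iff.1 hx
        rw [← ((hYcen g).zpow_left i).eq, mul_inv_cancel_right]; exact hx⟩
      set π := QuotientGroup.mk' (Subgroup.zpowers Y) with hπ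
      have hπY : π Y = 1 := (QuotientGroup.eq_one_iff _).2 (Subgroup.mem_zpowers Y)
      have hzX : Commute (π z) (π X) := by
        have := congrArg π hconj
        rw [map_mul, map_mul, map_mul, map_inv, hπY, mul_one, mul_inv_eq_iff_eq_mul] at this
        exact this
      have hs : ∀ s ∈ ({π c, π X, π z} : Set (G ⧸ Subgroup.zpowers Y)), ∀ t ∈ ({π c, π X, π z} : Set _),
          Commute s t := by
        rintro s (rfl | rfl | rfl) t (rfl | rfl | rfl) <;> first
          | exact Commute.refl _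
          | exact (hc X).map π | exact ((hc X).map π).symm | exact (hc z).map π | exact ((hc z).map π).symm
          | exact hzX | exact hzX.symm
      have hall : ∀ g, π g ∈ Subgroup.closure ({π c, π X, π z} : Set (G ⧸ Subgroup.zpowers Y)) := fun g => by
        have := htop ((Subgroup.closure ({π c, π X, π z} : Set (G ⧸ Subgroup.zpowers Y))).comap π)
          (Subgroup.subset_closure (by simp)) (by rw [Subgroup.mem_comap, hπY]; exact one_mem _)
          (Subgroup.subset_closure (by simp)) (Subgroup.subset_closure (by simp))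
        exact (this.ge (Subgroup.mem_top g) :)
      haveI := comm_closure hs
      have hder : ∀ a b : G, ⁅a, b⁆ ∈ Subgroup.zpowers Y := fun a b => by
        refine (QuotientGroup.eq_one_iff _).1 (show π _ = 1 from ?_)
        rw [map_commutatorElement, commutatorElement_eq_one_iff_mul_comm]
        exact congrArg Subtype.val (mul_comm' (⟨_, hall a⟩ : Subgroup.closure _) ⟨_, hall b⟩)
      have hcl : ∀ a b g : G, Commute ⁅a, b⁆ g := fun a b g => by
        obtain ⟨i, hi⟩ := Subgroup.mem_zpowers_iff.1 (hder a b)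
        rw [← hi]; exact (hYcen g).zpow_left i
      have hdp : ∀ a b : G, ⁅a, b⁆ ^ p = 1 := fun a b => by
        obtain ⟨i, hi⟩ := Subgroup.mem_zpowers_iff.1 (hder a b)
        rw [← hi, ← zpow_natCast, ← zpow_mul, mul_comm, zpow_mul, zpow_natCast, hYp, one_zpow]
      have hexp : ∀ g : G, g ^ p = 1 := by
        let K : Subgroup G :=
          { carrier := {g | g ^ p = 1}
            one_mem' := one_pow p
            mul_mem' := fun {a b} ha hb => show (a * b) ^ p = 1 by rw [mul_pow_prime hp2 hcl hdp, ha, hb, one_mul]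
            inv_mem' := fun {a} ha => show a⁻¹ ^ p = 1 by rw [inv_pow, ha, inv_one] }
        exact fun g => (htop K hcp hYp hXp hzp).ge (Subgroup.mem_top g)
      have hfr : frattini G = Subgroup.zpowers Y := by
        refine le_antisymm (Cfsg.Agent.LEFrattini.frattini_le (p := p) hder
          fun g => by rw [hexp]; exact one_mem _) (Subgroup.zpowers_le.2 ?_)
        rw [show Y = ⁅X⁻¹, z⁆ by
          rw [commutatorElement_def, inv_inv, hxz, hzY.eq, mul_inv_cancel_right]]
        exact commutator_mem_frattini hG _ _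
      set P := Subgroup.zpowers c ⊔ Subgroup.zpowers Y with hP
      have hPc : ∀ x ∈ P, ∀ g, Commute x g := fun x hx g => by
        have h : P ≤ Subgroup.center G :=
          sup_le (Subgroup.zpowers_le.2 (Subgroup.mem_center_iff.2 fun g => (hc g).eq.symm))
            (Subgroup.zpowers_le.2 (Subgroup.mem_center_iff.2 fun g => (hYcen g).eq.symm))
        exact (Subgroup.mem_center_iff.1 (h hx) g).symm
      have hcP : Nat.card P = p * p := by rw [hDgen, hcD, pow_one]
      haveI hPn : P.Normal := ⟨fun x hx g => by rw [← (hPc x hx g).eq, mul_inv_cancel_right]; exact hx⟩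
      refine line_contra f hG hp2 hc hYcen hcp hYp hY0 hcY hfr (fun x hx => ?_) (fun E hE => ?_) hE₁ hE₂
        fun h => hz2 (h ▸ hz.1)
      · haveI := f.normal E₂ hE₂
        have htop2 : E₂ ⊔ Subgroup.zpowers z = ⊤ :=
          eq_top_of_index (f.index E₂ hE₂) le_sup_left (Subgroup.mem_sup_right (Subgroup.mem_zpowers z)) hz2
        obtain ⟨e, he, w, hw, rfl⟩ := Subgroup.mem_sup_of_normal_left.1 (htop2.ge (Subgroup.mem_top x))
        obtain ⟨i, rfl⟩ := exists_ev hzp hw
        haveI : (E₁ ⊓ E₂).Normal := inferInstance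
        obtain ⟨d, hd, u, hu, rfl⟩ := Subgroup.mem_sup_of_normal_left.1 (hgen.ge he)
        obtain ⟨j, rfl⟩ := exists_ev hXp hu
        have hdc := hPc d (hDgen.ge hd)
        have hconjn : ∀ n : ℕ, z ^ n * X * (z ^ n)⁻¹ = X * Y ^ n := by
          intro n
          induction n with
          | zero => simp
          | succ n ih =>
            rw [pow_succ', mul_inv_rev, show z * z ^ n * X * ((z ^ n)⁻¹ * z⁻¹) = z * (z ^ n * X * (z ^ n)⁻¹) * z⁻¹ by group,
              ih, show z * (X * Y ^ n) * z⁻¹ = z * X * z⁻¹ * (z * Y ^ n * z⁻¹) by group, hconj,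
              (hzY.pow_right n).eq, mul_inv_cancel_right, mul_assoc, ← pow_succ']
        have hi : i = 0 := by
          have h1 : Commute (ev z i) X := by
            have h2 : Commute (ev X j) X := (Commute.refl X).pow_left _
            have h3 : Commute (d * ev X j * ev z i) X := hx X
            have h4 : Commute (d * ev X j) X := (hdc X).mul_left h2
            have := h4.inv_left.mul_left h3
            rwa [← mul_assoc, inv_mul_cancel, one_mul] at this
          have h := hconjn i.val
          rw [show z ^ i.val = ev z i from rfl, h1.eq, mul_inv_cancel_right, left_eq_mul] at h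
          exact ev_eq_one hYp hY0 h
        rw [hi, ev_zero, mul_one] at hx ⊢
        have hj : j = 0 := by
          have h1 : Commute z (ev X j) := by
            have h3 : Commute (d * ev X j) z := hx z
            have := (hdc z).inv_left.mul_left h3
            rw [inv_mul_cancel_left] at this
            exact this.symm
          have h := congrArg (fun q => q ^ j.val) hconj
          simp only [conj_pow] at h
          rw [show X ^ j.val = ev X j from rfl, h1.eq, mul_inv_cancel_right, (hYX.symm).mul_pow,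
            show X ^ j.val = ev X j from rfl, left_eq_mul] at h
          exact ev_eq_one hYp hY0 h
        rw [hj, ev_zero, mul_one]
        exact hDgen.ge hd
      · have hPE : P ≤ E := fun x hx => f.cent E hE x fun y _ => hPc x hx y
        have hcE' : Nat.card E = p ^ 3 := by
          have h := E.card_mul_index
          rw [f.index E hE, hcG] at h
          exact Nat.eq_of_mul_eq_mul_right hp.out.pos (h.trans (by ring))
        obtain ⟨u, hu, huP⟩ := exists_not_mem (N := P) (B := E) (by
          rw [hcP, hcE', pow_succ, pow_two]; exact lt_mul_of_one_lt_right (Nat.mul_pos hp.out.pos hp.out.pos) hp.out.one_lt)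
        have hEeq := eq_sup hG hPE (by rw [hcE', hcP, pow_succ', pow_two]) hu huP
        refine ⟨fun x hx y hy => ?_, fun x _ => hexp x, hcE'⟩
        have hs' : ∀ s ∈ ((P : Set G) ∪ {u}), ∀ t ∈ ((P : Set G) ∪ {u}), Commute s t := by
          rintro s (hs | rfl) t (ht | rfl)
          exacts [hPc s hs t, hPc s hs _, (hPc t ht _).symm, Commute.refl _]
        haveI := comm_closure hs'
        have hle : E ≤ Subgroup.closure ((P : Set G) ∪ {u}) := hEeq.ge.trans
          (sup_le (fun x hx => Subgroup.subset_closure (Or.inl hx))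
            (Subgroup.zpowers_le.2 (Subgroup.subset_closure (Or.inr rfl))))
        exact congrArg Subtype.val (mul_comm' (⟨x, hle hx⟩ : Subgroup.closure _) ⟨y, hle hy⟩)
    · -- the symplectic case
      obtain ⟨t, htd⟩ : ∃ t, t = ⁅Y, X⁆ := ⟨_, rfl⟩
      rw [← htd] at ht htp ht1
      have hcmem : c ∈ Subgroup.zpowers t := by
        obtain ⟨i, hi⟩ := exists_ev hcp ht
        exact mem_of_ev hcp (a := i) (fun h => ht1 (by rw [hi, h, ev_zero])) (hi ▸ Subgroup.mem_zpowers t)
      have htc : ∀ g, Commute t g := fun g => by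
        obtain ⟨i, hi⟩ := Subgroup.mem_zpowers_iff.1 ht
        rw [← hi]; exact (hc g).zpow_left i
      refine ⟨hcG, z, Y, t, X⁻¹, hzp, hYp, htp, by rw [inv_pow, hXp, inv_one], hzY, (htc z).symm, (htc Y).symm,
        (htc X⁻¹).symm, by rwa [inv_inv], ?_, ?_⟩
      · rw [inv_inv]
        calc X⁻¹ * Y * X = X⁻¹ * (t * X * Y) := by rw [htd, commutatorElement_def]; group
          _ = X⁻¹ * t * X * Y := by group
          _ = Y * t := by rw [(htc X⁻¹).eq.symm, inv_mul_cancel_right, (htc Y).eq]
      · refine htop _ ?_ (Subgroup.subset_closure (by simp)) ?_ (Subgroup.subset_closure (by simp))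
        · exact (Subgroup.zpowers_le.2 (Subgroup.subset_closure (by simp))) hcmem
        · simpa using inv_mem (Subgroup.subset_closure (show X⁻¹ ∈ ({z, Y, t, X⁻¹} : Set G) by simp))
  -- a long centre
  exfalso
  set q := c ^ p ^ (m + 1) with hq
  have hq1 : q ≠ 1 := fun h => by
    have := orderOf_dvd_of_pow_eq_one h
    rw [hm, Nat.pow_dvd_pow_iff_le_right hp.out.one_lt] at this
    omega
  have hqp : q ^ p = 1 := by rw [hq, ← pow_mul, ← pow_succ, ← hm, pow_orderOf_eq_one]
  have htq : ⁅Y, X⁆ ∈ Subgroup.zpowers q := by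
    obtain ⟨k, hk⟩ := Subgroup.mem_zpowers_iff.1 ht
    have h : c ^ (k * p) = 1 := by rw [zpow_mul, hk, zpow_natCast, htp]
    have hd := orderOf_dvd_iff_zpow_eq_one.2 h
    rw [hm, pow_succ, Nat.cast_mul] at hd
    obtain ⟨l, hl⟩ := Int.dvd_of_mul_dvd_mul_right (by exact_mod_cast hp.out.ne_zero) hd
    exact ⟨l, by show q ^ l = _; rw [← hk, hl, hq, ← zpow_natCast, ← zpow_mul]⟩
  haveI hPn : (Subgroup.zpowers (c ^ p)).Normal := ⟨fun x hx g => by
    obtain ⟨i, rfl⟩ := Subgroup.mem_zpowers_iff.1 hx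
    rw [← (((hc g).pow_left p).zpow_left i).eq, mul_inv_cancel_right]; exact hx⟩
  have hqP : q ∈ Subgroup.zpowers (c ^ p) := by
    rw [hq, pow_succ', pow_mul]; exact pow_mem (Subgroup.mem_zpowers _) _
  set π := QuotientGroup.mk' (Subgroup.zpowers (c ^ p)) with hπ
  have hπt : Commute (π Y) (π X) := by
    rw [← commutatorElement_eq_one_iff_commute, ← map_commutatorElement]
    exact (QuotientGroup.eq_one_iff _).2 ((Subgroup.zpowers_le.2 hqP) htq)
  have hgenQ : ∀ K : Subgroup (G ⧸ Subgroup.zpowers (c ^ p)), π c ∈ K → π Y ∈ K → π X ∈ K → π z ∈ K → ∀ g, π g ∈ K :=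
    fun K h1 h2 h3 h4 g => ((htop (K.comap π) h1 h2 h3 h4).ge (Subgroup.mem_top g) :)
  have hcen : ∀ {w : G}, Commute (π w) (π c) → Commute (π w) (π Y) → Commute (π w) (π X) → Commute (π w) (π z) →
      π w ∈ Subgroup.center _ := fun {w} h1 h2 h3 h4 => Subgroup.mem_center_iff.2 fun r => by
    obtain ⟨r, rfl⟩ := QuotientGroup.mk'_surjective _ r
    have := hgenQ (Subgroup.centralizer {π w}) (Subgroup.mem_centralizer_iff.2 (by rintro _ rfl; exact h1.eq))
      (Subgroup.mem_centralizer_iff.2 (by rintro _ rfl; exact h2.eq))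
      (Subgroup.mem_centralizer_iff.2 (by rintro _ rfl; exact h3.eq))
      (Subgroup.mem_centralizer_iff.2 (by rintro _ rfl; exact h4.eq)) r
    exact (Subgroup.mem_centralizer_iff.1 this _ rfl).symm
  have hc' := hcen (Commute.refl _) ((hc Y).map π) ((hc X).map π) ((hc z).map π)
  have hY' := hcen (w := Y) ((hcy.map π).symm) (Commute.refl _) hπt ((hzY.map π).symm)
  have hzero : ∀ a b : G ⧸ Subgroup.zpowers (c ^ p), ⁅a, b⁆ ∈ Subgroup.zpowers (π Y) := by
    haveI : (Subgroup.zpowers (π Y)).Normal := ⟨fun x hx g => by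
      rw [Subgroup.mem_center_iff.1 ((Subgroup.zpowers_le.2 hY') hx) g, mul_inv_cancel_right]; exact hx⟩
    set ρ := QuotientGroup.mk' (Subgroup.zpowers (π Y)) with hρ
    have hρY : ρ (π Y) = 1 := (QuotientGroup.eq_one_iff _).2 (Subgroup.mem_zpowers _)
    have hzX : Commute (ρ (π z)) (ρ (π X)) := by
      have := congrArg (fun g => ρ (π g)) hconj
      simp only [map_mul, map_inv, hρY, mul_one, mul_inv_eq_iff_eq_mul] at this
      exact this
    set T : Set ((G ⧸ Subgroup.zpowers (c ^ p)) ⧸ Subgroup.zpowers (π Y)) := {ρ (π c), ρ (π X), ρ (π z)} with hT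
    have hs : ∀ s ∈ T, ∀ t ∈ T, Commute s t := by
      rintro s (rfl | rfl | rfl) t (rfl | rfl | rfl) <;> first
        | exact Commute.refl _
        | exact ((hc X).map π).map ρ | exact (((hc X).map π).map ρ).symm
        | exact ((hc z).map π).map ρ | exact (((hc z).map π).map ρ).symm
        | exact hzX | exact hzX.symm
    haveI := comm_closure hs
    have hall : ∀ r, ρ r ∈ Subgroup.closure T := fun r => by
      obtain ⟨r, rfl⟩ := QuotientGroup.mk'_surjective _ r
      exact hgenQ ((Subgroup.closure T).comap ρ) (Subgroup.subset_closure (by simp [hT]))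
        (by rw [Subgroup.mem_comap, hρY]; exact one_mem _) (Subgroup.subset_closure (by simp [hT]))
        (Subgroup.subset_closure (by simp [hT])) r
    intro a b
    refine (QuotientGroup.eq_one_iff _).1 (show ρ _ = 1 from ?_)
    rw [map_commutatorElement, commutatorElement_eq_one_iff_mul_comm]
    exact congrArg Subtype.val (mul_comm' (⟨_, hall a⟩ : Subgroup.closure T) ⟨_, hall b⟩)
  have hexp : ∀ g : G, g ^ p ∈ Subgroup.zpowers (c ^ p) := by
    have hcl : ∀ a b g : G ⧸ Subgroup.zpowers (c ^ p), Commute ⁅a, b⁆ g := fun a b g =>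
      (Subgroup.mem_center_iff.1 ((Subgroup.zpowers_le.2 hY') (hzero a b)) g).symm
    have hdp : ∀ a b : G ⧸ Subgroup.zpowers (c ^ p), ⁅a, b⁆ ^ p = 1 := fun a b => by
      obtain ⟨i, hi⟩ := Subgroup.mem_zpowers_iff.1 (hzero a b)
      rw [← hi, ← zpow_natCast (π Y ^ i) p, zpow_comm, zpow_natCast (π Y) p, ← map_pow, hYp, map_one, one_zpow]
    let K : Subgroup (G ⧸ Subgroup.zpowers (c ^ p)) :=
      { carrier := {g | g ^ p = 1}
        one_mem' := one_pow p
        mul_mem' := fun {a b} ha hb => show (a * b) ^ p = 1 by rw [mul_pow_prime hp2 hcl hdp, ha, hb, one_mul]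
        inv_mem' := fun {a} ha => show a⁻¹ ^ p = 1 by rw [inv_pow, ha, inv_one] }
    intro g
    refine (QuotientGroup.eq_one_iff _).1 (show π (g ^ p) = 1 from ?_)
    rw [map_pow]
    exact hgenQ K (show π c ^ p = 1 by rw [← map_pow]; exact (QuotientGroup.eq_one_iff _).2 (Subgroup.mem_zpowers _))
      (show π Y ^ p = 1 by rw [← map_pow, hYp, map_one]) (show π X ^ p = 1 by rw [← map_pow, hXp, map_one])
      (show π z ^ p = 1 by rw [← map_pow, hzp, map_one]) g
  have hpow : ∀ g : G, g ^ p ^ (m + 1) ∈ Subgroup.zpowers q := fun g => by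
    obtain ⟨i, hi⟩ := Subgroup.mem_zpowers_iff.1 (hexp g)
    rw [pow_succ', pow_mul, ← hi, ← zpow_natCast, ← zpow_mul, mul_comm, zpow_mul, zpow_natCast, ← pow_mul,
      ← pow_succ', ← hq]
    exact zpow_mem (Subgroup.mem_zpowers q) i
  refine hq1 (Subgroup.zpowers_eq_bot.1 (f.core (Subgroup.zpowers q) (fun φ _ x hx => ?_) fun E hE => ⟨?_, ?_⟩))
  · obtain ⟨i, rfl⟩ := Subgroup.mem_zpowers_iff.1 hx
    rw [map_zpow, hq, map_pow]
    exact zpow_mem (hpow _) i
  · exact Subgroup.zpowers_le.2 (pow_mem (f.cent E hE c fun x _ => hc x) _)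
  · intro a _ x hx
    obtain ⟨i, rfl⟩ := Subgroup.mem_zpowers_iff.1 hx
    have hcE' : c ∈ E := f.cent E hE c fun x _ => hc x
    rw [app_zpow a (pow_mem hcE' _), hq, app_pow a hcE']
    exact zpow_mem (hpow _) i

/-- A pair gives the symplectic shape when the sectional rank is three. -/
theorem shape_of_pair (f : Frame p G) (hG : IsPGroup p G) (hsec : Cfsg.SectionalPRankLE p 3 G)
    (hsec2 : ¬ Cfsg.SectionalPRankLE p 2 G) (hp2 : p ≠ 2) {E₁ E₂ : Subgroup G} (hE₁ : E₁ ∈ f.ess)
    (hE₂ : E₂ ∈ f.ess) {z : G} (hz : z ∈ zOm p E₁) (hz2 : z ∉ E₂) : Shape p G := by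
  refine (shape_or_small f hG hsec hp2 hE₁ hE₂ hz hz2).resolve_right ?_
  rintro ⟨hcG, a, b, hab⟩
  refine hsec2 fun H N _ A hA hAe => ?_
  by_contra hlt
  push Not at hlt
  obtain ⟨k, hk⟩ := IsPGroup.iff_card.1 (((hG.to_subgroup H).to_quotient N).to_subgroup A)
  rw [hk] at hlt
  have h3 : p ^ 3 ≤ Nat.card A := hk ▸ Nat.pow_le_pow_right hp.out.pos ((Nat.pow_lt_pow_iff_right hp.out.one_lt).1 hlt)
  have e1 := Subgroup.card_le_card_group A
  have e2 : Nat.card N * Nat.card (H ⧸ N) = Nat.card H := by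
    rw [← Subgroup.index_eq_card]; exact N.card_mul_index
  have e3 := Subgroup.card_le_card_group H
  rw [hcG] at e3
  have e4 : Nat.card (H ⧸ N) ≤ Nat.card H := by
    rw [← e2]; exact Nat.le_mul_of_pos_left _ Nat.card_pos
  have hAtop : A = ⊤ := Subgroup.eq_top_of_card_eq A (by omega)
  have hHtop : H = ⊤ := Subgroup.eq_top_of_card_eq H (by rw [hcG]; omega)
  have hN : Nat.card N = 1 := by
    have he : Nat.card (H ⧸ N) = Nat.card H := by omega
    rw [he] at e2
    exact Nat.eq_of_mul_eq_mul_right Nat.card_pos (e2.trans (one_mul _).symm)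
  have ha : a ∈ H := hHtop ▸ Subgroup.mem_top a
  have hb : b ∈ H := hHtop ▸ Subgroup.mem_top b
  have h := congrArg Subtype.val (mul_comm' (⟨QuotientGroup.mk' N ⟨a, ha⟩, hAtop ▸ Subgroup.mem_top _⟩ : A)
    ⟨QuotientGroup.mk' N ⟨b, hb⟩, hAtop ▸ Subgroup.mem_top _⟩)
  have hmem : ⁅(⟨a, ha⟩ : H), ⟨b, hb⟩⁆ ∈ N := by
    refine (QuotientGroup.eq_one_iff _).1 (show QuotientGroup.mk' N _ = 1 from ?_)
    rw [map_commutatorElement, commutatorElement_eq_one_iff_mul_comm]
    exact h
  rw [Subgroup.card_eq_one.1 hN, Subgroup.mem_bot] at hmem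
  exact hab (commutatorElement_eq_one_iff_commute.1 (congrArg Subtype.val hmem))

end Cfsg.Agent.RankThreeNormal
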