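import Cfsg.Agent.Lib.RankThreeNormal.Moving
import Cfsg.Agent.Lib.RankThreeNormal.Transv

/-!
Conjugates of the plane of the moving member that do not commute.
-/

set_option autoImplicit false
set_option linter.unusedSectionVars false
set_option linter.style.haveILetI false
set_option maxHeartbeats 1000000

open scoped commutatorElement
open Cfsg.Agent.RankThreeEss

namespace Cfsg.Agent.RankThreeNormal

variable {p : ℕ} [hp : Fact p.Prime] {G : Type*} [Group G] [Finite G]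

/-- The subgroup generated by the images of `V`. -/
noncomputable def span (f : Frame p G) (E V : Subgroup G) : Subgroup G :=
  Subgroup.closure {x | ∃ b ∈ f.aut E, ∃ v ∈ V, app b v = x}

theorem app_mem_span {f : Frame p G} {E V : Subgroup G} {b : MulAut E} (hb : b ∈ f.aut E) {v : G} (hv : v ∈ V) :
    app b v ∈ span f E V := Subgroup.subset_closure ⟨b, hb, v, hv, rfl⟩

theorem le_span (f : Frame p G) {E V : Subgroup G} : V ≤ span f E V := fun v hv => by
  have := app_mem_span (f := f) (E := E) (one_mem _) hv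
  rwa [app_one_aut] at this

theorem span_le (f : Frame p G) {E V : Subgroup G} (hV : V ≤ E) : span f E V ≤ E :=
  (Subgroup.closure_le _).2 (by rintro _ ⟨b, -, v, hv, rfl⟩; exact app_mem b (hV hv))

theorem span_inv (f : Frame p G) {E V : Subgroup G} (hV : V ≤ E) : Inv (f.aut E) (span f E V) := by
  intro d hd u hu
  let K : Subgroup G :=
    { carrier := {x | x ∈ E ∧ app d x ∈ span f E V}
      one_mem' := ⟨one_mem _, by rw [app_one]; exact one_mem _⟩
      mul_mem' := fun {x z} hx hz => ⟨mul_mem hx.1 hz.1, by rw [app_mul d hx.1 hz.1]; exact mul_mem hx.2 hz.2⟩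
      inv_mem' := fun {x} hx => ⟨inv_mem hx.1, by rw [app_inv d hx.1]; exact inv_mem hx.2⟩ }
  have hK : span f E V ≤ K := (Subgroup.closure_le _).2 (by
    rintro _ ⟨b, hb, v, hv, rfl⟩
    exact ⟨app_mem b (hV hv), by rw [← app_mul_aut]; exact app_mem_span (mul_mem hd hb) hv⟩)
  exact (hK hu).2

theorem close_contra (f : Frame p G) (hG : IsPGroup p G) (hsec : Cfsg.SectionalPRankLE p 3 G)
    [Nontrivial G] (hp2 : p ≠ 2) (hall : ∀ A ∈ f.ess, ∀ B ∈ f.ess, zOm p A ≤ B)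
    {E₁ E : Subgroup G} (hE₁ : E₁ ∈ f.ess) (hm : Moves f E₁) (hE : E ∈ f.ess) {a : MulAut E} (ha : a ∈ f.aut E)
    {v₀ y : G} (hv₀ : v₀ ∈ zOm p E₁) (hy : y ∈ zOm p E₁) (hne : ¬ Commute (app a v₀) y) : False := by
  haveI := f.normal E₁ hE₁
  haveI := f.normal E hE
  set V := zOm p E₁ with hV
  set Zb := zOm p (⊤ : Subgroup G) with hZb
  haveI hVn : V.Normal := f.normal_of_inv hE₁ zOm_le (zOm_inv _)
  have hVE : V ≤ E := hall E₁ hE₁ E hE
  have hVc : ∀ x ∈ V, ∀ z ∈ V, Commute x z := fun x hx z hz => hx.2.1 z hz.1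
  have hEne : E ≠ E₁ := by
    rintro rfl
    exact hne (hVc _ (zOm_inv _ a ha v₀ hv₀) y hy)
  have hZi : Inv (f.aut E) Zb := by
    by_contra h
    exact hEne (moves_unique hG hsec hp2 hall hE hE₁ h hm)
  have hZV : Zb ≤ V := zb_le f hE₁
  set z := app a v₀ with hz
  have hzE : z ∈ E := app_mem a (hVE hv₀)
  have hz1 : z ∉ E₁ := fun h => hne ((hy.2.1 z h).symm)
  have hzp : z ^ p = 1 := by rw [hz, ← app_pow a (hVE hv₀), hv₀.2.2, app_one]
  set W := span f E V with hW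
  have hWE : W ≤ E := span_le f hVE
  have hWi : Inv (f.aut E) W := span_inv f hVE
  haveI hWn : W.Normal := f.normal_of_inv hE hWE hWi
  have hzW : z ∈ W := app_mem_span ha hv₀
  have hnV : ∀ e ∈ E, ∀ x ∈ V, e * x * e⁻¹ ∈ V := fun e _ x hx => hVn.conj_mem x hx e
  -- commutators of the generators are central
  have hgc : ∀ b ∈ f.aut E, ∀ c ∈ f.aut E, ∀ x ∈ V, ∀ x' ∈ V, ⁅app b x, app c x'⁆ ∈ Zb := by
    intro b hb c hc x hx x' hx'
    rw [show app c x' = app b (app (b⁻¹ * c) x') by rw [← app_mul_aut, mul_inv_cancel_left],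
      ← app_commutator b (hVE hx) (app_mem _ (hVE hx'))]
    refine hZi b hb _ ?_
    set d := b⁻¹ * c with hd
    by_cases hu : app d x' ∈ E₁
    · rw [commutatorElement_eq_one_iff_commute.2 (hx.2.1 _ hu)]; exact one_mem _
    obtain ⟨hJ1, hJ2⟩ := comm_mem_inf hnV (f.conj_img hE d) hVE img_le hx (app_mem_img (a := d) (hVE hx') hx')
    have hcu : Commute ⁅x, app d x'⁆ (app d x') := by
      obtain ⟨r, hrE, hr, hre⟩ := mem_img.1 hJ2
      rw [← hre]
      show app d r * app d x' = app d x' * app d r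
      rw [← app_mul d hrE (hVE hx'), ← app_mul d (hVE hx') hrE, (hVc r hr x' hx').eq]
    refine mem_zb.2 ⟨fun g => ?_, hJ1.2.2⟩
    have htop : E₁ ⊔ Subgroup.zpowers (app d x') ≤ Subgroup.centralizer {⁅x, app d x'⁆} := sup_le
      (fun e he => Subgroup.mem_centralizer_iff.2 (by rintro _ rfl; exact (hJ1.2.1 e he).eq))
      (Subgroup.zpowers_le.2 (Subgroup.mem_centralizer_iff.2 (by rintro _ rfl; exact hcu.eq)))
    rw [eq_top_of_index (f.index E₁ hE₁) le_sup_left (Subgroup.mem_sup_right (Subgroup.mem_zpowers _)) hu] at htop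
    exact Subgroup.mem_centralizer_iff.1 (htop (Subgroup.mem_top g)) _ rfl
  set π := QuotientGroup.mk' Zb with hπ
  have hWc : ∀ x ∈ W, ∀ u ∈ W, ⁅x, u⁆ ∈ Zb := by
    intro x hx u hu
    set T : Set (G ⧸ Zb) := π '' {x | ∃ b ∈ f.aut E, ∃ v ∈ V, app b v = x} with hT
    have hs : ∀ s ∈ T, ∀ t ∈ T, Commute s t := by
      rintro _ ⟨_, ⟨b, hb, x, hx, rfl⟩, rfl⟩ _ ⟨_, ⟨c, hc, x', hx', rfl⟩, rfl⟩
      rw [← commutatorElement_eq_one_iff_commute, ← map_commutatorElement]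
      exact (QuotientGroup.eq_one_iff _).2 (hgc b hb c hc x hx x' hx')
    haveI := comm_closure hs
    have hm' : ∀ {r : G}, r ∈ W → π r ∈ Subgroup.closure T := fun {r} hr => by
      rw [hT, ← MonoidHom.map_closure]; exact ⟨r, hr, rfl⟩
    refine (QuotientGroup.eq_one_iff _).1 (show π _ = 1 from ?_)
    rw [map_commutatorElement, commutatorElement_eq_one_iff_mul_comm]
    exact congrArg Subtype.val (mul_comm' (⟨_, hm' hx⟩ : Subgroup.closure T) ⟨_, hm' hu⟩)
  have hWp : ∀ x ∈ W, x ^ p = 1 := by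
    have hcl : ∀ s t g : W, Commute ⁅s, t⁆ g := fun s t g =>
      Subtype.ext ((mem_zb.1 (hWc _ s.2 _ t.2)).1 g).eq
    have hdp : ∀ s t : W, ⁅s, t⁆ ^ p = 1 := fun s t => Subtype.ext (mem_zb.1 (hWc _ s.2 _ t.2)).2
    let K : Subgroup G :=
      { carrier := {x | x ∈ W ∧ x ^ p = 1}
        one_mem' := ⟨one_mem _, one_pow p⟩
        mul_mem' := fun {x u} hx hu => ⟨mul_mem hx.1 hu.1, by
          have h := mul_pow_prime hp2 hcl hdp ⟨x, hx.1⟩ ⟨u, hu.1⟩
          have h' := congrArg Subtype.val h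
          simp only [SubmonoidClass.coe_pow, Subgroup.coe_mul] at h'
          rw [h', hx.2, hu.2, one_mul]⟩
        inv_mem' := fun {x} hx => ⟨inv_mem hx.1, by rw [inv_pow, hx.2, inv_one]⟩ }
    have hK : W ≤ K := (Subgroup.closure_le _).2 (by
      rintro _ ⟨b, hb, x, hx, rfl⟩
      exact ⟨app_mem_span hb hx, by rw [← app_pow b (hVE hx), hx.2.2, app_one]⟩)
    exact fun x hx => (hK hx).2
  have hyZ : y ∉ Zb := fun h => hne (((mem_zb.1 h).1 z).symm)
  have hyp : y ^ p = 1 := hy.2.2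
  have hVW : V ≤ W := le_span f
  have hnc : ∀ {x : G}, ⁅z, x⁆ ^ p = 1 → ⁅z, x⁆ ∈ Zb → ∀ i : ZMod p, ⁅z, ev x i⁆ = ev ⁅z, x⁆ i := by
    intro x _ hc i
    have hcz := (mem_zb.1 hc).1
    exact comm_pow_right hcz _
  -- the intersection with the moving member
  have hB : ∀ x ∈ W, x ∈ E₁ → x ∈ V := by
    by_contra! hh
    obtain ⟨x, hxW, hx1, hxV⟩ := hh
    have hc : ∀ s ∈ (V : Set G) ∪ {x}, ∀ t ∈ (V : Set G) ∪ {x}, Commute s t := by
      rintro s (hs | rfl) t (ht | rfl)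
      exacts [hVc s hs t ht, hs.2.1 _ hx1, (ht.2.1 _ hx1).symm, Commute.refl _]
    haveI := comm_closure hc
    set B := V ⊔ Subgroup.zpowers x with hB
    have hBcl : B ≤ Subgroup.closure ((V : Set G) ∪ {x}) := sup_le (fun r hr => Subgroup.subset_closure (Or.inl hr))
      (Subgroup.zpowers_le.2 (Subgroup.subset_closure (Or.inr rfl)))
    have hBc : ∀ r ∈ B, ∀ s ∈ B, Commute r s := fun r hr s hs =>
      congrArg Subtype.val (mul_comm' (⟨r, hBcl hr⟩ : Subgroup.closure _) ⟨s, hBcl hs⟩)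
    have hBW : B ≤ W := sup_le hVW (Subgroup.zpowers_le.2 hxW)
    have hB3 := card_elem_le hG hsec B hBc fun r hr => hWp r (hBW hr)
    have hcB := card_step hG hxV (by rw [hWp x hxW]; exact one_mem _)
    have l1 := hm.card_lt hE₁ hG
    have hZp := zb_card (p := p) hG
    rw [hcB] at hB3
    have a1 : Nat.card V ≤ p ^ 2 := Nat.le_of_mul_le_mul_left (hB3.trans (by rw [← pow_succ'])) hp.out.pos
    have a2 : p ^ 2 ≤ Nat.card V := by rw [pow_two]; exact (Nat.mul_le_mul_left p hZp).trans l1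
    have hV2 : Nat.card V = p ^ 2 := le_antisymm a1 a2
    have hZ : Nat.card Zb = p := le_antisymm (by
      rw [hV2, pow_two] at l1; exact Nat.le_of_mul_le_mul_left l1 hp.out.pos) hZp
    have hVeq : Zb ⊔ Subgroup.zpowers y = V := eq_sup hG hZV (by rw [hV2, hZ, pow_two]) hy hyZ
    set t := ⁅z, y⁆ with ht
    have htZ : t ∈ Zb := hWc z hzW y (hVW hy)
    have ht1 : t ≠ 1 := fun h => hne (commutatorElement_eq_one_iff_commute.1 h)
    have hZgen : Subgroup.zpowers t = Zb := Subgroup.eq_of_le_of_card_ge (Subgroup.zpowers_le.2 htZ) (by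
      rw [hZ, Nat.card_zpowers, orderOf_eq_prime (mem_zb.1 htZ).2 ht1])
    have hzB : z ∉ B := fun h => hz1 ((sup_le zOm_le (Subgroup.zpowers_le.2 hx1)) h)
    have hgen : W ≤ B ⊔ Subgroup.zpowers z := by
      intro u hu
      by_contra hu'
      refine no_pair hG hsec (Z₀ := Zb) (V := B) (hZV.trans le_sup_left) (v₁ := y) (v₂ := x) (x := z) (y := u)
        (Subgroup.mem_sup_left hy) (Subgroup.mem_sup_right (Subgroup.mem_zpowers x)) hyZ (hVeq.symm ▸ hxV) hzB hu'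
        ?_ ?_ ?_ ?_ ?_ ?_ ?_ ?_ ?_ ?_
      all_goals first
        | exact hWc _ (hVW hy) _ hxW | exact hWc _ (hVW hy) _ hzW | exact hWc _ (hVW hy) _ hu
        | exact hWc _ hxW _ hzW | exact hWc _ hxW _ hu | exact hWc _ hzW _ hu
        | (rw [hyp]; exact one_mem _) | (rw [hWp x hxW]; exact one_mem _) | (rw [hzp]; exact one_mem _)
        | (rw [hWp u hu]; exact one_mem _)
    obtain ⟨i, hi⟩ := exists_ev (mem_zb.1 htZ).2 (hZgen.ge (hWc z hzW x hxW))
    set x' := x * ev y (-i) with hx'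
    have hx'z : Commute z x' := by
      rw [← commutatorElement_eq_one_iff_commute, hx', comm_mul_right, hi, hnc (mem_zb.1 htZ).2 htZ, ← ht,
        ← ev_add (mem_zb.1 htZ).2, add_neg_cancel, ev_zero]
      rw [hnc (mem_zb.1 htZ).2 htZ]
      exact (mem_zb.1 (ev_mem htZ _)).1
    have hx'B : x' ∈ B := mul_mem (Subgroup.mem_sup_right (Subgroup.mem_zpowers x))
      (Subgroup.mem_sup_left (ev_mem hy _))
    have hx'W : ∀ r ∈ W, Commute x' r := fun r hr => by
      have hle : B ⊔ Subgroup.zpowers z ≤ Subgroup.centralizer {x'} := sup_le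
        (fun s hs => Subgroup.mem_centralizer_iff.2 (by rintro _ rfl; exact (hBc _ hx'B s hs).eq))
        (Subgroup.zpowers_le.2 (Subgroup.mem_centralizer_iff.2 (by rintro _ rfl; exact hx'z.eq.symm)))
      exact Subgroup.mem_centralizer_iff.1 (hle (hgen hr)) x' rfl
    have hBeq : B = W ⊓ E₁ := by
      refine le_antisymm (le_inf hBW (sup_le zOm_le (Subgroup.zpowers_le.2 hx1))) fun u hu => ?_
      haveI : (W ⊓ E₁).Normal := inferInstance
      have hn : Subgroup.zpowers z ≤ Subgroup.normalizer (B : Set G) := by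
        refine Subgroup.zpowers_le.2 ?_
        have hB' : V ⊔ Subgroup.zpowers x' = B := eq_sup hG le_sup_left hcB hx'B fun h => hxV (by
          have := mul_mem h (inv_mem (ev_mem hy (-i)))
          rwa [hx', mul_inv_cancel_right] at this)
        refine Subgroup.mem_normalizer_iff.2 fun r => ?_
        have key : ∀ g : G, Commute g x' → ∀ s ∈ B, g * s * g⁻¹ ∈ B := fun g hg s hs => by
          rw [← hB'] at hs ⊢
          obtain ⟨v, hv, w, hw, rfl⟩ := Subgroup.mem_sup_of_normal_left.1 hs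
          obtain ⟨k, rfl⟩ := Subgroup.mem_zpowers_iff.1 hw
          rw [show g * (v * x' ^ k) * g⁻¹ = (g * v * g⁻¹) * (g * x' ^ k * g⁻¹) by group, (hg.zpow_right k).eq,
            mul_inv_cancel_right]
          exact mul_mem (Subgroup.mem_sup_left (hVn.conj_mem v hv g))
            (Subgroup.mem_sup_right (zpow_mem (Subgroup.mem_zpowers x') k))
        refine ⟨key z hx'z r, fun h => ?_⟩
        have := key z⁻¹ hx'z.inv_left _ h
        simpa [mul_assoc] using this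
      have hu' : u ∈ ((B ⊔ Subgroup.zpowers z : Subgroup G) : Set G) := hgen hu.1
      rw [Subgroup.coe_mul_of_right_le_normalizer_left B (Subgroup.zpowers z) hn] at hu'
      obtain ⟨r, hr, w, hw, rfl⟩ := hu'
      obtain ⟨j, rfl⟩ := exists_ev hzp hw
      have : ev z j ∈ E₁ := by
        have := mul_mem (inv_mem ((sup_le zOm_le (Subgroup.zpowers_le.2 hx1)) hr)) hu.2
        rwa [inv_mul_cancel_left] at this
      have hj : j = 0 := by
        by_contra h
        exact hz1 (mem_of_ev hzp h this)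
      show r * ev z j ∈ B
      rw [hj, ev_zero, mul_one]; exact hr
    haveI hBn : B.Normal := hBeq ▸ inferInstance
    have hBi := hm.orbit_inv hE₁ hG hsec hp2 hV2 le_sup_left (hBeq.le.trans inf_le_right) (hcB.trans (by rw [hV2]; ring))
      hBc fun r hr => hWp r (hBW hr)
    have hex : ∀ e ∈ E₁, ⁅e, x'⁆ ∈ Zb := by
      intro e he
      have h1 : ⁅e, x'⁆ ∈ V := commutator_mem_of_step hG le_sup_left hcB.le hx'B e
      refine mem_zb.2 ⟨fun g => ?_, h1.2.2⟩
      have hcz : Commute ⁅e, x'⁆ z := by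
        rw [commutatorElement_def]
        refine Commute.mul_left ?_ hx'z.symm.inv_left
        have h2 := (hx'W (e⁻¹ * z * e) (by simpa using hWn.conj_mem z hzW e⁻¹)).eq
        show e * x' * e⁻¹ * z = z * (e * x' * e⁻¹)
        calc e * x' * e⁻¹ * z = e * (x' * (e⁻¹ * z * e)) * e⁻¹ := by group
          _ = e * ((e⁻¹ * z * e) * x') * e⁻¹ := by rw [h2]
          _ = z * (e * x' * e⁻¹) := by group
      have htop : E₁ ⊔ Subgroup.zpowers z ≤ Subgroup.centralizer {⁅e, x'⁆} := sup_le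
        (fun s hs => Subgroup.mem_centralizer_iff.2 (by rintro _ rfl; exact (h1.2.1 s hs).eq))
        (Subgroup.zpowers_le.2 (Subgroup.mem_centralizer_iff.2 (by rintro _ rfl; exact hcz.eq)))
      rw [eq_top_of_index (f.index E₁ hE₁) le_sup_left (Subgroup.mem_sup_right (Subgroup.mem_zpowers _)) hz1] at htop
      exact Subgroup.mem_centralizer_iff.1 (htop (Subgroup.mem_top g)) _ rfl
    have hB' : V ⊔ Subgroup.zpowers x' = B := eq_sup hG le_sup_left hcB hx'B fun h => hxV (by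
      have := mul_mem h (inv_mem (ev_mem hy (-i)))
      rwa [hx', mul_inv_cancel_right] at this)
    have hcomm := hm.no_comm hE₁ hZ (hBeq.le.trans inf_le_right) hBi fun e he b hb => by
      have hc' : ∀ {g : G}, ⁅e, g⁆ ∈ Zb → π g ∈ Subgroup.centralizer {π e} := fun {g} h =>
        Subgroup.mem_centralizer_iff.2 (by
          rintro _ rfl
          refine (commutatorElement_eq_one_iff_mul_comm.1 ?_)
          rw [← map_commutatorElement]; exact (QuotientGroup.eq_one_iff _).2 h)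
      have hle : V ⊔ Subgroup.zpowers x' ≤ (Subgroup.centralizer {π e}).comap π := sup_le
        (fun r hr => hc' (by rw [commutatorElement_eq_one_iff_commute.2 (hr.2.1 e he).symm]; exact one_mem _))
        (Subgroup.zpowers_le.2 (hc' (hex e he)))
      refine (QuotientGroup.eq_one_iff _).1 (show π _ = 1 from ?_)
      rw [map_commutatorElement, commutatorElement_eq_one_iff_mul_comm]
      exact Subgroup.mem_centralizer_iff.1 (hle (hB'.ge hb)) _ rfl
    exact hxV ⟨hx1, fun e he => (hcomm e he x (Subgroup.mem_sup_right (Subgroup.mem_zpowers x))).symm, hWp x hxW⟩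
  -- the plane is a step above the centre
  have htop1 : E₁ ⊔ Subgroup.zpowers z = ⊤ :=
    eq_top_of_index (f.index E₁ hE₁) le_sup_left (Subgroup.mem_sup_right (Subgroup.mem_zpowers z)) hz1
  have himg : img a V ≤ Zb ⊔ Subgroup.zpowers z := by
    intro u hu
    obtain ⟨e, he, w, hw, rfl⟩ := Subgroup.mem_sup_of_normal_left.1 (htop1.ge (Subgroup.mem_top u))
    refine mul_mem (Subgroup.mem_sup_left ?_) (Subgroup.mem_sup_right hw)
    have hwimg : w ∈ img a V := Subgroup.zpowers_le.2 (app_mem_img (hVE hv₀) hv₀) hw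
    have heimg : e ∈ img a V := by
      have := mul_mem hu (inv_mem hwimg)
      rwa [mul_inv_cancel_right] at this
    obtain ⟨r, hrE, hr, rfl⟩ := mem_img.1 heimg
    have hrV := hB _ (app_mem_span ha hr) he
    refine mem_zb.2 ⟨fun g => ?_, hrV.2.2⟩
    have hcz : Commute (app a r) z := by
      show app a r * app a v₀ = app a v₀ * app a r
      rw [← app_mul a hrE (hVE hv₀), ← app_mul a (hVE hv₀) hrE, (hVc r hr v₀ hv₀).eq]
    have htop : E₁ ⊔ Subgroup.zpowers z ≤ Subgroup.centralizer {app a r} := sup_le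
      (fun s hs => Subgroup.mem_centralizer_iff.2 (by rintro _ rfl; exact (hrV.2.1 s hs).eq))
      (Subgroup.zpowers_le.2 (Subgroup.mem_centralizer_iff.2 (by rintro _ rfl; exact hcz.eq)))
    rw [htop1] at htop
    exact Subgroup.mem_centralizer_iff.1 (htop (Subgroup.mem_top g)) _ rfl
  have hcV : Nat.card V = p * Nat.card Zb := by
    refine le_antisymm ?_ (hm.card_lt hE₁ hG)
    rw [← card_img (a := a) hVE]
    exact (Subgroup.card_le_of_le himg).trans (card_le_mul_of_pow (by rw [hzp]; exact one_mem _))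
  -- the transvection on the moving member
  set a₁ : MulAut E₁ := MulAut.conjNormal z with ha₁
  have haa : ∀ {x : G}, x ∈ E₁ → app a₁ x = z * x * z⁻¹ := fun hx => app_conjNormal z hx
  have haV : ∀ x ∈ E₁, x⁻¹ * app a₁ x ∈ V := by
    intro x hx
    refine hB _ ?_ (mul_mem (inv_mem hx) (app_mem a₁ hx))
    rw [haa hx, ← mul_assoc, ← mul_assoc]
    exact mul_mem (by simpa using hWn.conj_mem z hzW x⁻¹) (inv_mem hzW)
  set r := y⁻¹ * app a₁ y with hr
  have hyE₁ : y ∈ E₁ := hy.1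
  have hrZ : r ∈ Zb := by
    rw [hr, haa hyE₁, show y⁻¹ * (z * y * z⁻¹) = ⁅y⁻¹, z⁆ by simp only [commutatorElement_def]; group]
    exact hWc _ (inv_mem (hVW hy)) _ hzW
  have hrp : r ^ p = 1 := (mem_zb.1 hrZ).2
  have hr1 : r ≠ 1 := fun h => hne (by
    rw [hr, inv_mul_eq_one, haa hyE₁] at h
    exact (eq_mul_inv_iff_mul_eq.1 h).symm)
  have hrE₁ : r ∈ E₁ := zOm_le (hZV hrZ)
  have hay : app a₁ y = y * r := (mul_inv_cancel_left _ _).symm
  clear_value r
  have haZ : ∀ x ∈ Zb, app a₁ x = x := fun x hx => by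
    rw [haa (zOm_le (hZV hx)), ← ((mem_zb.1 hx).1 z).eq, mul_inv_cancel_right]
  have hVy : Zb ⊔ Subgroup.zpowers y = V := eq_sup hG hZV hcV hy hyZ
  have haimg : ∀ x ∈ V, x⁻¹ * app a₁ x ∈ Subgroup.zpowers r := by
    intro x hx
    obtain ⟨u, hu, w, hw, rfl⟩ := Subgroup.mem_sup_of_normal_left.1 (hVy.ge hx)
    obtain ⟨k, rfl⟩ := exists_ev hyp hw
    rw [app_mul a₁ (zOm_le (hZV hu)) (ev_mem hyE₁ k), haZ u hu, app_ev a₁ hyE₁, hay,
      show ev (y * r) k = ev y k * ev r k from ((mem_zb.1 hrZ).1 y).symm.mul_pow _,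
      mul_inv_rev, mul_assoc, inv_mul_cancel_left, inv_mul_cancel_left]
    exact ev_mem (Subgroup.mem_zpowers r) k
  obtain ⟨h, hh, hnp⟩ := f.exists_pair hG hE₁ hz1
  set a₁' : MulAut E₁ := h * a₁ * h⁻¹ with ha₁'
  set Z' := img h Zb with hZ'
  set r' := app h r with hr'
  have hZ'V : Z' ≤ V := fun x hx => by
    obtain ⟨u, -, hu, rfl⟩ := mem_img.1 hx
    exact zOm_inv _ h hh u (hZV hu)
  have hr'Z : r' ∈ Z' := app_mem_img hrE₁ hrZ
  have hr'V : r' ∈ V := hZ'V hr'Z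
  have hr'p : r' ^ p = 1 := hr'V.2.2
  have hbV : ∀ x ∈ E₁, x⁻¹ * app a₁' x ∈ V := by
    intro x hx
    have hu : app h⁻¹ x ∈ E₁ := app_mem _ hx
    have h1 := zOm_inv _ h hh _ (haV _ hu)
    rwa [app_mul h (inv_mem hu) (app_mem _ hu), app_inv h hu, app_app_inv, ← app_mul_aut, ← app_mul_aut,
      ← ha₁'] at h1
  have hbZ : ∀ x ∈ Z', app a₁' x = x := by
    intro x hx
    obtain ⟨u, hu, hu', rfl⟩ := mem_img.1 hx
    rw [ha₁', app_mul_aut, app_mul_aut, app_inv_app, haZ u hu']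
  have hbimg : ∀ x ∈ V, x⁻¹ * app a₁' x ∈ Subgroup.zpowers r' := by
    intro x hx
    have hu : app h⁻¹ x ∈ V := zOm_inv _ _ (inv_mem hh) x hx
    obtain ⟨k, hk⟩ := Subgroup.mem_zpowers_iff.1 (haimg _ hu)
    refine ⟨k, ?_⟩
    show r' ^ k = x⁻¹ * app a₁' x
    rw [hr', ← app_zpow h hrE₁, hk, app_mul h (inv_mem hu.1) (app_mem _ hu.1), app_inv h hu.1, app_app_inv,
      ← app_mul_aut, ← app_mul_aut, ← ha₁']
  have hrZ' : r ∉ Z' := by
    intro hmem
    have hle : Subgroup.zpowers r ≤ Zb ⊓ Z' :=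
      le_inf (Subgroup.zpowers_le.2 hrZ) (Subgroup.zpowers_le.2 hmem)
    refine hnp ((isPGroup_stab4 hG).to_le ((Subgroup.closure_le (stab4 E₁ V Z' (Zb ⊓ Z') hZ'V inf_le_right)).2 ?_))
    rintro b (rfl | rfl) x hx
    · exact ⟨haV x hx, fun hx' => (hle (haimg x hx')).2, fun hx' => hle (haimg x (hZ'V hx')),
        fun hx' => haZ x hx'.1⟩
    · exact ⟨hbV x hx, fun hx' => Subgroup.zpowers_le.2 hr'Z (hbimg x hx'),
        fun hx' => by rw [hbZ x hx', inv_mul_cancel]; exact one_mem _, fun hx' => hbZ x hx'.2⟩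
  have hr'Zb : r' ∉ Zb := by
    intro hmem
    have hle : Subgroup.zpowers r' ≤ Zb ⊓ Z' :=
      le_inf (Subgroup.zpowers_le.2 hmem) (Subgroup.zpowers_le.2 hr'Z)
    refine hnp ((isPGroup_stab4 hG).to_le ((Subgroup.closure_le (stab4 E₁ V Zb (Zb ⊓ Z') hZV inf_le_left)).2 ?_))
    rintro b (rfl | rfl) x hx
    · exact ⟨haV x hx, fun hx' => Subgroup.zpowers_le.2 hrZ (haimg x hx'),
        fun hx' => by rw [haZ x hx', inv_mul_cancel]; exact one_mem _, fun hx' => haZ x hx'.1⟩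
    · exact ⟨hbV x hx, fun hx' => (hle (hbimg x hx')).1, fun hx' => hle (hbimg x (hZV hx')),
        fun hx' => hbZ x hx'.2⟩
  obtain ⟨α, hα⟩ := exists_ev hrp (haimg r' hr'V)
  have har' : app a₁ r' = r' * ev r α := by rw [← hα, mul_inv_cancel_left]
  obtain ⟨β, hβ⟩ := exists_ev hr'p (hbimg r (hZV hrZ))
  have hbr : app a₁' r = r * ev r' β := by rw [← hβ, mul_inv_cancel_left]
  have hZ'c : Nat.card Z' = Nat.card Zb := card_img (hZV.trans zOm_le)
  have hVr' : Zb ⊔ Subgroup.zpowers r' = V := eq_sup hG hZV hcV hr'V hr'Zb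
  have hα0 : α ≠ 0 := by
    intro h0
    rw [h0, ev_zero, mul_one] at har'
    have hle : V ≤ fixedBy a₁ := hVr'.ge.trans (sup_le (fun x hx => ⟨zOm_le (hZV hx), haZ x hx⟩)
      (Subgroup.zpowers_le.2 ⟨hr'V.1, har'⟩))
    exact hr1 (by rw [hr, (hle hy).2, inv_mul_cancel])
  haveI hZ'n : ∀ e ∈ E₁, ∀ x ∈ Z', e * x * e⁻¹ ∈ Z' := f.conj_img hE₁ h
  have hVr : Z' ⊔ Subgroup.zpowers r = V := eq_sup hG hZ'V (by rw [hcV, hZ'c]) (hZV hrZ) hrZ'
  have hβ0 : β ≠ 0 := by
    intro h0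
    rw [h0, ev_zero, mul_one] at hbr
    have hle : V ≤ fixedBy a₁' := hVr.ge.trans (sup_le (fun x hx => ⟨(hZ'V hx).1, hbZ x hx⟩)
      (Subgroup.zpowers_le.2 ⟨hrE₁, hbr⟩))
    have h1 := (hle (zOm_inv _ h hh y hy)).2
    rw [ha₁', app_mul_aut, app_mul_aut, app_inv_app, hay] at h1
    have h2 := app_inj h h1
    rw [mul_eq_left] at h2
    exact hr1 h2
  obtain ⟨w₀, hw₀, hw₀r', hw₀r, hw₀fix⟩ := exists_neg hr'V.1 hrE₁ ((hVc r' hr'V r (hZV hrZ))) hr'p hrp hα0 hβ0
    har' (haZ r hrZ) hbr (hbZ r' hr'Z)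
  -- coordinates in the plane
  have hcoord : ∀ x ∈ V, ∃ u ∈ Zb ⊓ Z', ∃ i j : ZMod p, x = u * ev r i * ev r' j := by
    intro x hx
    obtain ⟨u, hu, w, hw, rfl⟩ := Subgroup.mem_sup_of_normal_left.1 (hVr'.ge hx)
    obtain ⟨j, rfl⟩ := exists_ev hr'p hw
    have hn : Subgroup.zpowers r ≤ Subgroup.normalizer (Z' : Set G) := by
      refine Subgroup.zpowers_le.2 (Subgroup.mem_normalizer_iff.2 fun s => ?_)
      rw [((mem_zb.1 hrZ).1 s).eq, mul_inv_cancel_right]
    have hu' : u ∈ ((Z' ⊔ Subgroup.zpowers r : Subgroup G) : Set G) := hVr.ge (hZV hu)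
    rw [Subgroup.coe_mul_of_right_le_normalizer_left Z' (Subgroup.zpowers r) hn] at hu'
    obtain ⟨s, hs, q, hq, rfl⟩ := hu'
    obtain ⟨i, rfl⟩ := exists_ev hrp hq
    refine ⟨s, ⟨?_, hs⟩, i, j, rfl⟩
    have := mul_mem hu (inv_mem (ev_mem hrZ i))
    rwa [mul_inv_cancel_right] at this
  set w := w₀ ^ p with hwd
  have hclA : Subgroup.closure ({a₁, a₁'} : Set (MulAut E₁)) ≤ f.aut E₁ := by
    refine (Subgroup.closure_le _).2 ?_
    rintro b (rfl | rfl)
    · exact f.conj_mem hE₁ z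
    · exact mul_mem (mul_mem hh (f.conj_mem hE₁ z)) (inv_mem hh)
  let K : Subgroup (MulAut E₁) :=
    { carrier := {c | c ∈ f.aut E₁ ∧ ∀ x ∈ E₁, x⁻¹ * app c x ∈ V}
      one_mem' := ⟨one_mem _, fun x _ => by rw [app_one_aut, inv_mul_cancel]; exact one_mem _⟩
      mul_mem' := fun {c d} hc hd => ⟨mul_mem hc.1 hd.1, fun x hx => by
        rw [app_mul_aut, show x⁻¹ * app c (app d x) = (x⁻¹ * app d x) * ((app d x)⁻¹ * app c (app d x)) by group]
        exact mul_mem (hd.2 x hx) (hc.2 _ (app_mem d hx))⟩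
      inv_mem' := fun {c} hc => ⟨inv_mem hc.1, fun x hx => by
        have h := inv_mem (hc.2 _ (app_mem c⁻¹ hx))
        rwa [app_app_inv, mul_inv_rev, inv_inv] at h⟩ }
  have hw₀K : w₀ ∈ K := by
    refine (Subgroup.closure_le K).2 ?_ hw₀
    rintro b (rfl | rfl)
    · exact ⟨f.conj_mem hE₁ z, haV⟩
    · exact ⟨hclA (Subgroup.subset_closure (Or.inr rfl)), hbV⟩
  have hw₀2 : ∀ x ∈ V, app (w₀ * w₀) x = x := by
    intro x hx
    obtain ⟨u, hu, i, j, rfl⟩ := hcoord x hx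
    have hu1 : u ∈ E₁ := zOm_le (hZV hu.1)
    have hfu := hw₀fix u (haZ u hu.1) (hbZ u hu.2)
    have e : ∀ {s : G}, s ∈ E₁ → app w₀ s = s⁻¹ → app (w₀ * w₀) s = s := fun hs h => by
      rw [app_mul_aut, h, app_inv w₀ hs, h, inv_inv]
    rw [app_mul _ (mul_mem hu1 (ev_mem hrE₁ i)) (ev_mem hr'V.1 j), app_mul _ hu1 (ev_mem hrE₁ i),
      app_ev _ hrE₁, app_ev _ hr'V.1, e hrE₁ hw₀r, e hr'V.1 hw₀r', app_mul_aut, hfu, hfu]
  have hw2 : w * w = 1 := aut_ext fun x hx => by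
    rw [app_one_aut, hwd, ← pow_add, ← two_mul, pow_mul, pow_two]
    set ζ := x⁻¹ * app (w₀ * w₀) x with hζ
    have hζV : ζ ∈ V := (mul_mem hw₀K hw₀K).2 x hx
    rw [app_transv_pow hx hζV.1 (mul_inv_cancel_left _ _).symm (hw₀2 ζ hζV), hζV.2.2, mul_one]
  have hwinv : ∀ {s : G}, s ∈ E₁ → app w₀ s = s⁻¹ → app w s = s⁻¹ := by
    intro s hs hinv
    obtain ⟨n, hn⟩ := hp.out.odd_of_ne_two hp2
    rw [hwd, hn, pow_succ, pow_mul, app_mul_aut, hinv, pow_two]
    refine app_pow_fixed ?_ n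
    rw [app_mul_aut, app_inv w₀ hs, hinv, inv_inv, hinv]
  have hwr := hwinv hrE₁ hw₀r
  have hwr' := hwinv hr'V.1 hw₀r'
  have hwfix : ∀ u ∈ Zb ⊓ Z', app w u = u := fun u hu =>
    app_pow_fixed (hw₀fix u (haZ u hu.1) (hbZ u hu.2)) p
  have hwK : w ∈ K := pow_mem hw₀K p
  have h2 : (2 : ZMod p) ≠ 0 := fun h' => hp2 ((Nat.prime_dvd_prime_iff_eq hp.out Nat.prime_two).1
    ((ZMod.natCast_eq_zero_iff 2 p).1 (by rw [Nat.cast_ofNat, h'])))
  have hwV : ∀ {u : G}, u ∈ Zb ⊓ Z' → ∀ i j : ZMod p,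
      app w (u * ev r i * ev r' j) = u * ev r (-i) * ev r' (-j) := by
    intro u hu i j
    have hu1 : u ∈ E₁ := zOm_le (hZV hu.1)
    rw [app_mul _ (mul_mem hu1 (ev_mem hrE₁ i)) (ev_mem hr'V.1 j), app_mul _ hu1 (ev_mem hrE₁ i),
      app_ev _ hrE₁, app_ev _ hr'V.1, hwr, hwr', hwfix u hu, ev_neg hrp, ev_neg hr'p]
    simp only [ev, inv_pow]
  set D := fixedBy w with hD
  have hDE : D ≤ E₁ := fun x hx => hx.1
  set P := Subgroup.zpowers r ⊔ Subgroup.zpowers r' with hP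
  have hPV : P ≤ V := sup_le (Subgroup.zpowers_le.2 (hZV hrZ)) (Subgroup.zpowers_le.2 hr'V)
  have hsplit : ∀ x ∈ E₁, ∃ d ∈ D, ∃ q ∈ P, x = d * q := by
    intro x hx
    set ζ := x⁻¹ * app w x with hζ
    have hζV : ζ ∈ V := hwK.2 x hx
    have hζinv : app w ζ = ζ⁻¹ := by
      rw [hζ, app_mul w (inv_mem hx) (app_mem w hx), app_inv w hx, ← app_mul_aut, hw2, app_one_aut, mul_inv_rev,
        inv_inv]
    obtain ⟨u, hu, i, j, hζe⟩ := hcoord ζ hζV
    have hu1 : u = 1 := by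
      have hc : ∀ g, Commute u g := (mem_zb.1 hu.1).1
      have hab : Commute (ev r i)⁻¹ (ev r' j)⁻¹ := ((hVc r (hZV hrZ) r' hr'V).pow_pow _ _).inv_inv
      rw [hζe, hwV hu i j, ev_neg hrp, ev_neg hr'p, mul_inv_rev, mul_inv_rev, ← mul_assoc (ev r' j)⁻¹, ← hab.eq,
        ← ((hc ((ev r i)⁻¹ * (ev r' j)⁻¹)).inv_left).eq, mul_assoc u, mul_left_inj] at hζinv
      have hsq : u ^ 2 = 1 := by rw [pow_two]; exact mul_eq_one_iff_eq_inv.2 hζinv
      have hg := pow_gcd_eq_one.2 (⟨hsq, (mem_zb.1 hu.1).2⟩ : u ^ 2 = 1 ∧ u ^ p = 1)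
      rwa [show Nat.gcd 2 p = 1 from (Nat.coprime_primes Nat.prime_two hp.out).2 (Ne.symm hp2), pow_one] at hg
    have hζP : ζ ∈ P := by
      rw [hζe, hu1, one_mul]
      exact mul_mem (Subgroup.mem_sup_left (ev_mem (Subgroup.mem_zpowers r) i))
        (Subgroup.mem_sup_right (ev_mem (Subgroup.mem_zpowers r') j))
    refine ⟨x * ev ζ (2⁻¹ : ZMod p), ⟨mul_mem hx (ev_mem hζV.1 _), ?_⟩, (ev ζ (2⁻¹ : ZMod p))⁻¹,
      inv_mem (ev_mem hζP _), (mul_inv_cancel_right _ _).symm⟩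
    rw [app_mul w hx (ev_mem hζV.1 _), app_ev w hζV.1, hζinv, show app w x = x * ζ from (mul_inv_cancel_left _ _).symm,
      show ev ζ⁻¹ (2⁻¹ : ZMod p) = (ev ζ 2⁻¹)⁻¹ from inv_pow _ _, ← ev_neg hζV.2.2, mul_assoc]
    conv_lhs => rw [show ζ * ev ζ (-2⁻¹ : ZMod p) = ev ζ (1 + -2⁻¹ : ZMod p) by rw [ev_add hζV.2.2, ev_one]]
    rw [show (1 + -2⁻¹ : ZMod p) = 2⁻¹ by field_simp; ring]
  have hrD : r ∉ D := fun h' => by
    have h1 := h'.2
    rw [hwr, inv_eq_iff_mul_eq_one, ← pow_two] at h1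
    have hg := pow_gcd_eq_one.2 (⟨h1, hrp⟩ : r ^ 2 = 1 ∧ r ^ p = 1)
    rw [show Nat.gcd 2 p = 1 from (Nat.coprime_primes Nat.prime_two hp.out).2 (Ne.symm hp2), pow_one] at hg
    exact hr1 hg
  have hcD : ∀ q ∈ V, ∀ d ∈ D, Commute q d := fun q hq d hd => hq.2.1 d hd.1
  have hr'D : r' ∉ D ⊔ Subgroup.zpowers r := by
    intro h'
    have hn : Subgroup.zpowers r ≤ Subgroup.normalizer (D : Set G) := by
      refine Subgroup.zpowers_le.2 (Subgroup.mem_normalizer_iff.2 fun s => ?_)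
      rw [((mem_zb.1 hrZ).1 s).eq, mul_inv_cancel_right]
    have h'' : r' ∈ ((D ⊔ Subgroup.zpowers r : Subgroup G) : Set G) := h'
    rw [Subgroup.coe_mul_of_right_le_normalizer_left D (Subgroup.zpowers r) hn] at h''
    obtain ⟨d, hd, q, hq, hdq⟩ := h''
    obtain ⟨k, rfl⟩ := exists_ev hrp hq
    change d * ev r k = r' at hdq
    have h1 := congrArg (app w) hdq
    rw [app_mul w hd.1 (ev_mem hrE₁ k), hd.2, app_ev w hrE₁, hwr, hwr', ← hdq, mul_inv_rev,
      show ev r⁻¹ k = (ev r k)⁻¹ from inv_pow _ _, ((mem_zb.1 (ev_mem hrZ k)).1 d⁻¹).inv_left.eq,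
      mul_left_inj] at h1
    have hdV : d ∈ V := by
      rw [show d = r' * (ev r k)⁻¹ by rw [← hdq, mul_inv_cancel_right]]
      exact mul_mem hr'V (inv_mem (ev_mem (hZV hrZ) k))
    have hsq : d ^ 2 = 1 := by rw [pow_two]; exact mul_eq_one_iff_eq_inv.2 h1
    have hg := pow_gcd_eq_one.2 (⟨hsq, hdV.2.2⟩ : d ^ 2 = 1 ∧ d ^ p = 1)
    rw [show Nat.gcd 2 p = 1 from (Nat.coprime_primes Nat.prime_two hp.out).2 (Ne.symm hp2), pow_one] at hg
    rw [hg, one_mul] at hdq
    exact hr'Zb (hdq ▸ ev_mem hrZ k)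
  obtain ⟨⟨c, hc⟩, hgc⟩ := (cyclic_of_pair hG hsec (hVc r (hZV hrZ) r' hr'V) hrp hr'p (hcD r (hZV hrZ))
    (hcD r' hr'V) hrD hr'D).exists_generator
  have habel : ∀ x ∈ E₁, ∀ u ∈ E₁, Commute x u := by
    have hs : ∀ s ∈ ({c} : Set G) ∪ V, ∀ t ∈ ({c} : Set G) ∪ V, Commute s t := by
      rintro s (rfl | hs) t (rfl | ht)
      exacts [Commute.refl _, (hcD t ht _ hc).symm, hcD s hs _ hc, hVc s hs t ht]
    haveI := comm_closure hs
    have hle : ∀ x ∈ E₁, x ∈ Subgroup.closure (({c} : Set G) ∪ V) := fun x hx => by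
      obtain ⟨d, hd, q, hq, rfl⟩ := hsplit x hx
      obtain ⟨k, hk⟩ := Subgroup.mem_zpowers_iff.1 (hgc ⟨d, hd⟩)
      have hkd : c ^ k = d := congrArg Subtype.val hk
      rw [← hkd]
      exact mul_mem (zpow_mem (Subgroup.subset_closure (show c ∈ ({c} : Set G) ∪ (V : Set G) from Or.inl rfl)) k)
        (Subgroup.subset_closure (Set.mem_union_right _ (hPV hq)))
    exact fun x hx u hu => congrArg Subtype.val (mul_comm' (⟨x, hle x hx⟩ : Subgroup.closure _) ⟨u, hle u hu⟩)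
  obtain ⟨d, hd, hdE⟩ : ∃ d ∈ D, d ∉ E := by
    by_contra! hh'
    refine hEne (Subgroup.eq_of_le_of_card_ge (fun x hx => ?_) ?_).symm
    · obtain ⟨d, hd, q, hq, rfl⟩ := hsplit x hx
      exact mul_mem (hh' d hd) (hVE (hPV hq))
    · have h1 := E₁.card_mul_index
      have h2 := E.card_mul_index
      rw [f.index E₁ hE₁] at h1
      rw [f.index E hE] at h2
      exact (Nat.eq_of_mul_eq_mul_right hp.out.pos (h1.trans h2.symm)).ge
  -- the involution commutes with the transvection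
  have haw : a₁ * w = w * a₁ := by
    set k := a₁ * w * a₁⁻¹ * w⁻¹ with hk
    set T := stab4 E₁ V Zb Zb hZV le_rfl with hT
    have hkV : ∀ x ∈ V, app k x = x := by
      have key : ∀ x ∈ V, app (a₁ * w) x = app (w * a₁) x := by
        intro x hx
        obtain ⟨u, hu, i, j, rfl⟩ := hcoord x hx
        have hu1 : u ∈ E₁ := zOm_le (hZV hu.1)
        have hur : u * ev r i ∈ E₁ := mul_mem hu1 (ev_mem hrE₁ i)
        rw [app_mul _ hur (ev_mem hr'V.1 j), app_mul _ hur (ev_mem hr'V.1 j), app_mul _ hu1 (ev_mem hrE₁ i),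
          app_mul _ hu1 (ev_mem hrE₁ i), app_ev _ hrE₁, app_ev _ hrE₁, app_ev _ hr'V.1, app_ev _ hr'V.1]
        congr 1
        · congr 1
          · rw [app_mul_aut, app_mul_aut, hwfix u hu, haZ u hu.1, hwfix u hu]
          · congr 1
            rw [app_mul_aut, app_mul_aut, hwr, haZ r hrZ, haZ _ (inv_mem hrZ), hwr]
        · congr 1
          rw [app_mul_aut, app_mul_aut, hwr', app_inv a₁ hr'V.1, har', app_mul w hr'V.1 (ev_mem hrE₁ α), hwr',
            app_ev w hrE₁, hwr, mul_inv_rev, ev, ev, inv_pow]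
          exact ((mem_zb.1 (pow_mem hrZ _)).1 _).inv_left.eq
      intro x hx
      have hx' : app (a₁⁻¹ * w⁻¹) x ∈ V := zOm_inv _ _
        (mul_mem (inv_mem (f.conj_mem hE₁ z)) (inv_mem hwK.1)) x hx
      rw [hk, mul_assoc _ a₁⁻¹ w⁻¹, app_mul_aut, key _ hx', ← app_mul_aut, show w * a₁ * (a₁⁻¹ * w⁻¹) = 1 by group,
        app_one_aut]
    have hkK : k ∈ K := mul_mem (mul_mem (mul_mem (show a₁ ∈ K from ⟨f.conj_mem hE₁ z, haV⟩) hwK)
      (inv_mem (show a₁ ∈ K from ⟨f.conj_mem hE₁ z, haV⟩))) (inv_mem hwK)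
    have hkT : k ∈ T := fun x hx => ⟨hkK.2 x hx, fun hx' => by rw [hkV x hx', inv_mul_cancel]; exact one_mem _,
      fun hx' => by rw [hkV x (hZV hx'), inv_mul_cancel]; exact one_mem _, fun hx' => hkV x (hZV hx')⟩
    have hconj : ∀ g : G, ∀ b : MulAut E₁, (∀ x ∈ E₁, app b x = g * x * g⁻¹) → b ∈ f.aut E₁ ⊓ T := by
      intro g b hb
      have hb' : b = MulAut.conjNormal g := aut_ext fun x hx => by rw [hb x hx, app_conjNormal g hx]
      subst hb'
      have hle : (⊤ : Subgroup G) ≤ (f.aut E₁ ⊓ T).comap (MulAut.conjNormal : G →* MulAut E₁) := by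
        rw [← htop1]
        refine sup_le (fun e he => ?_) (Subgroup.zpowers_le.2 ⟨f.conj_mem hE₁ z, fun x hx =>
          ⟨haV x hx, fun hx' => Subgroup.zpowers_le.2 hrZ (haimg x hx'),
            fun hx' => by rw [haZ x hx', inv_mul_cancel]; exact one_mem _, fun hx' => haZ x hx'⟩⟩)
        show (MulAut.conjNormal e : MulAut E₁) ∈ f.aut E₁ ⊓ T
        rw [show (MulAut.conjNormal e : MulAut E₁) = 1 from aut_ext fun x hx => by
          rw [app_conjNormal e hx, app_one_aut, (habel e he x hx).eq, mul_inv_cancel_right]]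
        exact one_mem _
      exact hle (Subgroup.mem_top g)
    obtain ⟨g, hg⟩ := f.sylow E₁ hE₁ (f.aut E₁ ⊓ T) inf_le_left ((isPGroup_stab4 hG).to_le inf_le_right) hconj k
      ⟨hkK.1, hkT⟩
    obtain ⟨e, he, q, hq, rfl⟩ := Subgroup.mem_sup_of_normal_left.1 (htop1.ge (Subgroup.mem_top g))
    obtain ⟨i, rfl⟩ := exists_ev hzp hq
    have hconjn : ∀ x ∈ E₁, app k x = app (ev a₁ i) x := fun x hx => by
      rw [hg x hx, show e * ev z i * x * (e * ev z i)⁻¹ = e * (ev z i * x * (ev z i)⁻¹) * e⁻¹ by group,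
        (habel e he _ (Subgroup.Normal.conj_mem inferInstance x hx _)).eq, mul_inv_cancel_right,
        ha₁, ← map_ev (MulAut.conjNormal : G →* MulAut E₁), app_conjNormal _ hx]
    have hi : i = 0 := by
      have h1 := hconjn r' hr'V.1
      rw [hkV r' hr'V, ev, app_transv_pow hr'V.1 (ev_mem hrE₁ α) har' (by rw [app_ev a₁ hrE₁, haZ r hrZ]),
        show (ev r α) ^ i.val = ev (ev r α) i from rfl, ← ev_mul hrp, left_eq_mul] at h1
      exact (mul_eq_zero.1 (ev_eq_one hrp hr1 h1)).resolve_left hα0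
    have hk1 : k = 1 := aut_ext fun x hx => by rw [hconjn x hx, hi, ev_zero]
    exact mul_inv_eq_iff_eq_mul.1 (mul_inv_eq_one.1 hk1)
  have hq : ⁅d⁻¹, z⁆ ∈ Zb := by
    rw [show ⁅d⁻¹, z⁆ = d⁻¹ * app a₁ d by rw [haa hd.1, commutatorElement_def]; group]
    obtain ⟨u, hu, i, j, hqe⟩ := hcoord _ (haV d hd.1)
    have hfix : app w (d⁻¹ * app a₁ d) = d⁻¹ * app a₁ d := by
      rw [app_mul w (inv_mem hd.1) (app_mem a₁ hd.1), app_inv w hd.1, ← app_mul_aut, ← haw, app_mul_aut, hd.2]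
    rw [hqe, hwV hu i j, mul_assoc, mul_assoc, mul_right_inj] at hfix
    have hj : j = 0 := by
      by_contra hj
      refine hr'Zb (mem_of_ev (a := j + j) hr'p (by rw [← two_mul]; exact mul_ne_zero h2 hj) ?_)
      have e : ev r' (j + j) = (ev r (i + i))⁻¹ := by
        refine eq_inv_of_mul_eq_one_right ?_
        rw [ev_add hr'p, ev_add hrp]
        rw [ev_neg hrp, ev_neg hr'p, ← mul_inv_eq_one] at hfix
        have h' : Commute (ev r i) (ev r' j) := (hVc r (hZV hrZ) r' hr'V).pow_pow _ _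
        rw [mul_inv_eq_one, ← mul_inv_rev, ← h'.eq, inv_eq_iff_mul_eq_one, h'.symm.mul_mul_mul_comm] at hfix
        exact hfix
      rw [e]; exact inv_mem (ev_mem hrZ _)
    rw [hqe, hj, ev_zero, mul_one]
    exact mul_mem hu.1 (ev_mem hrZ i)
  refine hdE (f.mem_of_stab hG hE (X₁ := Zb) (X₂ := ⊥) (X₃ := ⊥) bot_le le_rfl (hZV.trans hVE) hZi ?_ ?_ ?_ ?_ ?_ ?_)
  · intro b _ x hx; rw [Subgroup.mem_bot] at hx ⊢; rw [hx, app_one]
  · intro b _ x hx; rw [Subgroup.mem_bot] at hx ⊢; rw [hx, app_one]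
  · intro x hx
    obtain ⟨e, he, q', hq', rfl⟩ := Subgroup.mem_sup_of_normal_left.1 (htop1.ge (Subgroup.mem_top x))
    have hcx : π (e * q') ∈ Subgroup.centralizer {π d} := by
      have hd1 : ∀ {g : G}, Commute (π g) (π d) → π g ∈ Subgroup.centralizer {π d} := fun h =>
        Subgroup.mem_centralizer_iff.2 (by rintro _ rfl; exact h.eq.symm)
      have hzd : Commute (π d⁻¹) (π z) := by
        rw [← commutatorElement_eq_one_iff_commute, ← map_commutatorElement]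
        exact (QuotientGroup.eq_one_iff _).2 hq
      rw [map_mul]
      refine mul_mem (hd1 ((habel e he d hd.1).map π)) ?_
      obtain ⟨k, rfl⟩ := Subgroup.mem_zpowers_iff.1 hq'
      rw [map_zpow]
      refine zpow_mem (hd1 ?_) k
      have := hzd.inv_left
      rwa [map_inv, inv_inv, Commute.symm_iff] at this
    refine (QuotientGroup.eq_one_iff _).1 (show π _ = 1 from ?_)
    have h' := Subgroup.mem_centralizer_iff.1 hcx _ rfl
    simp only [map_mul, map_inv] at h' ⊢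
    rw [h', mul_inv_cancel_right, inv_mul_cancel]
  · intro x hx
    rw [Subgroup.mem_bot, ((mem_zb.1 hx).1 d).eq.symm, mul_inv_cancel_right, inv_mul_cancel]
  · intro x hx
    rw [Subgroup.mem_bot] at hx
    rw [hx]; simp
  · intro x hx
    rw [Subgroup.mem_bot] at hx
    rw [hx]; simp

end Cfsg.Agent.RankThreeNormal
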