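import Cfsg.Agent.Lib.RankThreeEss.Tools
import Cfsg.Agent.Lib.Involutions.BaerSuzuki
import Cfsg.Prelude.Def_FusionSystem
import Mathlib.GroupTheory.Sylow

/-!
Sectional rank three with normal essential subgroups: the abstract setting.

A finite `p`-group with a family of normal subgroups of index `p`, each carrying a group of automorphisms.
-/

set_option autoImplicit false
set_option linter.unusedSectionVars false

open scoped commutatorElement
open Cfsg.Agent.RankThreeEss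

namespace Cfsg.Agent.RankThreeNormal

variable {G : Type*} [Group G]

section App

open scoped Classical in
/-- An automorphism of a subgroup, extended by the identity. -/
noncomputable def app {E : Subgroup G} (a : MulAut E) (x : G) : G :=
  if h : x ∈ E then ((a ⟨x, h⟩ : E) : G) else x

variable {E : Subgroup G} {a b : MulAut E} {x y : G}

theorem app_coe (a : MulAut E) (x : E) : app a (x : G) = ((a x : E) : G) := by
  rw [app, dif_pos x.2]

theorem app_mem (a : MulAut E) (hx : x ∈ E) : app a x ∈ E := by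
  rw [app, dif_pos hx]; exact Subtype.prop _

theorem app_mul_aut (a b : MulAut E) (x : G) : app (a * b) x = app a (app b x) := by
  by_cases hx : x ∈ E
  · lift x to E using hx
    rw [app_coe, app_coe, app_coe]; rfl
  · rw [app, app, app, dif_neg hx, dif_neg hx, dif_neg hx]

theorem app_one_aut (x : G) : app (1 : MulAut E) x = x := by
  by_cases hx : x ∈ E
  · lift x to E using hx
    rw [app_coe]; rfl
  · rw [app, dif_neg hx]

theorem app_inv_app (a : MulAut E) (x : G) : app a⁻¹ (app a x) = x := by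
  rw [← app_mul_aut, inv_mul_cancel, app_one_aut]

theorem app_app_inv (a : MulAut E) (x : G) : app a (app a⁻¹ x) = x := by
  rw [← app_mul_aut, mul_inv_cancel, app_one_aut]

theorem app_inj (a : MulAut E) (h : app a x = app a y) : x = y := by
  rw [← app_inv_app a x, h, app_inv_app]

theorem app_mul (a : MulAut E) (hx : x ∈ E) (hy : y ∈ E) : app a (x * y) = app a x * app a y := by
  lift x to E using hx
  lift y to E using hy
  rw [← Subgroup.coe_mul, app_coe, app_coe, app_coe, map_mul, Subgroup.coe_mul]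

theorem app_one (a : MulAut E) : app a 1 = 1 := by
  rw [← E.coe_one, app_coe, map_one]

theorem app_inv (a : MulAut E) (hx : x ∈ E) : app a x⁻¹ = (app a x)⁻¹ := by
  lift x to E using hx
  rw [← Subgroup.coe_inv, app_coe, app_coe, map_inv, Subgroup.coe_inv]

theorem app_pow (a : MulAut E) (hx : x ∈ E) (n : ℕ) : app a (x ^ n) = app a x ^ n := by
  lift x to E using hx
  rw [← SubmonoidClass.coe_pow, app_coe, app_coe, map_pow, SubmonoidClass.coe_pow]

theorem app_zpow (a : MulAut E) (hx : x ∈ E) (n : ℤ) : app a (x ^ n) = app a x ^ n := by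
  lift x to E using hx
  rw [← Subgroup.coe_zpow, app_coe, app_coe, map_zpow, Subgroup.coe_zpow]

theorem app_ev {p : ℕ} (a : MulAut E) (hx : x ∈ E) (c : ZMod p) : app a (ev x c) = ev (app a x) c :=
  app_pow a hx _

theorem app_commutator (a : MulAut E) (hx : x ∈ E) (hy : y ∈ E) : app a ⁅x, y⁆ = ⁅app a x, app a y⁆ := by
  rw [commutatorElement_def, commutatorElement_def, app_mul a (mul_mem (mul_mem hx hy) (inv_mem hx)) (inv_mem hy),
    app_mul a (mul_mem hx hy) (inv_mem hx), app_mul a hx hy, app_inv a hx, app_inv a hy]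

theorem aut_ext (h : ∀ x ∈ E, app a x = app b x) : a = b := by
  refine MulEquiv.ext fun x => Subtype.ext ?_
  rw [← app_coe, ← app_coe]
  exact h _ x.2

theorem app_conj_apply (q : E) (hx : x ∈ E) : app (MulAut.conj q) x = (q : G) * x * (q : G)⁻¹ := by
  lift x to E using hx
  rw [app_coe]; rfl

theorem app_conjNormal [E.Normal] (g : G) (hx : x ∈ E) : app (MulAut.conjNormal g : MulAut E) x = g * x * g⁻¹ := by
  lift x to E using hx
  rw [app_coe, MulAut.conjNormal_apply]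

/-- The points fixed by an automorphism. -/
noncomputable def fixedBy (a : MulAut E) : Subgroup G where
  carrier := {x | x ∈ E ∧ app a x = x}
  one_mem' := ⟨one_mem _, app_one a⟩
  mul_mem' := fun {x y} hx hy => ⟨mul_mem hx.1 hy.1, by rw [app_mul a hx.1 hy.1, hx.2, hy.2]⟩
  inv_mem' := fun {x} hx => ⟨inv_mem hx.1, by rw [app_inv a hx.1, hx.2]⟩

theorem mem_fixedBy : x ∈ fixedBy a ↔ x ∈ E ∧ app a x = x := Iff.rfl

end App

section Invariant

/-- `X` is mapped into itself by all the given automorphisms. -/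
def Inv {E : Subgroup G} (A : Subgroup (MulAut E)) (X : Subgroup G) : Prop :=
  ∀ a ∈ A, ∀ x ∈ X, app a x ∈ X

/-- The image of a subgroup of `E`. -/
noncomputable def img {E : Subgroup G} (a : MulAut E) (X : Subgroup G) : Subgroup G :=
  (X.subgroupOf E).map (E.subtype.comp a.toMonoidHom)

variable {E X Y : Subgroup G} {a : MulAut E}

theorem mem_img {y : G} : y ∈ img a X ↔ ∃ x ∈ E, x ∈ X ∧ app a x = y := by
  constructor
  · rintro ⟨x, hx, rfl⟩
    exact ⟨x, x.2, hx, app_coe a x⟩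
  · rintro ⟨x, hxE, hx, rfl⟩
    exact ⟨⟨x, hxE⟩, hx, (app_coe a ⟨x, hxE⟩).symm⟩

theorem app_mem_img {x : G} (hxE : x ∈ E) (hx : x ∈ X) : app a x ∈ img a X := mem_img.2 ⟨x, hxE, hx, rfl⟩

theorem img_le : img a X ≤ E := by
  rintro y hy
  obtain ⟨x, hxE, -, rfl⟩ := mem_img.1 hy
  exact app_mem a hxE

theorem img_mono (h : X ≤ Y) : img a X ≤ img a Y := fun y hy => by
  obtain ⟨x, hxE, hx, rfl⟩ := mem_img.1 hy
  exact app_mem_img hxE (h hx)

theorem card_img (hX : X ≤ E) : Nat.card (img a X) = Nat.card X := by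
  rw [img, Subgroup.card_map_of_injective (f := E.subtype.comp a.toMonoidHom)
    (E.subtype_injective.comp a.injective)]
  exact Nat.card_congr (Subgroup.subgroupOfEquivOfLe hX).toEquiv

/-- The image of a subgroup normalized by `E` is normalized by `E`. -/
theorem img_normIn (h : ∀ e ∈ E, ∀ x ∈ X, e * x * e⁻¹ ∈ X) :
    ∀ e ∈ E, ∀ y ∈ img a X, e * y * e⁻¹ ∈ img a X := by
  intro e he y hy
  obtain ⟨x, hxE, hx, rfl⟩ := mem_img.1 hy
  refine mem_img.2 ⟨app a⁻¹ e * x * (app a⁻¹ e)⁻¹, mul_mem (mul_mem (app_mem _ he) hxE) (inv_mem (app_mem _ he)),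
    h _ (app_mem _ he) x hx, ?_⟩
  rw [app_mul a (mul_mem (app_mem _ he) hxE) (inv_mem (app_mem _ he)), app_mul a (app_mem _ he) hxE,
    app_inv a (app_mem _ he), app_app_inv]

theorem comm_mem_inf {E X Y : Subgroup G} (hX : ∀ e ∈ E, ∀ x ∈ X, e * x * e⁻¹ ∈ X)
    (hY : ∀ e ∈ E, ∀ y ∈ Y, e * y * e⁻¹ ∈ Y) (hXE : X ≤ E) (hYE : Y ≤ E) {x y : G} (hx : x ∈ X) (hy : y ∈ Y) :
    ⁅x, y⁆ ∈ X ⊓ Y := by
  refine Subgroup.mem_inf.2 ⟨?_, ?_⟩
  · rw [commutatorElement_def, mul_assoc, mul_assoc, ← mul_assoc y]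
    exact mul_mem hx (hX y (hYE hy) _ (inv_mem hx))
  · rw [commutatorElement_def]
    exact mul_mem (hY x (hXE hx) y hy) (inv_mem hy)

end Invariant

section Stab

/-- The automorphisms stabilizing a series of length four. -/
noncomputable def stab4 (E X₁ X₂ X₃ : Subgroup G) (h1 : X₂ ≤ X₁) (h2 : X₃ ≤ X₂) : Subgroup (MulAut E) where
  carrier := {c | ∀ x ∈ E, x⁻¹ * app c x ∈ X₁ ∧ (x ∈ X₁ → x⁻¹ * app c x ∈ X₂) ∧
    (x ∈ X₂ → x⁻¹ * app c x ∈ X₃) ∧ (x ∈ X₃ → app c x = x)}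
  one_mem' := fun x _ => by
    rw [app_one_aut, inv_mul_cancel]
    exact ⟨one_mem _, fun _ => one_mem _, fun _ => one_mem _, fun _ => rfl⟩
  mul_mem' := fun {c d} hc hd x hx => by
    obtain ⟨d1, d2, d3, d4⟩ := hd x hx
    obtain ⟨c1, c2, c3, c4⟩ := hc (app d x) (app_mem d hx)
    have e : x⁻¹ * app (c * d) x = (x⁻¹ * app d x) * ((app d x)⁻¹ * app c (app d x)) := by
      rw [app_mul_aut]; group
    have em : app d x = x * (x⁻¹ * app d x) := (mul_inv_cancel_left _ _).symm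
    refine ⟨e ▸ mul_mem d1 c1, fun h => e ▸ mul_mem (d2 h) (c2 ?_), fun h => e ▸ mul_mem (d3 h) (c3 ?_),
      fun h => ?_⟩
    · rw [em]; exact mul_mem h (h1 (d2 h))
    · rw [em]; exact mul_mem h (h2 (d3 h))
    · rw [app_mul_aut, c4 (by rw [d4 h]; exact h), d4 h]
  inv_mem' := fun {c} hc x hx => by
    obtain ⟨c1, c2, c3, c4⟩ := hc (app c⁻¹ x) (app_mem _ hx)
    rw [app_app_inv] at c1 c2 c3 c4
    set y := app c⁻¹ x with hy
    have e : x⁻¹ * y = (y⁻¹ * x)⁻¹ := by group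
    have em : y = x * (y⁻¹ * x)⁻¹ := by group
    have m1 : x ∈ X₁ → y ∈ X₁ := fun h => by rw [em]; exact mul_mem h (inv_mem c1)
    have m2 : x ∈ X₂ → y ∈ X₂ := fun h => by rw [em]; exact mul_mem h (inv_mem (c2 (m1 (h1 h))))
    refine ⟨e ▸ inv_mem c1, fun h => e ▸ inv_mem (c2 (m1 h)), fun h => e ▸ inv_mem (c3 (m2 h)), fun h => ?_⟩
    have m3 : y ∈ X₃ := by rw [em]; exact mul_mem h (inv_mem (c3 (m2 (h2 h))))
    exact (c4 m3).symm

variable {p : ℕ} [hp : Fact p.Prime] [Finite G]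

/-- An automorphism of order prime to `p` fixing the quotient `y⁻¹ a y` fixes `y`. -/
theorem fix_step (hG : IsPGroup p G) {E : Subgroup G} {c : MulAut E} {m : ℕ} (hm : ¬ p ∣ m) (hc : c ^ m = 1)
    {y : G} (hy : y ∈ E) (hw : app c (y⁻¹ * app c y) = y⁻¹ * app c y) : app c y = y := by
  set w := y⁻¹ * app c y with hwd
  have hwE : w ∈ E := mul_mem (inv_mem hy) (app_mem c hy)
  have hn : ∀ n : ℕ, app (c ^ n) y = y * w ^ n := by
    intro n
    induction n with
    | zero => rw [pow_zero, app_one_aut, pow_zero, mul_one]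
    | succ n ih =>
      rw [pow_succ', app_mul_aut, ih, app_mul c hy (pow_mem hwE n), app_pow c hwE, hw,
        show app c y = y * w by rw [hwd, mul_inv_cancel_left], mul_assoc, ← pow_succ']
  have h1 := hn m
  rw [hc, app_one_aut, left_eq_mul] at h1
  obtain ⟨k, hk⟩ := hG w
  have hg : w ^ Nat.gcd m (p ^ k) = 1 := pow_gcd_eq_one.2 ⟨h1, hk⟩
  rw [show Nat.gcd m (p ^ k) = 1 from
    Nat.Coprime.pow_right k ((hp.out.coprime_iff_not_dvd.2 hm).symm), pow_one, hwd, inv_mul_eq_one] at hg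
  exact hg.symm

theorem isPGroup_stab4 (hG : IsPGroup p G) {E X₁ X₂ X₃ : Subgroup G} {h1 : X₂ ≤ X₁} {h2 : X₃ ≤ X₂} :
    IsPGroup p (stab4 E X₁ X₂ X₃ h1 h2) := by
  intro c
  obtain ⟨k, m, hm, hkm⟩ := Nat.exists_eq_pow_mul_and_not_dvd (orderOf_pos c).ne' p hp.out.ne_one
  refine ⟨k, Subtype.ext (aut_ext fun x hx => ?_)⟩
  set d : MulAut E := ((c ^ p ^ k : stab4 E X₁ X₂ X₃ h1 h2) : MulAut E) with hd
  have hdm : d ^ m = 1 := by
    rw [hd, ← SubmonoidClass.coe_pow, ← pow_mul, ← hkm, pow_orderOf_eq_one]; rfl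
  have hdS := (c ^ p ^ k).2
  show app d x = app (1 : MulAut E) x
  rw [app_one_aut]
  have f3 : ∀ y ∈ E, y ∈ X₂ → app d y = y := fun y hy h =>
    fix_step hG hm hdm hy ((hdS _ (mul_mem (inv_mem hy) (app_mem d hy))).2.2.2 ((hdS y hy).2.2.1 h))
  have f2 : ∀ y ∈ E, y ∈ X₁ → app d y = y := fun y hy h =>
    fix_step hG hm hdm hy (f3 _ (mul_mem (inv_mem hy) (app_mem d hy)) ((hdS y hy).2.1 h))
  exact fix_step hG hm hdm hx (f2 _ (mul_mem (inv_mem hx) (app_mem d hx)) (hdS x hx).1)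

end Stab

/-- A normal family with automorphism groups, abstracted from a fusion system. -/
structure Frame (p : ℕ) (G : Type*) [Group G] where
  ess : Set (Subgroup G)
  aut : (E : Subgroup G) → Subgroup (MulAut E)
  autTop : Subgroup (MulAut G)
  normal : ∀ E ∈ ess, E.Normal
  index : ∀ E ∈ ess, E.index = p
  cent : ∀ E ∈ ess, ∀ g, (∀ x ∈ E, Commute g x) → g ∈ E
  conj : ∀ E ∈ ess, ∀ g : G, ∀ a : MulAut E, (∀ x ∈ E, app a x = g * x * g⁻¹) → a ∈ aut E
  radical : ∀ E ∈ ess, ∀ K : Subgroup (MulAut E), K ≤ aut E → (∀ a ∈ aut E, ∀ k ∈ K, a * k * a⁻¹ ∈ K) →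
    IsPGroup p K → ∀ k ∈ K, ∃ q ∈ E, ∀ x ∈ E, app k x = q * x * q⁻¹
  sylow : ∀ E ∈ ess, ∀ K : Subgroup (MulAut E), K ≤ aut E → IsPGroup p K →
    (∀ g : G, ∀ a : MulAut E, (∀ x ∈ E, app a x = g * x * g⁻¹) → a ∈ K) →
    ∀ k ∈ K, ∃ g : G, ∀ x ∈ E, app k x = g * x * g⁻¹
  extend : ∀ E ∈ ess, ∀ a ∈ aut E,
    (∀ g : G, ∃ g' : G, ∀ x ∈ E, app a (g * x * g⁻¹) = g' * app a x * g'⁻¹) →
    ∃ χ ∈ autTop, ∀ x ∈ E, χ x = app a x
  core : ∀ Q : Subgroup G, (∀ φ ∈ autTop, ∀ x ∈ Q, φ x ∈ Q) → (∀ E ∈ ess, Q ≤ E ∧ Inv (aut E) Q) → Q = ⊥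
  transport : ∀ φ ∈ autTop, ∀ E ∈ ess, E.map φ.toMonoidHom ∈ ess ∧
    ∀ a ∈ aut E, ∃ b ∈ aut (E.map φ.toMonoidHom), ∀ x ∈ E, app b (φ x) = φ (app a x)
  fixCenter : ∀ κ ∈ autTop, ∀ k : ℕ, κ ^ p ^ k = 1 → ∀ z : G, (∀ g, Commute z g) → κ z = z

namespace Frame

variable {p : ℕ} (f : Frame p G) {E : Subgroup G}

theorem conj_mem (hE : E ∈ f.ess) [E.Normal] (g : G) : (MulAut.conjNormal g : MulAut E) ∈ f.aut E :=
  f.conj E hE g _ fun _ hx => app_conjNormal g hx

theorem normal_of_inv (hE : E ∈ f.ess) {X : Subgroup G} (hXE : X ≤ E) (h : Inv (f.aut E) X) : X.Normal :=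
  ⟨fun x hx g => by
    haveI := f.normal E hE
    rw [← app_conjNormal g (hXE hx)]
    exact h _ (f.conj_mem hE g) x hx⟩

theorem conj_img (hE : E ∈ f.ess) {X : Subgroup G} [X.Normal] (a : MulAut E) :
    ∀ e ∈ E, ∀ y ∈ img a X, e * y * e⁻¹ ∈ img a X :=
  img_normIn fun e _ x hx => Subgroup.Normal.conj_mem inferInstance x hx e

variable [hp : Fact p.Prime] [Finite G]

/-- No element outside stabilizes an invariant series. -/
theorem mem_of_stab (hG : IsPGroup p G) (hE : E ∈ f.ess) {X₁ X₂ X₃ : Subgroup G} (h1 : X₂ ≤ X₁) (h2 : X₃ ≤ X₂)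
    (hX1 : X₁ ≤ E) (i1 : Inv (f.aut E) X₁) (i2 : Inv (f.aut E) X₂) (i3 : Inv (f.aut E) X₃) {g : G}
    (hg0 : ∀ x ∈ E, x⁻¹ * (g * x * g⁻¹) ∈ X₁) (hg1 : ∀ x ∈ X₁, x⁻¹ * (g * x * g⁻¹) ∈ X₂)
    (hg2 : ∀ x ∈ X₂, x⁻¹ * (g * x * g⁻¹) ∈ X₃) (hg3 : ∀ x ∈ X₃, g * x * g⁻¹ = x) : g ∈ E := by
  haveI := f.normal E hE
  set T := stab4 E X₁ X₂ X₃ h1 h2
  have hT : (MulAut.conjNormal g : MulAut E) ∈ T := fun x hx => by
    rw [app_conjNormal g hx]
    exact ⟨hg0 x hx, hg1 x, hg2 x, hg3 x⟩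
  have hn : ∀ a ∈ f.aut E, ∀ k ∈ f.aut E ⊓ T, a * k * a⁻¹ ∈ f.aut E ⊓ T := by
    rintro a ha k ⟨hk, hkT⟩
    refine ⟨Subgroup.mul_mem _ (Subgroup.mul_mem _ ha hk) (Subgroup.inv_mem _ ha), fun x hx => ?_⟩
    set y := app a⁻¹ x with hy
    have hyE : y ∈ E := app_mem _ hx
    have hxy : x = app a y := (app_app_inv a x).symm
    have e : x⁻¹ * app (a * k * a⁻¹) x = app a (y⁻¹ * app k y) := by
      rw [app_mul_aut, app_mul_aut, app_mul a (inv_mem hyE) (app_mem k hyE), app_inv a hyE, ← hxy]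
    obtain ⟨k1, k2, k3, k4⟩ := hkT y hyE
    refine ⟨e ▸ i1 a ha _ k1, fun h => e ▸ i2 a ha _ (k2 (i1 a⁻¹ (inv_mem ha) x h)),
      fun h => e ▸ i3 a ha _ (k3 (i2 a⁻¹ (inv_mem ha) x h)), fun h => ?_⟩
    rw [app_mul_aut, app_mul_aut, k4 (i3 a⁻¹ (inv_mem ha) x h), app_app_inv]
  obtain ⟨q, hq, hk⟩ := f.radical E hE (f.aut E ⊓ T) inf_le_left hn
    ((isPGroup_stab4 hG).to_le inf_le_right) _ ⟨f.conj_mem hE g, hT⟩
  have h : q⁻¹ * g ∈ E := f.cent E hE _ fun x hx => by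
    have h := hk x hx
    rw [app_conjNormal g hx] at h
    show q⁻¹ * g * x = x * (q⁻¹ * g)
    calc q⁻¹ * g * x = q⁻¹ * (g * x * g⁻¹) * g := by group
      _ = x * (q⁻¹ * g) := by rw [h]; group
  have := mul_mem hq h
  rwa [mul_inv_cancel_left] at this

/-- An element outside has a conjugate generating with it more than a `p`-group. -/
theorem exists_pair (hG : IsPGroup p G) (hE : E ∈ f.ess) [E.Normal] {z : G} (hz : z ∉ E) :
    ∃ g ∈ f.aut E, ¬ IsPGroup p (Subgroup.closure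
      ({(MulAut.conjNormal z : MulAut E), g * MulAut.conjNormal z * g⁻¹} : Set (MulAut E))) := by
  by_contra hno
  push Not at hno
  set c : f.aut E := ⟨MulAut.conjNormal z, f.conj_mem hE z⟩ with hc
  haveI : Finite (MulAut E) := inferInstance
  have hXp : IsPGroup p (Subgroup.zpowers c) := by
    intro x
    obtain ⟨k, hk⟩ := hG z
    obtain ⟨n, hn⟩ := Subgroup.mem_zpowers_iff.1 x.2
    refine ⟨k, Subtype.ext ?_⟩
    rw [SubmonoidClass.coe_pow, ← hn, Subgroup.coe_one, ← zpow_natCast, zpow_comm, zpow_natCast,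
      show c ^ p ^ k = 1 from Subtype.ext (by rw [SubmonoidClass.coe_pow, hc, ← map_pow, hk, map_one]; rfl),
      one_zpow]
  obtain ⟨N, hN, hNp, hle⟩ := Cfsg.Agent.BaerSuzuki.baerSuzuki (Subgroup.zpowers c) hXp fun g => by
    have h : (Subgroup.zpowers c ⊔ (Subgroup.zpowers c).map (MulAut.conj g).toMonoidHom).map (f.aut E).subtype ≤
        Subgroup.closure ({(MulAut.conjNormal z : MulAut E), (g : MulAut E) * MulAut.conjNormal z * (g : MulAut E)⁻¹} :
          Set (MulAut E)) := by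
      rw [Subgroup.map_sup, Subgroup.map_map, MonoidHom.map_zpowers, MonoidHom.map_zpowers]
      exact sup_le (Subgroup.zpowers_le.2 (Subgroup.subset_closure (Or.inl rfl)))
        (Subgroup.zpowers_le.2 (Subgroup.subset_closure (Or.inr rfl)))
    exact ((hno g g.2).to_le h).of_equiv (Subgroup.equivMapOfInjective _ _ (f.aut E).subtype_injective).symm
  obtain ⟨q, hq, hk⟩ := f.radical E hE (N.map (f.aut E).subtype) (Subgroup.map_subtype_le N) (by
    rintro a ha _ ⟨k, hk, rfl⟩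
    exact ⟨⟨a, ha⟩ * k * ⟨a, ha⟩⁻¹, hN.conj_mem k hk _, rfl⟩) (hNp.map _) _
    ⟨c, hle (Subgroup.mem_zpowers c), rfl⟩
  have h : q⁻¹ * z ∈ E := f.cent E hE _ fun x hx => by
    have h := hk x hx
    change app (MulAut.conjNormal z : MulAut E) x = _ at h
    rw [app_conjNormal z hx] at h
    show q⁻¹ * z * x = x * (q⁻¹ * z)
    calc q⁻¹ * z * x = q⁻¹ * (z * x * z⁻¹) * z := by group
      _ = x * (q⁻¹ * z) := by rw [h]; group
  have := mul_mem hq h
  rw [mul_inv_cancel_left] at this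
  exact hz this

end Frame

end Cfsg.Agent.RankThreeNormal
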