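import Cfsg.Agent.Lib.RankThreeNormal.Close
import Cfsg.Agent.Lib.RankThreeNormal.PairMain

/-!
The conjugates of the plane of the moving member commute with it.
-/

set_option autoImplicit false
set_option linter.unusedSectionVars false
set_option linter.style.haveILetI false
set_option maxHeartbeats 1000000

open scoped commutatorElement
open Cfsg.Agent.RankThreeEss

namespace Cfsg.Agent.RankThreeNormal

variable {p : ℕ} [hp : Fact p.Prime] {G : Type*} [Group G] [Finite G]

/-- A commutative subgroup over the plane lies in the moving member. -/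
theorem Moves.le_of_comm {f : Frame p G} {E₁ W : Subgroup G} (hm : Moves f E₁) (hE₁ : E₁ ∈ f.ess)
    (hVW : zOm p E₁ ≤ W) (hWc : ∀ x ∈ W, ∀ y ∈ W, Commute x y) : W ≤ E₁ :=
  fun w hw => hm.cent hE₁ fun x hx => hWc w hw x (hVW hx)

/-- No invariant line over the centre in the span of the plane. -/
theorem no_mid (f : Frame p G) (hG : IsPGroup p G) (hsec : Cfsg.SectionalPRankLE p 3 G) (hp2 : p ≠ 2)
    (hall : ∀ A ∈ f.ess, ∀ B ∈ f.ess, zOm p A ≤ B) {E₁ E W : Subgroup G} (hE₁ : E₁ ∈ f.ess) (hm : Moves f E₁)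
    (hE : E ∈ f.ess) (hZi : Inv (f.aut E) (zOm p (⊤ : Subgroup G))) (hZ : Nat.card (zOm p (⊤ : Subgroup G)) = p)
    (hV : Nat.card (zOm p E₁) = p ^ 2) [W.Normal] (hVW : zOm p E₁ ≤ W) (hWE : W ≤ E) (hWi : Inv (f.aut E) W)
    (hW : Nat.card W = p ^ 3) (hne : ¬ Inv (f.aut E) (zOm p E₁))
    {X : Subgroup G} (hXi : Inv (f.aut E) X) (hZX : zOm p (⊤ : Subgroup G) ≤ X) (hXW : X ≤ W)
    (hX : Nat.card X = p ^ 2) : False := by
  haveI := f.normal E hE
  haveI := f.normal E₁ hE₁
  set V := zOm p E₁ with hVd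
  set Zb := zOm p (⊤ : Subgroup G) with hZd
  haveI hVn : V.Normal := f.normal_of_inv hE₁ zOm_le (zOm_inv _)
  haveI hXn : X.Normal := f.normal_of_inv hE (hXW.trans hWE) hXi
  have hVX : X ⊓ V = Zb := by
    refine (Subgroup.eq_of_le_of_card_ge (le_inf hZX (zb_le f hE₁)) ?_).symm
    rw [hZ]
    obtain ⟨x, hx, hxX⟩ : ∃ x ∈ V, x ∉ X := by
      by_contra! hh
      exact hne ((Subgroup.eq_of_le_of_card_ge hh (hX.le.trans hV.ge)).symm ▸ hXi)
    have := step hG (inf_le_right : X ⊓ V ≤ V) hx fun h => hxX h.1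
    rw [hV, pow_two] at this
    exact Nat.le_of_mul_le_mul_left this hp.out.pos
  have hcen : ∀ g : G, ∀ w ∈ W, ⁅g, w⁆ ∈ Zb := fun g w hw => hVX.le ⟨
    commutator_mem_of_step hG hXW (by rw [hW, hX]; exact (pow_succ' p 2).le) hw g,
    commutator_mem_of_step hG hVW (by rw [hW, hV]; exact (pow_succ' p 2).le) hw g⟩
  set A := f.aut E with hA
  let N : Subgroup A :=
    { carrier := {a | ∀ w ∈ W, w⁻¹ * app (a : MulAut E) w ∈ Zb}
      one_mem' := fun w _ => by rw [Subgroup.coe_one, app_one_aut, inv_mul_cancel]; exact one_mem _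
      mul_mem' := fun {c d} hc hd w hw => by
        rw [Subgroup.coe_mul, app_mul_aut, show w⁻¹ * app (c : MulAut E) (app (d : MulAut E) w) =
          (w⁻¹ * app (d : MulAut E) w) * ((app (d : MulAut E) w)⁻¹ * app (c : MulAut E) (app (d : MulAut E) w))
            by group]
        exact mul_mem (hd w hw) (hc _ (hWi _ d.2 w hw))
      inv_mem' := fun {c} hc w hw => by
        have h := inv_mem (hc _ (hWi _ (inv_mem c.2) w hw))
        rw [app_app_inv, mul_inv_rev, inv_inv] at h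
        rw [Subgroup.coe_inv]; exact h }
  haveI hN : N.Normal := ⟨fun n hn g w hw => by
    set u := app ((g : MulAut E))⁻¹ w with hu
    have huW : u ∈ W := hWi _ (inv_mem g.2) w hw
    have hg : app (g : MulAut E) u = w := app_app_inv _ _
    have hmem := hZi _ g.2 _ (hn u huW)
    rw [app_mul _ (inv_mem (hWE huW)) (app_mem _ (hWE huW)), app_inv _ (hWE huW), hg] at hmem
    rw [Subgroup.coe_mul, Subgroup.coe_mul, Subgroup.coe_inv, app_mul_aut, app_mul_aut]
    exact hmem⟩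
  let c : G →* A := (MulAut.conjNormal : G →* MulAut E).codRestrict A (f.conj_mem hE)
  have hcN : c.range ≤ N := by
    rintro _ ⟨g, rfl⟩ w hw
    show w⁻¹ * app (MulAut.conjNormal g : MulAut E) w ∈ Zb
    rw [app_conjNormal g (hWE hw), show w⁻¹ * (g * w * g⁻¹) = ⁅g, w⁻¹⁆⁻¹ * 1 * (⁅w⁻¹, g⁆ * ⁅g, w⁻¹⁆) by
      simp only [commutatorElement_def]; group]
    have hc := hcen g _ (inv_mem hw)
    rw [← commutatorElement_inv g w⁻¹, inv_mul_cancel, mul_one, mul_one]
    exact inv_mem hc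
  let P : Sylow p A :=
    { toSubgroup := c.range
      isPGroup' := hG.of_surjective c.rangeRestrict c.rangeRestrict_surjective
      is_maximal' := fun {Q} hQ hle => by
        refine le_antisymm (fun k hk => ?_) hle
        obtain ⟨g, hg⟩ := f.sylow E hE (Q.map A.subtype) (Subgroup.map_subtype_le Q) (hQ.map _) (fun g a hga =>
          ⟨c g, hle ⟨g, rfl⟩, aut_ext fun x hx => by
            show app (MulAut.conjNormal g : MulAut E) x = app a x
            rw [app_conjNormal g hx, hga x hx]⟩) _ ⟨k, hk, rfl⟩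
        exact ⟨g, Subtype.ext (aut_ext fun x hx => by
          show app (MulAut.conjNormal g : MulAut E) x = app (k : MulAut E) x
          rw [app_conjNormal g hx]
          exact (hg x hx).symm)⟩ }
  have htop := Sylow.normalizer_sup_eq_top' P (N := N) hcN
  refine hne fun a ha v hv => ?_
  obtain ⟨n, hn, m, hm', e⟩ := Subgroup.mem_sup_of_normal_left.1
    ((sup_comm (Subgroup.normalizer _) N ▸ htop).ge (Subgroup.mem_top (⟨a, ha⟩ : A)))
  obtain ⟨χ, hχ, hχe⟩ := f.extend E hE _ m.2 fun g => by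
    have h1 : m * c g * m⁻¹ ∈ c.range := (Subgroup.mem_normalizer_iff.1 hm' (c g)).1 ⟨g, rfl⟩
    obtain ⟨g', hg'⟩ := h1
    refine ⟨g', fun x hx => ?_⟩
    have h2 : app (c g' : MulAut E) (app (m : MulAut E) x) = app ((m * c g * m⁻¹ : A) : MulAut E) (app (m : MulAut E) x) := by
      rw [hg']
    rw [Subgroup.coe_mul, Subgroup.coe_mul, Subgroup.coe_inv, app_mul_aut, app_mul_aut, app_inv_app] at h2
    rw [show ((c g : A) : MulAut E) = MulAut.conjNormal g from rfl, show ((c g' : A) : MulAut E) =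
      MulAut.conjNormal g' from rfl, app_conjNormal g hx, app_conjNormal g' (app_mem _ hx)] at h2
    exact h2.symm
  have hvE : v ∈ E := hWE (hVW hv)
  have hmv : app (m : MulAut E) v ∈ V := by
    rw [← hχe v hvE]
    exact zOm_map f hG hsec hp2 hall hE₁ hm hχ hv
  have hval : (n : MulAut E) * (m : MulAut E) = a := congrArg Subtype.val e
  rw [← hval, app_mul_aut]
  have h := mul_mem hmv (zb_le f hE₁ (hn _ (hVW hmv)))
  rwa [mul_inv_cancel_left] at h

/-- Nothing of exponent `p` sits a step above the span, with central commutators. -/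
theorem no_top (f : Frame p G) (hG : IsPGroup p G) (hsec : Cfsg.SectionalPRankLE p 3 G) (hp2 : p ≠ 2)
    (hall : ∀ A ∈ f.ess, ∀ B ∈ f.ess, zOm p A ≤ B) {E₁ E W : Subgroup G} (hE₁ : E₁ ∈ f.ess) (hm : Moves f E₁)
    (hE : E ∈ f.ess) (hZi : Inv (f.aut E) (zOm p (⊤ : Subgroup G))) (hZ : Nat.card (zOm p (⊤ : Subgroup G)) = p)
    (hV : Nat.card (zOm p E₁) = p ^ 2) [W.Normal] (hsp : W = span f E (zOm p E₁)) (hW : Nat.card W = p ^ 3)
    (hne : ¬ Inv (f.aut E) (zOm p E₁)) {U : Subgroup G} [U.Normal] (hWU : W ≤ U)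
    (hU : Nat.card U = p * Nat.card W) (hUc : ∀ x ∈ U, ∀ y ∈ U, ⁅x, y⁆ ∈ zOm p (⊤ : Subgroup G))
    (hUp : ∀ x ∈ U, x ^ p = 1) (hVU : ∀ v ∈ zOm p E₁, ∀ u ∈ U, Commute v u) : False := by
  haveI := f.normal E hE
  haveI := f.normal E₁ hE₁
  set V := zOm p E₁ with hVd
  set Zb := zOm p (⊤ : Subgroup G) with hZd
  have hVE : V ≤ E := hall E₁ hE₁ E hE
  have hVW : V ≤ W := hsp ▸ le_span f
  have hWE : W ≤ E := hsp ▸ span_le f hVE
  have hWi : Inv (f.aut E) W := hsp ▸ span_inv f hVE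
  have hZW : Zb ≤ W := (zb_le f hE₁).trans hVW
  have hUE : U ≤ E := by
    by_contra hle
    obtain ⟨x, hx, hxE⟩ := SetLike.not_le_iff_exists.1 hle
    have hUE : U ⊓ E = W := by
      refine (Subgroup.eq_of_le_of_card_ge (le_inf hWU hWE) ?_).symm
      have := step hG (inf_le_left : U ⊓ E ≤ U) hx fun h => hxE h.2
      rw [hU] at this
      exact Nat.le_of_mul_le_mul_left this hp.out.pos
    refine hxE (f.mem_of_stab hG hE (X₁ := W) (X₂ := Zb) (X₃ := ⊥) hZW bot_le hWE hWi hZi ?_ ?_ ?_ ?_ ?_)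
    · intro b _ z hz; rw [Subgroup.mem_bot] at hz ⊢; rw [hz, app_one]
    · intro e he
      refine hUE.le (Subgroup.mem_inf.2 ⟨?_, mul_mem (inv_mem he) (Subgroup.Normal.conj_mem inferInstance e he x)⟩)
      rw [← mul_assoc, ← mul_assoc]
      exact mul_mem (by simpa using Subgroup.Normal.conj_mem (inferInstance : U.Normal) x hx e⁻¹) (inv_mem hx)
    · intro w hw
      have h := hUc _ (inv_mem (hWU hw)) _ hx
      rwa [show w⁻¹ * (x * w * x⁻¹) = ⁅w⁻¹, x⁆ by simp only [commutatorElement_def]; group]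
    · intro w hw
      rw [Subgroup.mem_bot, ((mem_zb.1 hw).1 x).eq.symm, mul_inv_cancel_right, inv_mul_cancel]
    · intro w hw
      rw [Subgroup.mem_bot] at hw
      rw [hw]; simp
  rcases orbit f hG hsec hp2 hE (Z₀ := Zb) hZW hWU hUE hZi hWi (by rw [hW, hZ]; ring) hU hUc
      (fun x hx => by rw [hUp x hx]; exact one_mem _) with hUi | ⟨U', X, -, -, -, -, -, -, hXi, hZX, hXW, hXc, -⟩
  · have hWU' : ∀ w ∈ W, ∀ u ∈ U, Commute w u := by
      intro w hw u hu
      rw [hsp] at hw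
      have hle : span f E V ≤ Subgroup.centralizer {u} := (Subgroup.closure_le _).2 (by
        rintro _ ⟨b, hb, v, hv, rfl⟩
        refine Subgroup.mem_centralizer_iff.2 ?_
        rintro _ rfl
        have h := congrArg (app b) (hVU v hv _ (hUi _ (inv_mem hb) _ hu)).eq
        rw [app_mul b (hVE hv) (app_mem _ (hUE hu)), app_mul b (app_mem _ (hUE hu)) (hVE hv), app_app_inv] at h
        exact h.symm)
      exact (Subgroup.mem_centralizer_iff.1 (hle hw) u rfl).symm
    obtain ⟨x, hx, hxW⟩ : ∃ x ∈ U, x ∉ W := exists_not_mem (by rw [hU]; exact lt_mul_self W)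
    have hs : ∀ s ∈ (W : Set G) ∪ {x}, ∀ t ∈ (W : Set G) ∪ {x}, Commute s t := by
      rintro s (hs | rfl) t (ht | rfl)
      exacts [hWU' s hs t (hWU ht), hWU' s hs _ hx, (hWU' t ht _ hx).symm, Commute.refl _]
    haveI := comm_closure hs
    have hUle : U ≤ Subgroup.closure ((W : Set G) ∪ {x}) := (eq_sup hG hWU hU hx hxW).ge.trans
      (sup_le (fun r hr => Subgroup.subset_closure (Or.inl hr))
        (Subgroup.zpowers_le.2 (Subgroup.subset_closure (Or.inr rfl))))
    have h := card_elem_le hG hsec U (fun a ha b hb =>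
      congrArg Subtype.val (mul_comm' (⟨a, hUle ha⟩ : Subgroup.closure _) ⟨b, hUle hb⟩)) hUp
    rw [hU, hW, ← pow_succ'] at h
    exact absurd (Nat.pow_le_pow_iff_right hp.out.one_lt |>.1 h) (by omega)
  · exact no_mid f hG hsec hp2 hall hE₁ hm hE hZi hZ hV hVW hWE hWi hW hne hXi hZX hXW (by rw [hXc, hZ, pow_two])

theorem far_contra (f : Frame p G) (hG : IsPGroup p G) (hsec : Cfsg.SectionalPRankLE p 3 G)
    [Nontrivial G] (hp2 : p ≠ 2) (hall : ∀ A ∈ f.ess, ∀ B ∈ f.ess, zOm p A ≤ B)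
    {E₁ : Subgroup G} (hE₁ : E₁ ∈ f.ess) (hm : Moves f E₁)
    (hcomm : ∀ E ∈ f.ess, ∀ a ∈ f.aut E, ∀ v ∈ zOm p E₁, ∀ y ∈ zOm p E₁, Commute (app a v) y) : False := by
  haveI := f.normal E₁ hE₁
  set V := zOm p E₁ with hVd
  set Zb := zOm p (⊤ : Subgroup G) with hZd
  haveI hVn : V.Normal := f.normal_of_inv hE₁ zOm_le (zOm_inv _)
  have hVc : ∀ x ∈ V, ∀ y ∈ V, Commute x y := fun x hx y hy => hx.2.1 y hy.1
  have hZp := zb_card (p := p) hG
  have l1 := hm.card_lt hE₁ hG
  have hV1 : 1 < Nat.card V :=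
    hp.out.one_lt.trans_le ((Nat.le_mul_of_pos_right p Nat.card_pos).trans l1)
  have hspanc : ∀ E ∈ f.ess, ∀ x ∈ span f E V, ∀ y ∈ span f E V, Commute x y := by
    intro E hE
    have hVE : V ≤ E := hall E₁ hE₁ E hE
    have hs : ∀ s ∈ {x | ∃ b ∈ f.aut E, ∃ v ∈ V, app b v = x}, ∀ t ∈ {x | ∃ b ∈ f.aut E, ∃ v ∈ V, app b v = x},
        Commute s t := by
      rintro _ ⟨b, hb, v, hv, rfl⟩ _ ⟨c, hc, w, hw, rfl⟩
      have h := congrArg (app b) (hcomm E hE _ (mul_mem (inv_mem hb) hc) w hw v hv).eq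
      rw [app_mul b (app_mem _ (hVE hw)) (hVE hv), app_mul b (hVE hv) (app_mem _ (hVE hw)), app_mul_aut,
        app_app_inv] at h
      exact h.symm
    haveI := comm_closure hs
    exact fun x hx y hy => congrArg Subtype.val (mul_comm' (⟨x, hx⟩ : Subgroup.closure _) ⟨y, hy⟩)
  have hspanp : ∀ E ∈ f.ess, ∀ x ∈ span f E V, x ^ p = 1 := by
    intro E hE x hx
    refine pow_eq_one_closure p (fun s hs t ht => hspanc E hE s (Subgroup.subset_closure hs) t
      (Subgroup.subset_closure ht)) ?_ hx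
    rintro _ ⟨b, hb, v, hv, rfl⟩
    rw [← app_pow b (hall E₁ hE₁ E hE hv), hv.2.2, app_one]
  obtain ⟨E, hE, hne⟩ : ∃ E ∈ f.ess, ¬ Inv (f.aut E) V := by
    by_contra! hh
    have hb := f.core V (fun φ hφ x hx => zOm_map f hG hsec hp2 hall hE₁ hm hφ hx)
      fun E hE => ⟨hall E₁ hE₁ E hE, hh E hE⟩
    rw [hb, Subgroup.card_bot] at hV1
    exact lt_irrefl 1 hV1
  haveI := f.normal E hE
  have hVE : V ≤ E := hall E₁ hE₁ E hE
  set W := span f E V with hWd
  have hVW : V ≤ W := le_span f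
  have hWE : W ≤ E := span_le f hVE
  have hWi : Inv (f.aut E) W := span_inv f hVE
  haveI hWn : W.Normal := f.normal_of_inv hE hWE hWi
  have hWc := hspanc E hE
  have hWp := hspanp E hE
  have hW3 := card_elem_le hG hsec W hWc hWp
  obtain ⟨u, hu, huV⟩ : ∃ u ∈ W, u ∉ V := by
    by_contra! hh
    exact hne ((le_antisymm hh hVW : W = V) ▸ hWi)
  have s1 : p * Nat.card V ≤ Nat.card W := step hG hVW hu huV
  have a1 : Nat.card V ≤ p ^ 2 := Nat.le_of_mul_le_mul_left (s1.trans (hW3.trans (by rw [← pow_succ']))) hp.out.pos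
  have hV : Nat.card V = p ^ 2 := le_antisymm a1 (by rw [pow_two]; exact (Nat.mul_le_mul_left p hZp).trans l1)
  have hW : Nat.card W = p ^ 3 := le_antisymm hW3 (le_of_eq_of_le (by rw [hV, ← pow_succ']) s1)
  have hZ : Nat.card Zb = p := le_antisymm (by
    rw [hV, pow_two] at l1; exact Nat.le_of_mul_le_mul_left l1 hp.out.pos) hZp
  have hZi : Inv (f.aut E) Zb := by
    by_contra h
    exact hne ((moves_unique hG hsec hp2 hall hE hE₁ h hm) ▸ zOm_inv (p := p) (f.aut E))
  have hnoU := fun {U : Subgroup G} [U.Normal] => no_top f hG hsec hp2 hall hE₁ hm hE hZi hZ hV hWd hW hne (U := U)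
  have hWE₁ : W ≤ E₁ := hm.le_of_comm hE₁ hVW hWc
  -- uniqueness
  have huniq : ∀ W' : Subgroup G, W'.Normal → V ≤ W' → Nat.card W' = p ^ 3 →
      (∀ x ∈ W', ∀ y ∈ W', Commute x y) → (∀ x ∈ W', x ^ p = 1) → W' = W := by
    intro W' hW'n hVW' hW' hW'c hW'p
    by_contra hne'
    obtain ⟨w, hw, hwW⟩ : ∃ w ∈ W', w ∉ W := by
      by_contra! hh
      exact hne' (Subgroup.eq_of_le_of_card_ge hh (hW.trans hW'.symm).le)
    have hwV : w ∉ V := fun h => hwW (hVW h)
    have hW'eq : V ⊔ Subgroup.zpowers w = W' := eq_sup hG hVW' (by rw [hW', hV, ← pow_succ']) hw hwV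
    set U := W ⊔ W' with hUd
    have hUeq : W ⊔ Subgroup.zpowers w = U := le_antisymm (sup_le le_sup_left
      (Subgroup.zpowers_le.2 (Subgroup.mem_sup_right hw)))
      (sup_le le_sup_left (hW'eq.ge.trans (sup_le_sup_right hVW _)))
    have hU : Nat.card U = p * Nat.card W := by
      rw [← hUeq]; exact card_step hG hwW (by rw [hW'p w hw]; exact one_mem _)
    have hVU : ∀ v ∈ V, ∀ x ∈ U, Commute v x := by
      intro v hv x hx
      have hle : U ≤ Subgroup.centralizer {v} := sup_le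
        (fun r hr => Subgroup.mem_centralizer_iff.2 (by rintro _ rfl; exact (hWc _ (hVW hv) r hr).eq))
        (fun r hr => Subgroup.mem_centralizer_iff.2 (by rintro _ rfl; exact (hW'c _ (hVW' hv) r hr).eq))
      exact Subgroup.mem_centralizer_iff.1 (hle hx) v rfl
    have hcross : ∀ a ∈ W, ∀ b ∈ W', ⁅a, b⁆ ∈ Zb := by
      intro a ha b hb
      have h1 : ⁅a, b⁆ ∈ V := commutator_mem_of_step hG hVW' (by rw [hW', hV, ← pow_succ']) hb a
      refine mem_zb.2 ⟨fun g => ?_, h1.2.2⟩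
      have m1 := commutator_mem_of_step hG hVW (by rw [hW, hV, ← pow_succ']) ha g
      have m2 := commutator_mem_of_step hG hVW' (by rw [hW', hV, ← pow_succ']) hb g
      have q1 : Commute ⁅g, a⁆ (⁅g, b⁆ * b) := (hVc _ m1 _ m2).mul_right (hVU _ m1 b (Subgroup.mem_sup_right hb))
      have q2 : Commute ⁅g, b⁆ a := hVU _ m2 a (Subgroup.mem_sup_left ha)
      have key : g * ⁅a, b⁆ * g⁻¹ = ⁅a, b⁆ := by
        have q3 : ⁅g, b⁆ * b * a⁻¹ = ⁅g, b⁆ * (b * a⁻¹) := mul_assoc _ _ _
        calc g * ⁅a, b⁆ * g⁻¹ = ⁅⁅g, a⁆ * a, ⁅g, b⁆ * b⁆ := by simp only [commutatorElement_def]; group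
          _ = ⁅g, a⁆ * ⁅a, ⁅g, b⁆ * b⁆ * ⁅g, a⁆⁻¹ := by
            rw [show ⁅⁅g, a⁆ * a, ⁅g, b⁆ * b⁆ = ⁅g, a⁆ * ⁅a, ⁅g, b⁆ * b⁆ * ⁅g, a⁆⁻¹ * ⁅⁅g, a⁆, ⁅g, b⁆ * b⁆ by
              simp only [commutatorElement_def]; group, commutatorElement_eq_one_iff_commute.2 q1, mul_one]
          _ = ⁅g, a⁆ * ⁅a, b⁆ * ⁅g, a⁆⁻¹ := by
            rw [show ⁅a, ⁅g, b⁆ * b⁆ = ⁅a, ⁅g, b⁆⁆ * (⁅g, b⁆ * ⁅a, b⁆ * ⁅g, b⁆⁻¹) by
              simp only [commutatorElement_def]; group, commutatorElement_eq_one_iff_commute.2 q2.symm, one_mul,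
              (hVc _ m2 _ h1).eq, mul_inv_cancel_right]
          _ = ⁅a, b⁆ := by rw [(hVc _ m1 _ h1).eq, mul_inv_cancel_right]
      show ⁅a, b⁆ * g = g * ⁅a, b⁆
      conv_lhs => rw [← key]
      group
    set π := QuotientGroup.mk' Zb with hπ
    have hUc : ∀ x ∈ U, ∀ y ∈ U, ⁅x, y⁆ ∈ Zb := by
      intro x hx y hy
      have hq : ∀ {s t : G}, ⁅s, t⁆ ∈ Zb → Commute (π s) (π t) := fun {s t} h => by
        rw [← commutatorElement_eq_one_iff_commute, ← map_commutatorElement]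
        exact (QuotientGroup.eq_one_iff _).2 h
      have hq1 : ∀ {s t : G}, Commute s t → Commute (π s) (π t) := fun h => h.map π
      have hs : ∀ s ∈ π '' ((W : Set G) ∪ W'), ∀ t ∈ π '' ((W : Set G) ∪ W'), Commute s t := by
        rintro _ ⟨s, hs | hs, rfl⟩ _ ⟨t, ht | ht, rfl⟩
        exacts [hq1 (hWc s hs t ht), hq (hcross s hs t ht), (hq (hcross t ht s hs)).symm, hq1 (hW'c s hs t ht)]
      haveI := comm_closure hs
      have hle : ∀ z ∈ U, π z ∈ Subgroup.closure (π '' ((W : Set G) ∪ W')) := fun z hz => by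
        rw [← MonoidHom.map_closure, Subgroup.closure_union, Subgroup.closure_eq, Subgroup.closure_eq]
        exact ⟨z, hz, rfl⟩
      have h := commutatorElement_eq_one_iff_mul_comm.2
        (congrArg Subtype.val (mul_comm' (⟨_, hle x hx⟩ : Subgroup.closure _) ⟨_, hle y hy⟩))
      rw [← map_commutatorElement] at h
      exact (QuotientGroup.eq_one_iff _).1 h
    have hUp : ∀ x ∈ U, x ^ p = 1 := by
      have hcl : ∀ s t g : U, Commute ⁅s, t⁆ g := fun s t g =>
        Subtype.ext ((mem_zb.1 (hUc _ s.2 _ t.2)).1 g).eq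
      have hdp : ∀ s t : U, ⁅s, t⁆ ^ p = 1 := fun s t => Subtype.ext (mem_zb.1 (hUc _ s.2 _ t.2)).2
      let K : Subgroup G :=
        { carrier := {x | x ∈ U ∧ x ^ p = 1}
          one_mem' := ⟨one_mem _, one_pow p⟩
          mul_mem' := fun {x u} hx hu => ⟨mul_mem hx.1 hu.1, by
            have h := mul_pow_prime hp2 hcl hdp ⟨x, hx.1⟩ ⟨u, hu.1⟩
            have h' := congrArg Subtype.val h
            simp only [SubmonoidClass.coe_pow, Subgroup.coe_mul] at h'
            rw [h', hx.2, hu.2, one_mul]⟩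
          inv_mem' := fun {x} hx => ⟨inv_mem hx.1, by rw [inv_pow, hx.2, inv_one]⟩ }
      have hK : U ≤ K := sup_le (fun r hr => ⟨Subgroup.mem_sup_left hr, hWp r hr⟩)
        fun r hr => ⟨Subgroup.mem_sup_right hr, hW'p r hr⟩
      exact fun x hx => (hK hx).2
    haveI := hW'n
    haveI : U.Normal := Subgroup.sup_normal W W'
    exact hnoU le_sup_left hU hUc hUp hVU
  have hbot : W = ⊥ := by
    refine f.core W (fun φ hφ x hx => ?_) fun E' hE' => ?_
    · have hW' : W.map φ.toMonoidHom = W := by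
        refine huniq _ (Subgroup.Normal.map inferInstance _ φ.surjective) (fun v hv => ?_) ?_ ?_ ?_
        · exact ⟨φ⁻¹ v, hVW (zOm_map f hG hsec hp2 hall hE₁ hm (inv_mem hφ) hv), φ.apply_symm_apply v⟩
        · rw [Subgroup.card_map_of_injective φ.injective, hW]
        · rintro _ ⟨a, ha, rfl⟩ _ ⟨b, hb, rfl⟩
          exact (hWc a ha b hb).map φ.toMonoidHom
        · rintro _ ⟨a, ha, rfl⟩
          rw [← map_pow, hWp a ha, map_one]
      exact hW'.le ⟨x, hx, rfl⟩
    · haveI := f.normal E' hE'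
      have hVE' : V ≤ E' := hall E₁ hE₁ E' hE'
      by_cases hV' : Inv (f.aut E') V
      · have hWE' : W ≤ E' := by
          by_contra hle
          obtain ⟨x, hx, hxE⟩ := SetLike.not_le_iff_exists.1 hle
          have hWEV : W ⊓ E' = V := by
            refine (Subgroup.eq_of_le_of_card_ge (le_inf hVW hVE') ?_).symm
            have := step hG (inf_le_left : W ⊓ E' ≤ W) hx fun h => hxE h.2
            rw [hW, pow_succ'] at this
            exact (Nat.le_of_mul_le_mul_left this hp.out.pos).trans hV.ge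
          refine hxE (f.mem_of_stab hG hE' (X₁ := V) (X₂ := ⊥) (X₃ := ⊥) bot_le le_rfl hVE' hV' ?_ ?_ ?_ ?_ ?_ ?_)
          · intro b _ z hz; rw [Subgroup.mem_bot] at hz ⊢; rw [hz, app_one]
          · intro b _ z hz; rw [Subgroup.mem_bot] at hz ⊢; rw [hz, app_one]
          · intro e he
            refine hWEV.le (Subgroup.mem_inf.2 ⟨?_, mul_mem (inv_mem he) (Subgroup.Normal.conj_mem inferInstance e he x)⟩)
            rw [← mul_assoc, ← mul_assoc]
            exact mul_mem (by simpa using Subgroup.Normal.conj_mem hWn x hx e⁻¹) (inv_mem hx)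
          · intro v hv
            rw [Subgroup.mem_bot, (hWc x hx v (hVW hv)).eq, mul_inv_cancel_right, inv_mul_cancel]
          · intro v hv
            rw [Subgroup.mem_bot] at hv
            rw [hv]; simp
          · intro v hv
            rw [Subgroup.mem_bot] at hv
            rw [hv]; simp
        refine ⟨hWE', ?_⟩
        rcases orbit f hG hsec hp2 hE' (Z₀ := (⊥ : Subgroup G)) bot_le hVW hWE'
          (fun a _ x hx => by rw [Subgroup.mem_bot] at hx ⊢; rw [hx, app_one]) hV'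
          (by rw [Subgroup.card_bot, mul_one, hV]) (by rw [hW, hV]; ring)
          (fun x hx y hy => Subgroup.mem_bot.2 (commutatorElement_eq_one_iff_commute.2 (hWc x hx y hy)))
          (fun x hx => Subgroup.mem_bot.2 (hWp x hx)) with h | ⟨U, X, hUn, -, hWU, -, hU, hXn, -, -, hXV, hXc, hUc, hUp, hVU⟩
        · exact h
        · exfalso
          rw [Subgroup.card_bot, mul_one] at hXc
          haveI := hUn
          haveI := hXn
          exact hnoU hWU hU (fun a ha b hb => le_zb_of_card hG hXc.le (hUc a ha b hb))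
            (fun a ha => Subgroup.mem_bot.1 (hUp a ha))
            fun v hv a ha => commutatorElement_eq_one_iff_commute.1 (Subgroup.mem_bot.1 (hVU v hv a ha))
      · set W' := span f E' V with hW'd
        haveI hW'n : W'.Normal := f.normal_of_inv hE' (span_le f hVE') (span_inv f hVE')
        have hc' := card_elem_le hG hsec W' (hspanc E' hE') (hspanp E' hE')
        obtain ⟨r, hr, hrV⟩ : ∃ r ∈ W', r ∉ V := by
          by_contra! hh
          exact hV' ((le_antisymm hh (le_span f) : W' = V) ▸ span_inv f hVE')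
        have hW'c : Nat.card W' = p ^ 3 := le_antisymm hc'
          (le_of_eq_of_le (by rw [hV, ← pow_succ']) (step hG (le_span f) hr hrV))
        have he : W' = W := huniq W' hW'n (le_span f) hW'c (hspanc E' hE') (hspanp E' hE')
        exact he ▸ ⟨span_le f hVE', span_inv f hVE'⟩
  rw [hbot, Subgroup.card_bot] at hW
  exact absurd hW.ge (not_le.2 (Nat.one_lt_pow three_ne_zero hp.out.one_lt))

theorem exists_pair_member (f : Frame p G) (hG : IsPGroup p G) (hsec : Cfsg.SectionalPRankLE p 3 G)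
    [Nontrivial G] (hp2 : p ≠ 2) :
    ∃ E₁ ∈ f.ess, ∃ E₂ ∈ f.ess, ∃ z ∈ zOm p E₁, z ∉ E₂ := by
  by_contra hall
  push Not at hall
  obtain ⟨E₁, hE₁, hm⟩ := exists_moves f hG
  refine far_contra f hG hsec hp2 hall hE₁ hm fun E hE a ha v hv y hy => ?_
  by_contra hne
  exact close_contra f hG hsec hp2 hall hE₁ hm hE ha hv hy hne

/-- With trivial core the group has the symplectic shape. -/
theorem shape (f : Frame p G) (hG : IsPGroup p G) (hsec : Cfsg.SectionalPRankLE p 3 G)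
    (hsec2 : ¬ Cfsg.SectionalPRankLE p 2 G) (hp2 : p ≠ 2) : Shape p G := by
  haveI := nontrivial_of_rank hsec2
  obtain ⟨E₁, hE₁, E₂, hE₂, z, hz, hz2⟩ := exists_pair_member f hG hsec hp2
  exact shape_of_pair f hG hsec hsec2 hp2 hE₁ hE₂ hz hz2

end Cfsg.Agent.RankThreeNormal
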