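import Cfsg.Agent.Lib.RankThreeNormal.Pair
import Cfsg.Agent.Lib.RankThreeNormal.Transv

/-!
The direct product of an extraspecial group of order `p³` with a cyclic group of order `p`.
-/

set_option autoImplicit false
set_option linter.unusedSectionVars false
set_option linter.style.haveILetI false
set_option maxHeartbeats 1000000

open scoped commutatorElement
open Cfsg.Agent.RankThreeEss

namespace Cfsg.Agent.RankThreeNormal

variable {p : ℕ} [hp : Fact p.Prime] {G : Type*} [Group G] [Finite G]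

/-- The invariant line of one member. -/
theorem exists_axis (f : Frame p G) (hG : IsPGroup p G) (hp2 : p ≠ 2) {c Y : G} (hcc : ∀ g, Commute c g)
    (hYc : ∀ g, Commute Y g) (hcp : c ^ p = 1) (hYp : Y ^ p = 1) (hY1 : Y ≠ 1)
    (hc : c ∉ Subgroup.zpowers Y) (hfr : frattini G = Subgroup.zpowers Y) {E E' : Subgroup G} (hE : E ∈ f.ess)
    (hE' : E' ∈ f.ess) (hne : ∃ z ∈ E', z ∉ E) (hab : ∀ x ∈ E, ∀ y ∈ E, Commute x y) (hexp : ∀ x ∈ E, x ^ p = 1)
    (hcard : Nat.card E = p ^ 3) (hcard' : Nat.card E' = p ^ 3) :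
    ∃ k : G, (∀ g, Commute k g) ∧ k ^ p = 1 ∧ k ∉ Subgroup.zpowers Y ∧
      Subgroup.zpowers k ⊔ Subgroup.zpowers Y = Subgroup.zpowers c ⊔ Subgroup.zpowers Y ∧
      Inv (f.aut E) (Subgroup.zpowers k) ∧ ∃ χ ∈ f.autTop, χ Y = Y⁻¹ ∧ χ k = k := by
  obtain ⟨z, hz, hzE⟩ := hne
  haveI := f.normal E hE
  haveI := f.normal E' hE'
  have hYE : Y ∈ E := f.cent E hE Y fun x _ => hYc x
  have hcE : c ∈ E := f.cent E hE c fun x _ => hcc x
  have hYE' : Y ∈ E' := f.cent E' hE' Y fun x _ => hYc x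
  have hcE' : c ∈ E' := f.cent E' hE' c fun x _ => hcc x
  set P := Subgroup.zpowers c ⊔ Subgroup.zpowers Y with hP
  haveI hcn : (Subgroup.zpowers Y).Normal := ⟨fun x hx g => by
    obtain ⟨i, rfl⟩ := Subgroup.mem_zpowers_iff.1 hx
    rw [← ((hYc g).zpow_left i).eq, mul_inv_cancel_right]; exact hx⟩
  have hcP : Nat.card P = p * p := by
    rw [hP, sup_comm, card_step hG hc (by rw [hcp]; exact one_mem _), Nat.card_zpowers, orderOf_eq_prime hYp hY1]
  have hPc : ∀ x ∈ P, ∀ g, Commute x g := fun x hx g => by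
    have h : P ≤ Subgroup.center G := sup_le (Subgroup.zpowers_le.2 (Subgroup.mem_center_iff.2 fun g => (hcc g).eq.symm))
      (Subgroup.zpowers_le.2 (Subgroup.mem_center_iff.2 fun g => (hYc g).eq.symm))
    exact (Subgroup.mem_center_iff.1 (h hx) g).symm
  haveI hPn : P.Normal := ⟨fun x hx g => by rw [← (hPc x hx g).eq, mul_inv_cancel_right]; exact hx⟩
  have hPD : E ⊓ E' = P := by
    refine (Subgroup.eq_of_le_of_card_ge (le_inf (sup_le (Subgroup.zpowers_le.2 hcE) (Subgroup.zpowers_le.2 hYE))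
      (sup_le (Subgroup.zpowers_le.2 hcE') (Subgroup.zpowers_le.2 hYE'))) ?_).symm
    have hs : p * Nat.card (E ⊓ E' : Subgroup G) ≤ Nat.card E' :=
      step hG inf_le_right hz fun h => hzE h.1
    rw [hcard'] at hs
    rw [hcP]
    exact Nat.le_of_mul_le_mul_left (hs.trans (by rw [pow_succ', pow_two])) hp.out.pos
  have hPE : P ≤ E := hPD ▸ inf_le_left
  set a : MulAut E := MulAut.conjNormal z with ha
  have haa : ∀ {x : G}, x ∈ E → app a x = z * x * z⁻¹ := fun hx => app_conjNormal z hx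
  have himg : ∀ (g : G) (x : G), x⁻¹ * (g * x * g⁻¹) ∈ Subgroup.zpowers Y := fun g x => by
    rw [← hfr, show x⁻¹ * (g * x * g⁻¹) = ⁅x⁻¹, g⁆ by simp only [commutatorElement_def]; group]
    exact commutator_mem_frattini hG _ _
  have haP : ∀ x ∈ P, app a x = x := fun x hx => by
    rw [haa (hPE hx), ← (hPc x hx z).eq, mul_inv_cancel_right]
  obtain ⟨g, hg, hnp⟩ := f.exists_pair hG hE hzE
  set a' : MulAut E := g * a * g⁻¹ with ha'
  set X := app g Y with hX
  set D' := img g P with hD'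
  have hXE : X ∈ E := app_mem g hYE
  have hXp : X ^ p = 1 := hexp X hXE
  have hXD' : X ∈ D' := app_mem_img hYE (Subgroup.mem_sup_right (Subgroup.mem_zpowers Y))
  have haI : ∀ x ∈ E, x⁻¹ * app a x ∈ Subgroup.zpowers Y := fun x hx => by rw [haa hx]; exact himg z x
  have haI' : ∀ x ∈ E, x⁻¹ * app a' x ∈ Subgroup.zpowers X := by
    intro x hx
    have hy : app g⁻¹ x ∈ E := app_mem _ hx
    obtain ⟨i, hi⟩ := Subgroup.mem_zpowers_iff.1 (haI _ hy)
    refine ⟨i, ?_⟩
    show X ^ i = x⁻¹ * app a' x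
    rw [hX, ← app_zpow g hYE, hi, app_mul g (inv_mem hy) (app_mem a hy), app_inv g hy, app_app_inv, ha',
      app_mul_aut, app_mul_aut]
  have haD' : ∀ x ∈ D', app a' x = x := by
    intro x hx
    obtain ⟨d, hdE, hd, rfl⟩ := mem_img.1 hx
    rw [ha', app_mul_aut, app_mul_aut, app_inv_app, haP d hd]
  have hYD' : Y ∉ D' := by
    intro h
    have hle : Subgroup.zpowers Y ≤ P ⊓ D' := le_inf le_sup_right (Subgroup.zpowers_le.2 h)
    refine hnp ((isPGroup_stab4 hG).to_le ((Subgroup.closure_le (stab4 E D' (P ⊓ D') (P ⊓ D')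
      inf_le_right le_rfl)).2 ?_))
    rintro b (rfl | rfl) x hx
    · exact ⟨(hle (haI x hx)).2, fun _ => hle (haI x hx), fun _ => hle (haI x hx), fun hx' => haP x hx'.1⟩
    · exact ⟨(Subgroup.zpowers_le.2 hXD') (haI' x hx), fun hx' => by rw [haD' x hx', inv_mul_cancel]; exact one_mem _,
        fun hx' => by rw [haD' x hx'.2, inv_mul_cancel]; exact one_mem _, fun hx' => haD' x hx'.2⟩
  have hXP : X ∉ P := by
    intro h
    have hle : Subgroup.zpowers X ≤ P ⊓ D' := le_inf (Subgroup.zpowers_le.2 h) (Subgroup.zpowers_le.2 hXD')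
    refine hnp ((isPGroup_stab4 hG).to_le ((Subgroup.closure_le (stab4 E P (P ⊓ D') (P ⊓ D')
      inf_le_left le_rfl)).2 ?_))
    rintro b (rfl | rfl) x hx
    · exact ⟨(le_sup_right : Subgroup.zpowers Y ≤ P) (haI x hx),
        fun hx' => by rw [haP x hx', inv_mul_cancel]; exact one_mem _,
        fun hx' => by rw [haP x hx'.1, inv_mul_cancel]; exact one_mem _, fun hx' => haP x hx'.1⟩
    · exact ⟨(hle (haI' x hx)).1, fun _ => hle (haI' x hx), fun _ => hle (haI' x hx), fun hx' => haD' x hx'.2⟩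
  have hEX : P ⊔ Subgroup.zpowers X = E := eq_sup hG hPE (by rw [hcard, hcP, pow_succ', pow_two]) hXE hXP
  have hED' : D' ⊔ Subgroup.zpowers Y = E := eq_sup hG img_le
    (by rw [card_img hPE, hcard, hcP, pow_succ', pow_two]) hYE hYD'
  have hYX : Y ∉ Subgroup.zpowers X := fun h => hYD' ((Subgroup.zpowers_le.2 hXD') h)
  haveI hD'n : ∀ e ∈ E, ∀ x ∈ D', e * x * e⁻¹ ∈ D' := f.conj_img hE g
  obtain ⟨α, hα⟩ := exists_ev hYp (haI X hXE)
  have haX : app a X = X * ev Y α := by rw [← hα, mul_inv_cancel_left]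
  obtain ⟨β, hβ⟩ := exists_ev hXp (haI' Y hYE)
  have ha'Y : app a' Y = Y * ev X β := by rw [← hβ, mul_inv_cancel_left]
  have ha1 : a ≠ 1 := fun h => hzE (f.cent E hE z fun x hx => by
    have h' := haa hx
    rw [h, app_one_aut] at h'
    exact (eq_mul_inv_iff_mul_eq.1 h').symm)
  have hα0 : α ≠ 0 := by
    intro h
    rw [h, ev_zero, mul_one] at haX
    refine ha1 (aut_ext fun x hx => ?_)
    rw [app_one_aut]
    have hle : E ≤ fixedBy a := by
      refine hEX.ge.trans ?_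
      exact sup_le (fun x hx => ⟨hPE hx, haP x hx⟩) (Subgroup.zpowers_le.2 ⟨hXE, haX⟩)
    exact (hle hx).2
  have hβ0 : β ≠ 0 := by
    intro h
    rw [h, ev_zero, mul_one] at ha'Y
    have h1 : a' = 1 := aut_ext fun x hx => by
      rw [app_one_aut]
      have hle : E ≤ fixedBy a' := by
        refine hED'.ge.trans ?_
        exact sup_le (fun x hx => ⟨img_le hx, haD' x hx⟩) (Subgroup.zpowers_le.2 ⟨hYE, ha'Y⟩)
      exact (hle hx).2
    exact ha1 (by rwa [ha', conj_eq_one_iff] at h1)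
  have haY : app a Y = Y := haP Y (Subgroup.mem_sup_right (Subgroup.mem_zpowers Y))
  -- the common fixed line
  obtain ⟨k, hkP, hkD', hk1⟩ : ∃ k, k ∈ P ∧ k ∈ D' ∧ k ≠ 1 := by
    have hgc : app g c ∈ D' := app_mem_img hcE (Subgroup.mem_sup_left (Subgroup.mem_zpowers c))
    have h := hEX.ge (app_mem g hcE)
    obtain ⟨d, hd, w, hw, hdw⟩ := Subgroup.mem_sup_of_normal_left.1 h
    refine ⟨d, hd, ?_, fun hd1 => ?_⟩
    · rw [show d = app g c * w⁻¹ by rw [← hdw, mul_inv_cancel_right]]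
      exact mul_mem hgc (inv_mem ((Subgroup.zpowers_le.2 hXD') hw))
    · rw [hd1, one_mul] at hdw
      obtain ⟨i, rfl⟩ := Subgroup.mem_zpowers_iff.1 hw
      rw [hX, ← app_zpow g hYE] at hdw
      exact hc ⟨i, app_inj g hdw⟩
  have hkE := hPE hkP
  have hkp : k ^ p = 1 := hexp k hkE
  have hkY : k ∉ Subgroup.zpowers Y := by
    intro h
    obtain ⟨i, hi⟩ := exists_ev hYp h
    refine hYD' (mem_of_ev hYp (a := i) (fun h0 => hk1 (by rw [hi, h0, ev_zero])) (hi ▸ hkD'))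
  have hkPeq : Subgroup.zpowers k ⊔ Subgroup.zpowers Y = P := by
    rw [sup_comm]
    refine eq_sup hG le_sup_right ?_ hkP hkY
    rw [hcP, Nat.card_zpowers, orderOf_eq_prime hYp hY1]
  have hext : ∀ {b b' : MulAut E}, app b X = app b' X → app b Y = app b' Y → app b k = app b' k → b = b' := by
    intro b b' h1 h2 h3
    have hfix : ∀ {q : G}, q ∈ E → app b q = app b' q → q ∈ fixedBy (b'⁻¹ * b) := fun hq h =>
      ⟨hq, by rw [app_mul_aut, h, app_inv_app]⟩
    have hle : E ≤ fixedBy (b'⁻¹ * b) := by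
      refine hEX.ge.trans (sup_le (hkPeq.ge.trans ?_) ?_) <;> [skip; exact Subgroup.zpowers_le.2 (hfix hXE h1)]
      exact (sup_le (Subgroup.zpowers_le.2 (hfix hkE h3)) (Subgroup.zpowers_le.2 (hfix hYE h2)))
    refine aut_ext fun x hx => app_inj b'⁻¹ ?_
    rw [← app_mul_aut, (hle hx).2, app_inv_app]
  have hA : f.aut E ≥ Subgroup.closure ({a, a'} : Set (MulAut E)) := by
    refine (Subgroup.closure_le _).2 ?_
    rintro b (rfl | rfl)
    · exact f.conj_mem hE z
    · exact mul_mem (mul_mem hg (f.conj_mem hE z)) (inv_mem hg)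
  obtain ⟨w, hw, hwX, hwY, hwfix⟩ :=
    exists_neg hXE hYE (hab X hXE Y hYE) hXp hYp hα0 hβ0 haX haY ha'Y (haD' X hXD')
  have hwk : app w k = k := hwfix k (haP k hkP) (haD' k hkD')
  have hwa : a * w = w * a := by
    refine hext ?_ ?_ ?_
    · rw [app_mul_aut, app_mul_aut, hwX, app_inv a hXE, haX, app_mul w hXE (ev_mem hYE α), hwX, app_ev w hYE, hwY,
        mul_inv_rev, ev, ev, inv_pow]
      exact (hab _ (inv_mem (pow_mem hYE _)) _ (inv_mem hXE)).eq
    · rw [app_mul_aut, app_mul_aut, hwY, app_inv a hYE, haY, hwY]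
    · rw [app_mul_aut, app_mul_aut, hwk, haP k hkP, hwk]
  have htop : E ⊔ Subgroup.zpowers z = ⊤ :=
    eq_top_of_index (f.index E hE) le_sup_left (Subgroup.mem_sup_right (Subgroup.mem_zpowers z)) hzE
  obtain ⟨χ, hχ, hχe⟩ := f.extend E hE w (hA hw) fun g' => ⟨g', by
    let K : Subgroup G :=
      { carrier := {q | ∀ x ∈ E, app w (q * x * q⁻¹) = q * app w x * q⁻¹}
        one_mem' := fun x _ => by simp
        mul_mem' := fun {q r} hq hr x hx => by
          rw [show q * r * x * (q * r)⁻¹ = q * (r * x * r⁻¹) * q⁻¹ by group,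
            hq _ (Subgroup.Normal.conj_mem inferInstance x hx r), hr x hx]
          group
        inv_mem' := fun {q} hq x hx => by
          have hm : q⁻¹ * x * q⁻¹⁻¹ ∈ E := Subgroup.Normal.conj_mem inferInstance x hx q⁻¹
          have h := hq _ hm
          rw [show q * (q⁻¹ * x * q⁻¹⁻¹) * q⁻¹ = x by group] at h
          rw [h]; group }
    have hK : ⊤ ≤ K := by
      rw [← htop]
      refine sup_le (fun e he x hx => ?_) (Subgroup.zpowers_le.2 fun x hx => ?_)
      · rw [(hab e he x hx).eq, mul_inv_cancel_right, (hab e he _ (app_mem w hx)).eq, mul_inv_cancel_right]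
      · rw [← haa hx, ← app_mul_aut, ← hwa, app_mul_aut, haa (app_mem w hx)]
    exact hK (Subgroup.mem_top g')⟩
  refine ⟨k, hPc k hkP, hkp, hkY, hkPeq, ?_, χ, hχ, by rw [hχe Y hYE, hwY], by rw [hχe k hkE, hwk]⟩
  -- invariance
  have key : ∀ h ∈ f.aut E, app (h * a * h⁻¹) k = k := by
    intro h hh
    obtain ⟨l, hl, hlXY, hl1⟩ : ∃ l, l ∈ img h P ∧ l ∈ Subgroup.zpowers X ⊔ Subgroup.zpowers Y ∧ l ≠ 1 := by
      by_contra! hno
      set Q := Subgroup.zpowers X ⊔ Subgroup.zpowers Y with hQ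
      haveI : (Subgroup.zpowers Y).Normal := hcn
      have hcQ : Nat.card Q = p * p := by
        rw [hQ, sup_comm, card_step hG (fun h' => hXP ((le_sup_right : Subgroup.zpowers Y ≤ P) h'))
          (by rw [hXp]; exact one_mem _), Nat.card_zpowers, orderOf_eq_prime hYp hY1]
      have hQE : Q ≤ E := sup_le (Subgroup.zpowers_le.2 hXE) (Subgroup.zpowers_le.2 hYE)
      let m : img h P × Q → E := fun r => ⟨(r.1 : G) * r.2, mul_mem (img_le r.1.2) (hQE r.2.2)⟩
      have hm : Function.Injective m := by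
        rintro ⟨r, s⟩ ⟨r', s'⟩ he
        have he' : (r : G) * s = r' * s' := congrArg Subtype.val he
        have hin : (r' : G)⁻¹ * r = s' * (s : G)⁻¹ := by
          rw [eq_mul_inv_iff_mul_eq, mul_assoc, he', inv_mul_cancel_left]
        have h1 := hno _ (mul_mem (inv_mem r'.2) r.2) (hin ▸ mul_mem s'.2 (inv_mem s.2))
        have h2 : s' * (s : G)⁻¹ = 1 := hin ▸ h1
        exact Prod.ext (Subtype.ext (inv_mul_eq_one.1 h1).symm) (Subtype.ext (mul_inv_eq_one.1 h2).symm)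
      have hcl := Nat.card_le_card_of_injective m hm
      rw [Nat.card_prod, card_img hPE, hcP, hcQ, hcard] at hcl
      have := hp.out.two_le
      nlinarith [pow_pos hp.out.pos 3, pow_succ' p 2, pow_two p]
    -- move it onto `Y`
    obtain ⟨y, hy, hyk, hyY⟩ : ∃ y ∈ Subgroup.closure ({a, a'} : Set (MulAut E)), app y k = k ∧
        ∃ i : ZMod p, i ≠ 0 ∧ app y l = ev Y i := by
      obtain ⟨u, hu, v, hv, rfl⟩ := Subgroup.mem_sup_of_normal_right.1 hlXY
      obtain ⟨i, rfl⟩ := exists_ev hXp hu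
      obtain ⟨j, rfl⟩ := exists_ev hYp hv
      by_cases hi : i = 0
      · refine ⟨1, one_mem _, app_one_aut k, j, fun hj => hl1 ?_, ?_⟩
        · rw [hi, hj, ev_zero, ev_zero, one_mul]
        · rw [hi, ev_zero, one_mul, app_one_aut]
      -- first make the second coordinate one, then clear the first
      set m : ZMod p := (1 - j) / (i * α) with hm
      set n : ZMod p := -i / β with hn
      have hev : ∀ {u q : G}, u ∈ E → q ∈ E → ∀ r : ZMod p, ev (u * q) r = ev u r * ev q r := fun {u q} hu hq r =>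
        (hab u hu q hq).mul_pow _
      have haXm : app (ev a m) X = X * ev Y (α * m) := by
        rw [ev, app_transv_pow hXE (ev_mem hYE α) haX (by rw [app_ev a hYE, haY]), ev_mul hYp]; rfl
      have haYn : app (ev a' n) Y = Y * ev X (β * n) := by
        rw [ev, app_transv_pow hYE (ev_mem hXE β) ha'Y (by rw [app_ev a' hXE, haD' X hXD']), ev_mul hXp]; rfl
      have h1 : app (ev a m) (ev X i * ev Y j) = ev X i * Y := by
        rw [app_mul _ (ev_mem hXE i) (ev_mem hYE j), app_ev _ hXE, app_ev _ hYE, haXm,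
          show app (ev a m) Y = Y from app_pow_fixed haY _, hev hXE (ev_mem hYE _), ← ev_mul hYp, mul_assoc,
          ← ev_add hYp, show α * m * i + j = 1 by rw [hm]; field_simp; ring, ev_one]
      refine ⟨ev a' n * ev a m, Subgroup.mul_mem _ (ev_mem (U := Subgroup.closure ({a, a'} : Set (MulAut E))) (Subgroup.subset_closure (Or.inr rfl)) _)
        (ev_mem (U := Subgroup.closure ({a, a'} : Set (MulAut E))) (Subgroup.subset_closure (Or.inl rfl)) _), ?_, 1, one_ne_zero, ?_⟩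
      · rw [app_mul_aut, show app (ev a m) k = k from app_pow_fixed (haP k hkP) _,
          show app (ev a' n) k = k from app_pow_fixed (haD' k hkD') _]
      · rw [app_mul_aut, h1, app_mul _ (ev_mem hXE i) hYE, app_ev _ hXE,
          show app (ev a' n) X = X from app_pow_fixed (haD' X hXD') _, haYn,
          ← mul_assoc, (hab _ (ev_mem hXE i) _ hYE).eq, mul_assoc, ← ev_add hXp,
          show i + β * n = 0 by rw [hn]; field_simp; ring, ev_zero, mul_one, ev_one]
    obtain ⟨i, hi, hyl⟩ := hyY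
    obtain ⟨h3, hh3⟩ : ∃ h3, h3 = y * h := ⟨_, rfl⟩
    have hh3m : h3 ∈ f.aut E := hh3 ▸ mul_mem (hA hy) hh
    have hY3 : Y ∈ img h3 P := by
      refine mem_of_ev hYp hi ?_
      obtain ⟨d, hdE, hd, hdl⟩ := mem_img.1 hl
      exact mem_img.2 ⟨d, hdE, hd, by rw [hh3, app_mul_aut, hdl, hyl]⟩
    set b := h3 * a * h3⁻¹ with hb
    set s := app h3 Y with hs
    have hs3 : s ∈ img h3 P := app_mem_img hYE (Subgroup.mem_sup_right (Subgroup.mem_zpowers Y))
    have hbfix : ∀ x ∈ img h3 P, app b x = x := by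
      intro x hx
      obtain ⟨d, hdE, hd, rfl⟩ := mem_img.1 hx
      rw [hb, app_mul_aut, app_mul_aut, app_inv_app, haP d hd]
    have hbI : ∀ x ∈ E, x⁻¹ * app b x ∈ Subgroup.zpowers s := by
      intro x hx
      have hy' : app h3⁻¹ x ∈ E := app_mem _ hx
      obtain ⟨i, hi⟩ := Subgroup.mem_zpowers_iff.1 (haI _ hy')
      refine ⟨i, ?_⟩
      show s ^ i = x⁻¹ * app b x
      rw [hs, ← app_zpow h3 hYE, hi, app_mul h3 (inv_mem hy') (app_mem a hy'), app_inv h3 hy', app_app_inv, hb,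
        app_mul_aut, app_mul_aut]
    set T := stab4 E (Subgroup.zpowers Y ⊔ Subgroup.zpowers s) (Subgroup.zpowers Y) (Subgroup.zpowers Y)
      le_sup_left le_rfl with hT
    have hTb : b ∈ T := by
      have hle : Subgroup.zpowers Y ⊔ Subgroup.zpowers s ≤ img h3 P :=
        sup_le (Subgroup.zpowers_le.2 hY3) (Subgroup.zpowers_le.2 hs3)
      intro x hx
      exact ⟨(le_sup_right : Subgroup.zpowers s ≤ _) (hbI x hx),
        fun hx' => by rw [hbfix x (hle hx'), inv_mul_cancel]; exact one_mem _,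
        fun hx' => by rw [hbfix x (hle (Subgroup.mem_sup_left hx')), inv_mul_cancel]; exact one_mem _,
        fun hx' => hbfix x (hle (Subgroup.mem_sup_left hx'))⟩
    obtain ⟨g', hg'⟩ := f.sylow E hE (f.aut E ⊓ T) inf_le_left ((isPGroup_stab4 hG).to_le inf_le_right)
      (fun g' b' hb' => ⟨f.conj E hE g' b' hb', fun x hx => by
        rw [hb' x hx]
        exact ⟨Subgroup.mem_sup_left (himg g' x), fun _ => himg g' x, fun _ => himg g' x, fun hx' => by
          obtain ⟨i, rfl⟩ := Subgroup.mem_zpowers_iff.1 hx'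
          rw [← ((hYc g').zpow_left i).eq, mul_inv_cancel_right]⟩⟩)
      b ⟨Subgroup.mul_mem _ (Subgroup.mul_mem _ hh3m (f.conj_mem hE z)) (Subgroup.inv_mem _ hh3m), hTb⟩
    have hbk : app b k = k := by
      rw [hg' k hkE, ← (hPc k hkP g').eq, mul_inv_cancel_right]
    have e : h * a * h⁻¹ = y⁻¹ * b * y := by rw [hb, hh3]; group
    rw [e, app_mul_aut, app_mul_aut, hyk, hbk]
    conv_lhs => rw [← hyk]
    exact app_inv_app y k
  intro h hh x hx
  obtain ⟨i, rfl⟩ := Subgroup.mem_zpowers_iff.1 hx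
  rw [app_zpow h hkE]
  refine zpow_mem ?_ i
  have hhk : app h k ∈ E := app_mem h hkE
  have hfix : ∀ b : MulAut E, app (h⁻¹ * b * h) k = k → app b (app h k) = app h k := fun b hb => by
    rw [app_mul_aut, app_mul_aut] at hb
    conv_rhs => rw [← hb]
    rw [app_app_inv]
  have h1 : app a (app h k) = app h k := hfix a (by
    have := key h⁻¹ (inv_mem hh)
    rwa [inv_inv] at this)
  have h2 : app a' (app h k) = app h k := hfix a' (by
    have := key (h⁻¹ * g) (mul_mem (inv_mem hh) hg)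
    rwa [show h⁻¹ * g * a * (h⁻¹ * g)⁻¹ = h⁻¹ * a' * h by rw [ha']; group] at this)
  -- the two axes meet in the line
  have hm : app h k ∈ P := by
    obtain ⟨d, hd, w', hw', hdw⟩ := Subgroup.mem_sup_of_normal_left.1 (hEX.ge hhk)
    obtain ⟨t, rfl⟩ := exists_ev hXp hw'
    rw [← hdw, app_mul a (hPE hd) (ev_mem hXE t), haP d hd, app_ev a hXE, haX,
      show ev (X * ev Y α) t = ev X t * ev (ev Y α) t from (hab X hXE _ (ev_mem hYE α)).mul_pow _,
      ← mul_assoc, mul_eq_left, ← ev_mul hYp] at h1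
    have : t = 0 := (mul_eq_zero.1 (ev_eq_one hYp hY1 h1)).resolve_left hα0
    rw [← hdw, this, ev_zero, mul_one]; exact hd
  obtain ⟨u, hu, v, hv, huv⟩ := Subgroup.mem_sup_of_normal_right.1 (hkPeq.ge hm)
  obtain ⟨t, rfl⟩ := exists_ev hYp hv
  have hX1 : X ≠ 1 := fun h' => hXP (by rw [h']; exact one_mem _)
  have hua : app a' u = u := by
    obtain ⟨i, rfl⟩ := Subgroup.mem_zpowers_iff.1 hu
    rw [app_zpow a' hkE, haD' k hkD']
  rw [← huv, app_mul a' ((Subgroup.zpowers_le.2 hkE) hu) (ev_mem hYE t), hua, app_ev a' hYE, ha'Y,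
    show ev (Y * ev X β) t = ev Y t * ev (ev X β) t from (hab Y hYE _ (ev_mem hXE β)).mul_pow _,
    ← mul_assoc, mul_eq_left, ← ev_mul hXp] at h2
  have : t = 0 := (mul_eq_zero.1 (ev_eq_one hXp hX1 h2)).resolve_left hβ0
  rw [← huv, this, ev_zero, mul_one]; exact hu

/-- An automorphism of the whole group preserves the line. -/
theorem line_mem (f : Frame p G) {Y k : G} (hYp : Y ^ p = 1) (hkp : k ^ p = 1) (hY1 : Y ≠ 1)
    (hYc : ∀ g, Commute Y g) (hkc : ∀ g, Commute k g) (hfr : frattini G = Subgroup.zpowers Y)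
    (hcen : ∀ x : G, (∀ g, Commute x g) → ∃ a b : ZMod p, x = ev Y a * ev k b) (hp2 : p ≠ 2) {χ : MulAut G}
    (hχ : χ ∈ f.autTop) (hχY : χ Y = Y⁻¹) (hχk : χ k = k) {φ : MulAut G} (hφ : φ ∈ f.autTop) :
    φ k ∈ Subgroup.zpowers k := by
  have hz : ∀ g, Commute (φ k) g := fun g => by
    obtain ⟨g, rfl⟩ := φ.surjective g
    exact (hkc g).map φ.toMonoidHom
  obtain ⟨a, b, hab⟩ := hcen _ hz
  set κ : MulAut G := χ * φ * χ⁻¹ * φ⁻¹ with hκ
  have hκA : κ ∈ f.autTop := mul_mem (mul_mem (mul_mem hχ hφ) (inv_mem hχ)) (inv_mem hφ)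
  have hmem : φ⁻¹ Y ∈ Subgroup.zpowers Y := by
    rw [← hfr]
    exact char_mem inferInstance φ⁻¹ (hfr.ge (Subgroup.mem_zpowers Y))
  obtain ⟨j, hj⟩ := exists_ev hYp hmem
  have hκY : κ Y = Y := by
    show χ (φ (χ⁻¹ (φ⁻¹ Y))) = Y
    rw [hj, map_ev, show χ⁻¹ Y = Y⁻¹ from (MulEquiv.symm_apply_eq χ).2 (by rw [map_inv, hχY, inv_inv]),
      show ev Y⁻¹ j = (ev Y j)⁻¹ from inv_pow _ _, map_inv, ← hj, show φ (φ⁻¹ Y) = Y from φ.apply_symm_apply Y,
      map_inv, hχY, inv_inv]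
  have hκz : κ (φ k) = ev Y (-2 * a) * φ k := by
    show χ (φ (χ⁻¹ (φ⁻¹ (φ k)))) = _
    rw [show φ⁻¹ (φ k) = k from φ.symm_apply_apply k,
      show χ⁻¹ k = k from (MulEquiv.symm_apply_eq χ).2 hχk.symm, hab, map_mul, map_ev, map_ev, hχY, hχk,
      show ev Y⁻¹ a = (ev Y a)⁻¹ from inv_pow _ _, ← ev_neg hYp, ← mul_assoc, ← ev_add hYp,
      show -2 * a + a = -a by ring]
  have hiter : ∀ n : ℕ, (κ ^ n) (φ k) = ev Y ((n : ZMod p) * (-2 * a)) * φ k := by
    intro n
    induction n with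
    | zero => rw [pow_zero, Nat.cast_zero, zero_mul, ev_zero, one_mul]; rfl
    | succ n ih =>
      rw [pow_succ', MulAut.mul_apply, ih, map_mul, map_ev, hκY, hκz, ← mul_assoc, ← ev_add hYp, Nat.cast_succ,
        add_mul, one_mul]
  obtain ⟨e, m, hm, hord⟩ := Nat.exists_eq_pow_mul_and_not_dvd (orderOf_pos κ).ne' p hp.out.ne_one
  have hfix := f.fixCenter _ (pow_mem hκA m) e (by rw [← pow_mul, mul_comm, ← hord, pow_orderOf_eq_one]) _ hz
  rw [hiter, mul_eq_right] at hfix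
  have h0 := ev_eq_one hYp hY1 hfix
  have hm0 : (m : ZMod p) ≠ 0 := fun h => hm ((ZMod.natCast_eq_zero_iff m p).1 h)
  have h2 : (-2 : ZMod p) ≠ 0 := by
    intro h
    have h' : ((2 : ℕ) : ZMod p) = 0 := by
      rw [Nat.cast_ofNat, ← neg_neg (2 : ZMod p), h, neg_zero]
    exact hp2 ((Nat.prime_dvd_prime_iff_eq hp.out Nat.prime_two).1 ((ZMod.natCast_eq_zero_iff 2 p).1 h'))
  have ha : a = 0 := (mul_eq_zero.1 ((mul_eq_zero.1 h0).resolve_left hm0)).resolve_left h2
  rw [hab, ha, ev_zero, one_mul]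
  exact ev_mem (Subgroup.mem_zpowers k) b

theorem line_contra (f : Frame p G) (hG : IsPGroup p G) (hp2 : p ≠ 2) {c Y : G} (hcc : ∀ g, Commute c g)
    (hYc : ∀ g, Commute Y g) (hcp : c ^ p = 1) (hYp : Y ^ p = 1) (hY1 : Y ≠ 1) (hc : c ∉ Subgroup.zpowers Y)
    (hfr : frattini G = Subgroup.zpowers Y)
    (hcen : ∀ x : G, (∀ g, Commute x g) → x ∈ Subgroup.zpowers c ⊔ Subgroup.zpowers Y)
    (hab : ∀ E ∈ f.ess, (∀ x ∈ E, ∀ y ∈ E, Commute x y) ∧ (∀ x ∈ E, x ^ p = 1) ∧ Nat.card E = p ^ 3)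
    {E₁ E₂ : Subgroup G} (hE₁ : E₁ ∈ f.ess) (hE₂ : E₂ ∈ f.ess) (hne : E₁ ≠ E₂) : False := by
  have hother : ∀ E ∈ f.ess, ∃ E' ∈ f.ess, ∃ z ∈ E', z ∉ E := by
    intro E hE
    have key : ∀ E' ∈ f.ess, E' ≠ E → ∃ z ∈ E', z ∉ E := fun E' hE' h => by
      by_contra! hle
      exact h (Subgroup.eq_of_le_of_card_ge hle (by rw [(hab E hE).2.2, (hab E' hE').2.2]))
    by_cases h : E₁ = E
    · exact ⟨E₂, hE₂, key E₂ hE₂ fun h2 => hne (h.trans h2.symm)⟩
    · exact ⟨E₁, hE₁, key E₁ hE₁ h⟩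
  have haxis : ∀ E ∈ f.ess, ∃ k : G, (∀ g, Commute k g) ∧ k ^ p = 1 ∧ k ∉ Subgroup.zpowers Y ∧
      Subgroup.zpowers k ⊔ Subgroup.zpowers Y = Subgroup.zpowers c ⊔ Subgroup.zpowers Y ∧
      Inv (f.aut E) (Subgroup.zpowers k) ∧ ∃ χ ∈ f.autTop, χ Y = Y⁻¹ ∧ χ k = k := fun E hE => by
    obtain ⟨E', hE', hz⟩ := hother E hE
    exact exists_axis f hG hp2 hcc hYc hcp hYp hY1 hc hfr hE hE' hz (hab E hE).1 (hab E hE).2.1 (hab E hE).2.2
      (hab E' hE').2.2
  obtain ⟨k, hkc, hkp, hkY, hkP, hkI, χ, hχ, hχY, hχk⟩ := haxis E₁ hE₁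
  haveI : (Subgroup.zpowers Y).Normal := ⟨fun x hx g => by
    obtain ⟨i, rfl⟩ := Subgroup.mem_zpowers_iff.1 hx
    rw [← ((hYc g).zpow_left i).eq, mul_inv_cancel_right]; exact hx⟩
  have hcen' : ∀ x : G, (∀ g, Commute x g) → ∃ a b : ZMod p, x = ev Y a * ev k b := fun x hx => by
    have h := hkP.ge (hcen x hx)
    rw [sup_comm] at h
    obtain ⟨u, hu, v, hv, rfl⟩ := Subgroup.mem_sup_of_normal_left.1 h
    obtain ⟨a, rfl⟩ := exists_ev hYp hu
    obtain ⟨b, rfl⟩ := exists_ev hkp hv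
    exact ⟨a, b, rfl⟩
  have hline : ∀ {φ : MulAut G}, φ ∈ f.autTop → φ k ∈ Subgroup.zpowers k := fun hφ =>
    line_mem f hYp hkp hY1 hYc hkc hfr hcen' hp2 hχ hχY hχk hφ
  have h := f.core (Subgroup.zpowers k) (fun φ hφ x hx => by
    obtain ⟨i, rfl⟩ := Subgroup.mem_zpowers_iff.1 hx
    rw [map_zpow]; exact zpow_mem (hline hφ) i) fun E hE => by
    refine ⟨Subgroup.zpowers_le.2 (f.cent E hE k fun x _ => hkc x), ?_⟩
    obtain ⟨k', hk'c, hk'p, hk'Y, hk'P, hk'I, χ', hχ', hχ'Y, hχ'k⟩ := haxis E hE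
    obtain ⟨a, b, hab'⟩ := hcen' k' hk'c
    obtain ⟨γ, hγ⟩ := exists_ev hkp (hline hχ')
    have hk1 : k ≠ 1 := fun h => hkY (by rw [h]; exact one_mem _)
    have hb : b ≠ 0 := fun h => hk'Y (by rw [hab', h, ev_zero, mul_one]; exact ev_mem (Subgroup.mem_zpowers Y) a)
    have he : χ' k' = ev Y (-a) * ev k (γ * b) := by
      rw [hab', map_mul, map_ev, map_ev, hχ'Y, hγ, ← ev_mul hkp, ev_neg hYp]
      congr 1
      exact inv_pow _ _
    rw [hχ'k, hab'] at he
    have h2 : ev Y (a + a) = ev k (γ * b - b) := by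
      rw [ev_add hYp, sub_eq_add_neg, ev_add hkp, ev_neg hkp]
      rw [ev_neg hYp] at he
      calc ev Y a * ev Y a = ev Y a * (ev Y a * ev k b) * (ev k b)⁻¹ := by group
        _ = _ := by rw [he]; group
    have ha : a = 0 := by
      by_contra hne
      have h20 : (2 : ZMod p) ≠ 0 := fun h' => hp2 ((Nat.prime_dvd_prime_iff_eq hp.out Nat.prime_two).1
        ((ZMod.natCast_eq_zero_iff 2 p).1 (by rw [Nat.cast_ofNat, h'])))
      have hne' : γ * b - b ≠ 0 := fun h' => by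
        rw [h', ev_zero] at h2
        have := ev_eq_one hYp hY1 h2
        rw [← two_mul] at this
        exact (mul_ne_zero h20 hne) this
      exact hkY (mem_of_ev hkp hne' (h2 ▸ ev_mem (Subgroup.mem_zpowers Y) _))
    have hsame : Subgroup.zpowers k = Subgroup.zpowers k' := by
      rw [hab', ha, ev_zero, one_mul]
      exact le_antisymm (Subgroup.zpowers_le.2 (mem_of_ev hkp hb (Subgroup.mem_zpowers _)))
        (Subgroup.zpowers_le.2 (ev_mem (Subgroup.mem_zpowers k) b))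
    rw [hsame]; exact hk'I
  exact hkY (by rw [Subgroup.zpowers_eq_bot.1 h]; exact one_mem _)

end Cfsg.Agent.RankThreeNormal
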