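import Cfsg.Agent.Lib.RankThreeNormal.Defs

/-!
Elementary sections of rank at most three, and the orbit of a normal subgroup one step above an invariant one.
-/

set_option autoImplicit false
set_option linter.unusedSectionVars false
set_option linter.style.haveILetI false
set_option maxHeartbeats 1000000

open scoped commutatorElement
open Cfsg.Agent.RankThreeEss

namespace Cfsg.Agent.RankThreeNormal

variable {p : ℕ} [hp : Fact p.Prime] {G : Type*} [Group G] [Finite G]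

theorem card_le_mul_of_pow {N : Subgroup G} [N.Normal] {x : G} (hx : x ^ p ∈ N) :
    Nat.card (N ⊔ Subgroup.zpowers x : Subgroup G) ≤ p * Nat.card N := by
  let g : ZMod p × N → (N ⊔ Subgroup.zpowers x : Subgroup G) := fun a =>
    ⟨(a.2 : G) * x ^ a.1.val, mul_mem (Subgroup.mem_sup_left a.2.2)
      (Subgroup.mem_sup_right (pow_mem (Subgroup.mem_zpowers x) _))⟩
  have hg : Function.Surjective g := fun y => by
    obtain ⟨n, hn, m, hm, e⟩ := Subgroup.mem_sup_of_normal_left.1 y.2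
    obtain ⟨k, rfl⟩ := Subgroup.mem_zpowers_iff.1 hm
    have hkp : x ^ ((p : ℤ) * (k / p)) ∈ N := by rw [zpow_mul, zpow_natCast]; exact zpow_mem hx _
    refine ⟨((k : ZMod p), ⟨n * x ^ ((p : ℤ) * (k / p)), mul_mem hn hkp⟩), Subtype.ext ?_⟩
    show n * x ^ ((p : ℤ) * (k / p)) * x ^ (k : ZMod p).val = (y : G)
    rw [mul_assoc, ← zpow_natCast x (k : ZMod p).val, ZMod.val_intCast, ← zpow_add,
      Int.mul_ediv_add_emod, e]
  have h := Nat.card_le_card_of_surjective g hg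
  rwa [Nat.card_prod, Nat.card_zmod] at h

/-- An element of order `p` modulo `N` gives one step. -/
theorem card_step (hG : IsPGroup p G) {N : Subgroup G} [N.Normal] {x : G} (hx : x ∉ N) (hxp : x ^ p ∈ N) :
    Nat.card (N ⊔ Subgroup.zpowers x : Subgroup G) = p * Nat.card N :=
  le_antisymm (card_le_mul_of_pow hxp)
    (step hG le_sup_left (Subgroup.mem_sup_right (Subgroup.mem_zpowers x)) hx)

/-- A step of index `p` is generated by any element outside. -/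
theorem eq_sup (hG : IsPGroup p G) {N B : Subgroup G} (hNB : N ≤ B) (hc : Nat.card B = p * Nat.card N) {x : G}
    (hx : x ∈ B) (hxN : x ∉ N) : N ⊔ Subgroup.zpowers x = B :=
  eq_of_step hG le_sup_left (sup_le hNB (Subgroup.zpowers_le.2 hx)) (Subgroup.mem_sup_right (Subgroup.mem_zpowers x))
    hxN hc

theorem exists_not_mem {N B : Subgroup G} (h : Nat.card N < Nat.card B) : ∃ x ∈ B, x ∉ N := by
  by_contra! hle
  exact absurd (Subgroup.card_le_of_le (fun x hx => hle x hx : B ≤ N)) (not_le.2 h)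

theorem lt_mul_self (N : Subgroup G) : Nat.card N < p * Nat.card N :=
  lt_mul_of_one_lt_left Nat.card_pos hp.out.one_lt

theorem eq_top_of_index {E K : Subgroup G} (hidx : E.index = p) (hle : E ≤ K) {x : G} (hx : x ∈ K)
    (hxE : x ∉ E) : K = ⊤ := by
  rw [← Subgroup.index_eq_one]
  have h := Subgroup.relIndex_mul_index hle
  rw [hidx] at h
  rcases (Nat.dvd_prime hp.out).1 (Dvd.intro_left _ h) with h1 | h1
  · exact h1
  · rw [h1] at h
    have h2 : E.relIndex K = 1 := Nat.eq_of_mul_eq_mul_right hp.out.pos (h.trans (one_mul p).symm)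
    exact absurd (Subgroup.relIndex_eq_one.1 h2 hx) hxE

variable (hG : IsPGroup p G) (hsec : Cfsg.SectionalPRankLE p 3 G)
include hG hsec

theorem card_elem_le (X : Subgroup G) (hc : ∀ x ∈ X, ∀ y ∈ X, Commute x y) (he : ∀ x ∈ X, x ^ p = 1) :
    Nat.card X ≤ p ^ 3 := by
  let g : X →* X ⧸ (⊥ : Subgroup X) := QuotientGroup.mk' ⊥
  have hinj : Function.Injective g := fun a b h => by
    have := QuotientGroup.eq.1 h
    rwa [Subgroup.mem_bot, inv_mul_eq_one] at this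
  have h := hsec X ⊥ ⊤ ⟨⟨fun a b => Subtype.ext ?_⟩⟩ fun a _ => ?_
  · rw [Subgroup.card_top] at h
    exact (Nat.card_le_card_of_injective g hinj).trans h
  · obtain ⟨a, ha⟩ := QuotientGroup.mk'_surjective ⊥ (a : X ⧸ (⊥ : Subgroup X))
    obtain ⟨b, hb⟩ := QuotientGroup.mk'_surjective ⊥ (b : X ⧸ (⊥ : Subgroup X))
    rw [Subgroup.coe_mul, Subgroup.coe_mul, ← ha, ← hb, ← map_mul, ← map_mul]
    exact congrArg _ (Subtype.ext (hc a a.2 b b.2).eq)
  · obtain ⟨a, rfl⟩ := QuotientGroup.mk'_surjective ⊥ a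
    rw [← map_pow, show a ^ p = 1 from Subtype.ext (by rw [SubmonoidClass.coe_pow, he a a.2]; rfl), map_one]

/-- Four independent elements of a section, two of them in `V`. -/
theorem no_pair {Z₀ : Subgroup G} [Z₀.Normal] {V : Subgroup G} (hV : Z₀ ≤ V) {v₁ v₂ x y : G} (h1 : v₁ ∈ V)
    (h2 : v₂ ∈ V) (hv1 : v₁ ∉ Z₀) (hv2 : v₂ ∉ Z₀ ⊔ Subgroup.zpowers v₁) (hx : x ∉ V)
    (hy : y ∉ V ⊔ Subgroup.zpowers x) (c12 : ⁅v₁, v₂⁆ ∈ Z₀) (c1x : ⁅v₁, x⁆ ∈ Z₀) (c1y : ⁅v₁, y⁆ ∈ Z₀)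
    (c2x : ⁅v₂, x⁆ ∈ Z₀) (c2y : ⁅v₂, y⁆ ∈ Z₀) (cxy : ⁅x, y⁆ ∈ Z₀) (p1 : v₁ ^ p ∈ Z₀) (p2 : v₂ ^ p ∈ Z₀)
    (px : x ^ p ∈ Z₀) (py : y ^ p ∈ Z₀) : False := by
  set π := QuotientGroup.mk' Z₀ with hπ
  have hc : ∀ {a b : G}, ⁅a, b⁆ ∈ Z₀ → Commute (π a) (π b) := fun {a b} h => by
    rw [← commutatorElement_eq_one_iff_commute, ← map_commutatorElement]
    exact (QuotientGroup.eq_one_iff _).2 h
  have hpull : ∀ {g : G} {s : Set G}, π g ∈ Subgroup.closure (π '' s) → g ∈ Z₀ ⊔ Subgroup.closure s := by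
    intro g s h
    rw [← MonoidHom.map_closure] at h
    obtain ⟨k, hk, hke⟩ := h
    have := QuotientGroup.eq.1 hke
    rw [show g = k * (k⁻¹ * g) from (mul_inv_cancel_left _ _).symm]
    exact mul_mem (Subgroup.mem_sup_right hk) (Subgroup.mem_sup_left this)
  refine rank_contra hsec (MonoidHom.id G) Function.injective_id π ![v₁, v₂, x, y]
    (hG.to_quotient Z₀) ?_ ?_ ?_ ?_ ?_ ?_
  · intro i k
    fin_cases i <;> fin_cases k <;> first
      | exact Commute.refl _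
      | exact hc c12 | exact (hc c12).symm | exact hc c1x | exact (hc c1x).symm
      | exact hc c1y | exact (hc c1y).symm | exact hc c2x | exact (hc c2x).symm
      | exact hc c2y | exact (hc c2y).symm | exact hc cxy | exact (hc cxy).symm
  · intro i
    rw [← map_pow]
    refine (QuotientGroup.eq_one_iff _).2 ?_
    fin_cases i <;> assumption
  · exact fun h => hv1 ((QuotientGroup.eq_one_iff _).1 h)
  · intro h
    refine hv2 ?_
    have h' := hpull (g := v₂) (s := {v₁}) (by rw [Set.image_singleton]; exact h)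
    rwa [← Subgroup.zpowers_eq_closure] at h'
  · intro h
    refine hx ?_
    have h' := hpull (g := x) (s := {v₁, v₂}) (by rw [Set.image_pair]; exact h)
    exact (sup_le hV ((Subgroup.closure_le _).2 (Set.insert_subset h1 (Set.singleton_subset_iff.2 h2)))) h'
  · intro h
    refine hy ?_
    have h' := hpull (g := y) (s := {v₁, v₂, x}) (by rw [Set.image_insert_eq, Set.image_pair]; exact h)
    refine (sup_le (hV.trans le_sup_left) ((Subgroup.closure_le _).2 ?_)) h'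
    rintro g (rfl | rfl | rfl)
    exacts [Subgroup.mem_sup_left h1, Subgroup.mem_sup_left h2, Subgroup.mem_sup_right (Subgroup.mem_zpowers _)]

omit hG hsec in
/-- In class two with a centre of rank two, three generators contain a commuting pair. -/
theorem triple_aux {Q : Type*} [Group Q] [Finite Q] (hp2 : p ≠ 2) {v₁ v₂ a b c : Q} (h1 : ∀ g, Commute v₁ g)
    (h2 : ∀ g, Commute v₂ g) (p1 : v₁ ^ p = 1) (p2 : v₂ ^ p = 1) (pa : a ^ p = 1) (pb : b ^ p = 1)
    (pc : c ^ p = 1) (hgen : Subgroup.closure {v₁, v₂, a, b, c} = ⊤)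
    (cab : ⁅a, b⁆ ∈ Subgroup.zpowers v₁ ⊔ Subgroup.zpowers v₂)
    (cac : ⁅a, c⁆ ∈ Subgroup.zpowers v₁ ⊔ Subgroup.zpowers v₂)
    (cbc : ⁅b, c⁆ ∈ Subgroup.zpowers v₁ ⊔ Subgroup.zpowers v₂) :
    ∃ x y : Q, Commute x y ∧ x ^ p = 1 ∧ y ^ p = 1 ∧
      ((x = a ∧ y = b) ∨ (∃ i : ZMod p, x = a ∧ y = c * ev b i) ∨
        ∃ μ ν : ZMod p, x = b * ev a μ ∧ y = c * ev a ν) := by
  set W := Subgroup.zpowers v₁ ⊔ Subgroup.zpowers v₂ with hW
  have hWc : W ≤ Subgroup.center Q :=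
    sup_le (Subgroup.zpowers_le.2 (Subgroup.mem_center_iff.2 fun g => (h1 g).eq.symm))
      (Subgroup.zpowers_le.2 (Subgroup.mem_center_iff.2 fun g => (h2 g).eq.symm))
  have hcen : ∀ {w : Q}, w ∈ W → ∀ g, Commute w g := fun hw g => (Subgroup.mem_center_iff.1 (hWc hw) g).symm
  haveI hWn : W.Normal := ⟨fun w hw g => by rw [← (hcen hw g).eq, mul_inv_cancel_right]; exact hw⟩
  have hcomm : ∀ x y : Q, ⁅x, y⁆ ∈ W := by
    have key : ∀ x y : Q, Commute (QuotientGroup.mk' W x) (QuotientGroup.mk' W y) := by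
      have hs : ∀ s ∈ ({v₁, v₂, a, b, c} : Set Q), ∀ t ∈ ({v₁, v₂, a, b, c} : Set Q),
          Commute (QuotientGroup.mk' W s) (QuotientGroup.mk' W t) := by
        have hz : ∀ {s : Q}, s ∈ W → ∀ q : Q ⧸ W, Commute (QuotientGroup.mk' W s) q := fun hs q => by
          rw [(QuotientGroup.eq_one_iff _).2 hs |> fun h => (show QuotientGroup.mk' W _ = 1 from h)]
          exact Commute.one_left q
        have h1W : v₁ ∈ W := Subgroup.mem_sup_left (Subgroup.mem_zpowers v₁)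
        have h2W : v₂ ∈ W := Subgroup.mem_sup_right (Subgroup.mem_zpowers v₂)
        have hm : ∀ {s t : Q}, ⁅s, t⁆ ∈ W → Commute (QuotientGroup.mk' W s) (QuotientGroup.mk' W t) := fun h => by
          rw [← commutatorElement_eq_one_iff_commute, ← map_commutatorElement]
          exact (QuotientGroup.eq_one_iff _).2 h
        rintro s (rfl | rfl | rfl | rfl | rfl) t (rfl | rfl | rfl | rfl | rfl) <;> first
          | exact Commute.refl _
          | exact hz h1W _ | exact hz h2W _ | exact (hz h1W _).symm | exact (hz h2W _).symm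
          | exact hm cab | exact (hm cab).symm | exact hm cac | exact (hm cac).symm
          | exact hm cbc | exact (hm cbc).symm
      intro x y
      have hmem : ∀ z : Q, QuotientGroup.mk' W z ∈
          Subgroup.closure (QuotientGroup.mk' W '' {v₁, v₂, a, b, c}) := fun z => by
        rw [← MonoidHom.map_closure, hgen]; exact ⟨z, Subgroup.mem_top z, rfl⟩
      haveI := comm_closure (s := QuotientGroup.mk' W '' {v₁, v₂, a, b, c}) (by
        rintro _ ⟨s, hs', rfl⟩ _ ⟨t, ht, rfl⟩; exact hs s hs' t ht)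
      exact congrArg Subtype.val (mul_comm' (⟨_, hmem x⟩ : Subgroup.closure _) ⟨_, hmem y⟩)
    intro x y
    have h := commutatorElement_eq_one_iff_commute.2 (key x y)
    rw [← map_commutatorElement] at h
    exact (QuotientGroup.eq_one_iff _).1 h
  have hcl : ∀ x y g : Q, Commute ⁅x, y⁆ g := fun x y g => hcen (hcomm x y) g
  haveI : (Subgroup.zpowers v₂).Normal := ⟨fun w hw g => by
    rw [← (hcen (Subgroup.mem_sup_right hw) g).eq, mul_inv_cancel_right]; exact hw⟩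
  have hWp : ∀ w ∈ W, w ^ p = 1 := fun w hw => by
    obtain ⟨i, hi, j, hj, rfl⟩ := Subgroup.mem_sup_of_normal_right.1 hw
    obtain ⟨i, rfl⟩ := Subgroup.mem_zpowers_iff.1 hi
    obtain ⟨j, rfl⟩ := Subgroup.mem_zpowers_iff.1 hj
    rw [((h1 _).zpow_left i).mul_pow, ← zpow_natCast, ← zpow_mul, mul_comm, zpow_mul, zpow_natCast, p1, one_zpow,
      one_mul, ← zpow_natCast, ← zpow_mul, mul_comm, zpow_mul, zpow_natCast, p2, one_zpow]
  have hmp : ∀ {x y : Q}, x ^ p = 1 → y ^ p = 1 → (x * y) ^ p = 1 := fun {x y} hx hy => by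
    rw [mul_pow_prime hp2 hcl (fun s t => hWp _ (hcomm s t)), hx, hy, one_mul]
  have cl : ∀ x y z : Q, ⁅x * y, z⁆ = ⁅x, z⁆ * ⁅y, z⁆ := fun x y z => comm_mul_left (hcl y z)
  have cr : ∀ x y z : Q, ⁅x, y * z⁆ = ⁅x, y⁆ * ⁅x, z⁆ := fun x y z => comm_mul_right (hcl x z)
  have pl : ∀ (x y : Q) (i : ZMod p), ⁅ev x i, y⁆ = ev ⁅x, y⁆ i := fun x y i => comm_pow_left (hcl x y) _
  have pr : ∀ (x y : Q) (i : ZMod p), ⁅x, ev y i⁆ = ev ⁅x, y⁆ i := fun x y i => comm_pow_right (hcl x y) _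
  by_cases hab : ⁅a, b⁆ = 1
  · exact ⟨a, b, commutatorElement_eq_one_iff_commute.1 hab, pa, pb, Or.inl ⟨rfl, rfl⟩⟩
  have hA := hWp _ cab
  have hB := hWp _ cac
  by_cases hac : ⁅a, c⁆ ∈ Subgroup.zpowers ⁅a, b⁆
  · obtain ⟨i, hi⟩ := exists_ev hA hac
    refine ⟨a, c * ev b (-i), commutatorElement_eq_one_iff_commute.1 ?_, pa, hmp pc (ev_pow_p pb _),
      Or.inr (Or.inl ⟨-i, rfl, rfl⟩)⟩
    rw [cr, pr, hi, ← ev_add hA, add_neg_cancel, ev_zero]
  let h : ZMod p × ZMod p → W := fun r =>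
    ⟨ev ⁅a, b⁆ r.1 * ev ⁅a, c⁆ r.2, mul_mem (ev_mem cab _) (ev_mem cac _)⟩
  have hinj : Function.Injective h := by
    rintro ⟨i, j⟩ ⟨i', j'⟩ he
    have he' : ev ⁅a, b⁆ i * ev ⁅a, c⁆ j = ev ⁅a, b⁆ i' * ev ⁅a, c⁆ j' := congrArg Subtype.val he
    have h3 : ev ⁅a, c⁆ (j - j') = ev ⁅a, b⁆ (i' - i) := by
      rw [sub_eq_add_neg, sub_eq_add_neg, ev_add hB, ev_neg hB, ev_add hA, ev_neg hA,
        ((hcen (ev_mem cab i') ((ev ⁅a, b⁆ i)⁻¹))).eq]
      calc ev ⁅a, c⁆ j * (ev ⁅a, c⁆ j')⁻¹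
          = (ev ⁅a, b⁆ i)⁻¹ * (ev ⁅a, b⁆ i * ev ⁅a, c⁆ j) * (ev ⁅a, c⁆ j')⁻¹ := by group
        _ = (ev ⁅a, b⁆ i)⁻¹ * ev ⁅a, b⁆ i' := by rw [he']; group
    have hj : j = j' := by
      by_contra hne
      exact hac (mem_of_ev hB (sub_ne_zero.2 hne) (h3 ▸ ev_mem (Subgroup.mem_zpowers _) _))
    rw [hj, sub_self, ev_zero] at h3
    exact Prod.ext (sub_eq_zero.1 (ev_eq_one hA hab h3.symm)).symm hj
  have hcard : Nat.card W ≤ p * p := by
    haveI : (Subgroup.zpowers v₁).Normal := ⟨fun w hw g => by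
      rw [← (hcen (Subgroup.mem_sup_left hw) g).eq, mul_inv_cancel_right]; exact hw⟩
    refine (card_le_mul_of_pow (N := Subgroup.zpowers v₁) (by rw [p2]; exact one_mem _)).trans
      (Nat.mul_le_mul_left p ?_)
    rw [Nat.card_zpowers]
    exact orderOf_le_of_pow_eq_one hp.out.pos p1
  have hbij := hinj.bijective_of_nat_card_le (by rw [Nat.card_prod, Nat.card_zmod]; exact hcard)
  obtain ⟨⟨α, β⟩, hαβ⟩ := hbij.2 ⟨_, cbc⟩
  have hbc : ⁅b, c⁆ = ev ⁅a, b⁆ α * ev ⁅a, c⁆ β := (congrArg Subtype.val hαβ).symm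
  refine ⟨b * ev a (-β), c * ev a α, commutatorElement_eq_one_iff_commute.1 ?_, hmp pb (ev_pow_p pa _),
    hmp pc (ev_pow_p pa _), Or.inr (Or.inr ⟨-β, α, rfl, rfl⟩)⟩
  rw [cl, cr b c, cr (ev a (-β)) c, pr b a, pl a c, pl a (ev a α), pr a a, commutatorElement_self, ev_one_left,
    ev_one_left, mul_one, hbc, ← commutatorElement_inv a b, show ev ⁅a, b⁆⁻¹ α = (ev ⁅a, b⁆ α)⁻¹ from inv_pow _ _,
    ev_neg hB, (hcen (ev_mem cac β) ((ev ⁅a, b⁆ α)⁻¹)).right_comm, mul_inv_cancel_right, mul_inv_cancel]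

theorem no_triple (hp2 : p ≠ 2) {Z₀ : Subgroup G} [Z₀.Normal] {V : Subgroup G} (hV : Z₀ ≤ V) {v₁ v₂ a b c : G}
    (hVeq : Z₀ ⊔ Subgroup.zpowers v₁ ⊔ Subgroup.zpowers v₂ = V) (hv1 : v₁ ∉ Z₀)
    (hv2 : v₂ ∉ Z₀ ⊔ Subgroup.zpowers v₁) (ha : a ∉ V) (hb : b ∉ V ⊔ Subgroup.zpowers a)
    (hc : c ∉ V ⊔ Subgroup.zpowers a ⊔ Subgroup.zpowers b)
    (c12 : ⁅v₁, v₂⁆ ∈ Z₀) (cv : ∀ x ∈ ({a, b, c} : Set G), ⁅v₁, x⁆ ∈ Z₀ ∧ ⁅v₂, x⁆ ∈ Z₀)
    (cab : ⁅a, b⁆ ∈ V) (cac : ⁅a, c⁆ ∈ V) (cbc : ⁅b, c⁆ ∈ V) (p1 : v₁ ^ p ∈ Z₀) (p2 : v₂ ^ p ∈ Z₀)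
    (pa : a ^ p ∈ Z₀) (pb : b ^ p ∈ Z₀) (pc : c ^ p ∈ Z₀) : False := by
  set π := QuotientGroup.mk' Z₀ with hπ
  set Q := Subgroup.closure ({π v₁, π v₂, π a, π b, π c} : Set (G ⧸ Z₀)) with hQ
  have m1 : π v₁ ∈ Q := Subgroup.subset_closure (by simp)
  have m2 : π v₂ ∈ Q := Subgroup.subset_closure (by simp)
  have ma : π a ∈ Q := Subgroup.subset_closure (by simp)
  have mb : π b ∈ Q := Subgroup.subset_closure (by simp)
  have mc : π c ∈ Q := Subgroup.subset_closure (by simp)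
  have hk : ∀ {x y : G}, ⁅x, y⁆ ∈ Z₀ → Commute (π x) (π y) := fun {x y} h => by
    rw [← commutatorElement_eq_one_iff_commute, ← map_commutatorElement]
    exact (QuotientGroup.eq_one_iff _).2 h
  have hcentral : ∀ {v : G}, (∀ s ∈ ({π v₁, π v₂, π a, π b, π c} : Set (G ⧸ Z₀)), Commute (π v) s) →
      ∀ (hv : π v ∈ Q) (g : Q), Commute (⟨π v, hv⟩ : Q) g := fun {v} h hv g => by
    refine Subtype.ext ?_
    have : Q ≤ Subgroup.centralizer {π v} := (Subgroup.closure_le _).2 fun s hs =>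
      Subgroup.mem_centralizer_iff.2 (by rintro _ rfl; exact (h s hs).eq)
    exact Subgroup.mem_centralizer_iff.1 (this g.2) _ rfl
  have hz1 := hcentral (v := v₁) (by
    rintro s (rfl | rfl | rfl | rfl | rfl)
    exacts [Commute.refl _, hk c12, hk (cv a (by simp)).1, hk (cv b (by simp)).1, hk (cv c (by simp)).1]) m1
  have hz2 := hcentral (v := v₂) (by
    rintro s (rfl | rfl | rfl | rfl | rfl)
    exacts [(hk c12).symm, Commute.refl _, hk (cv a (by simp)).2, hk (cv b (by simp)).2, hk (cv c (by simp)).2]) m2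
  have hW : ∀ {x y : G} (hx : π x ∈ Q) (hy : π y ∈ Q), ⁅x, y⁆ ∈ V →
      ⁅(⟨π x, hx⟩ : Q), ⟨π y, hy⟩⁆ ∈ Subgroup.zpowers (⟨π v₁, m1⟩ : Q) ⊔ Subgroup.zpowers ⟨π v₂, m2⟩ := by
    intro x y hx hy h
    rw [← hVeq] at h
    have h' := Subgroup.mem_map_of_mem π h
    rw [Subgroup.map_sup, Subgroup.map_sup, hπ, QuotientGroup.map_mk'_self, bot_sup_eq, MonoidHom.map_zpowers,
      MonoidHom.map_zpowers, map_commutatorElement] at h'
    rw [← Subgroup.mem_map_iff_mem Q.subtype_injective, Subgroup.map_sup, MonoidHom.map_zpowers,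
      MonoidHom.map_zpowers, map_commutatorElement]
    exact h'
  have hpow : ∀ {x : G} (hx : π x ∈ Q), x ^ p ∈ Z₀ → (⟨π x, hx⟩ : Q) ^ p = 1 := fun {x} hx h => by
    refine Subtype.ext ?_
    rw [SubmonoidClass.coe_pow, ← map_pow]
    exact (QuotientGroup.eq_one_iff _).2 h
  obtain ⟨x, y, hxy, hxp, hyp, hcase⟩ := triple_aux (Q := Q) hp2 hz1 hz2 (hpow m1 p1) (hpow m2 p2)
    (hpow ma pa) (hpow mb pb) (hpow mc pc) (by
      refine Subgroup.map_injective Q.subtype_injective ?_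
      rw [MonoidHom.map_closure, ← MonoidHom.range_eq_map, Subgroup.range_subtype]
      simp only [Set.image_insert_eq, Set.image_singleton, Subgroup.subtype_apply]
      rfl) (hW ma mb cab) (hW ma mc cac) (hW mb mc cbc)
  have hfin : ∀ {x' y' : G}, π x' = (x : G ⧸ Z₀) → π y' = (y : G ⧸ Z₀) → x' ∉ V →
      y' ∉ V ⊔ Subgroup.zpowers x' → False := by
    intro x' y' hx' hy' hxV hyV
    have hcv : ∀ (v : G) (hv : π v ∈ Q), (∀ g : Q, Commute (⟨π v, hv⟩ : Q) g) → ∀ (z : Q) (z' : G),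
        π z' = (z : G ⧸ Z₀) → ⁅v, z'⁆ ∈ Z₀ := fun v hv h z z' hz => by
      refine (QuotientGroup.eq_one_iff _).1 (show π _ = 1 from ?_)
      rw [map_commutatorElement, hz, commutatorElement_eq_one_iff_commute]
      exact congrArg Subtype.val (h z).eq
    refine no_pair hG hsec (Z₀ := Z₀) hV (v₁ := v₁) (v₂ := v₂) ?_ ?_ hv1 hv2 hxV hyV c12 (hcv v₁ m1 hz1 x x' hx')
      (hcv v₁ m1 hz1 y y' hy') (hcv v₂ m2 hz2 x x' hx') (hcv v₂ m2 hz2 y y' hy') ?_ p1 p2 ?_ ?_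
    · rw [← hVeq]; exact Subgroup.mem_sup_left (Subgroup.mem_sup_right (Subgroup.mem_zpowers v₁))
    · rw [← hVeq]; exact Subgroup.mem_sup_right (Subgroup.mem_zpowers v₂)
    · refine (QuotientGroup.eq_one_iff _).1 (show π _ = 1 from ?_)
      rw [map_commutatorElement, hx', hy', commutatorElement_eq_one_iff_commute]
      exact congrArg Subtype.val hxy.eq
    · refine (QuotientGroup.eq_one_iff _).1 (show π _ = 1 from ?_)
      rw [map_pow, hx', ← SubmonoidClass.coe_pow, hxp]; rfl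
    · refine (QuotientGroup.eq_one_iff _).1 (show π _ = 1 from ?_)
      rw [map_pow, hy', ← SubmonoidClass.coe_pow, hyp]; rfl
  rcases hcase with ⟨rfl, rfl⟩ | ⟨i, rfl, rfl⟩ | ⟨μ, ν, rfl, rfl⟩
  · exact hfin (x' := a) (y' := b) rfl rfl ha hb
  · refine hfin (x' := a) (y' := c * ev b i) rfl ?_ ha fun h => hc ?_
    · rw [map_mul, map_ev]; rfl
    · have := mul_mem (Subgroup.mem_sup_left (T := Subgroup.zpowers b) h)
        (inv_mem (Subgroup.mem_sup_right (S := V ⊔ Subgroup.zpowers a) (ev_mem (Subgroup.mem_zpowers b) i)))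
      rwa [mul_inv_cancel_right] at this
  · refine hfin (x' := b * ev a μ) (y' := c * ev a ν) ?_ ?_ (fun h => hb ?_) fun h => hc ?_
    · rw [map_mul, map_ev]; rfl
    · rw [map_mul, map_ev]; rfl
    · have := mul_mem (Subgroup.mem_sup_left (T := Subgroup.zpowers a) h)
        (inv_mem (Subgroup.mem_sup_right (S := V) (ev_mem (Subgroup.mem_zpowers a) μ)))
      rwa [mul_inv_cancel_right] at this
    · have hle : V ⊔ Subgroup.zpowers (b * ev a μ) ≤ V ⊔ Subgroup.zpowers a ⊔ Subgroup.zpowers b :=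
        sup_le (le_sup_left.trans le_sup_left) (Subgroup.zpowers_le.2 (mul_mem
          (Subgroup.mem_sup_right (Subgroup.mem_zpowers b))
          (Subgroup.mem_sup_left (Subgroup.mem_sup_right (ev_mem (Subgroup.mem_zpowers a) μ)))))
      have := mul_mem (hle h) (inv_mem (Subgroup.mem_sup_left (T := Subgroup.zpowers b)
        (Subgroup.mem_sup_right (S := V) (ev_mem (Subgroup.mem_zpowers a) ν))))
      rwa [mul_inv_cancel_right] at this

/-- A subgroup centralized by two independent elements of order `p` outside it is cyclic. -/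
theorem cyclic_of_pair {D : Subgroup G} {u₁ u₂ : G} (h12 : Commute u₁ u₂) (hp1 : u₁ ^ p = 1) (hp2 : u₂ ^ p = 1)
    (hD1 : ∀ d ∈ D, Commute u₁ d) (hD2 : ∀ d ∈ D, Commute u₂ d) (hu1 : u₁ ∉ D)
    (hu2 : u₂ ∉ D ⊔ Subgroup.zpowers u₁) : IsCyclic D := by
  have hD := hG.to_subgroup D
  by_contra hnc
  have hidx : ∀ c : D, frattini D ⊔ Subgroup.zpowers c ≠ ⊤ := fun c h => hnc
    ⟨c, fun x => (frattini_nongenerating (by rwa [sup_comm] at h) : Subgroup.zpowers c = ⊤).ge (Subgroup.mem_top x)⟩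
  obtain ⟨c₁, hc1⟩ : ∃ c : D, c ∉ frattini D := by
    by_contra! h
    exact hidx 1 (eq_top_iff.2 fun x _ => Subgroup.mem_sup_left (h x))
  obtain ⟨c₂, hc2⟩ : ∃ c : D, c ∉ frattini D ⊔ Subgroup.zpowers c₁ := by
    by_contra! h
    exact hidx c₁ (eq_top_iff.2 fun x _ => h x)
  set P := phi D with hP
  have hPD : P ≤ D := phi_le D
  set N := Subgroup.normalizer (P : Set G) with hN
  have hDN : D ≤ N := fun d hd => by
    refine Subgroup.mem_normalizer_iff.2 fun x => ?_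
    constructor
    · rintro ⟨y, hy, rfl⟩
      exact ⟨⟨d, hd⟩ * y * ⟨d, hd⟩⁻¹, (inferInstance : (frattini D).Normal).conj_mem y hy _, rfl⟩
    · intro h
      obtain ⟨y, hy, hye⟩ := h
      refine ⟨⟨d, hd⟩⁻¹ * y * ⟨d, hd⟩, by simpa using (inferInstance : (frattini D).Normal).conj_mem y hy ⟨d, hd⟩⁻¹, ?_⟩
      have hye' : (y : G) = d * x * d⁻¹ := hye
      show d⁻¹ * (y : G) * d = x
      rw [hye']; group
  have huN : ∀ u : G, (∀ d ∈ D, Commute u d) → u ∈ N := fun u hu => by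
    refine Subgroup.mem_normalizer_iff.2 fun x => ⟨fun hx => ?_, fun hx => ?_⟩
    · rwa [(hu x (hPD hx)).eq, mul_inv_cancel_right]
    · have h := (hu _ (hPD hx)).eq
      have e : u * x * u⁻¹ = x := by
        calc u * x * u⁻¹ = u⁻¹ * (u * (u * x * u⁻¹)) := by group
          _ = u⁻¹ * ((u * x * u⁻¹) * u) := by rw [h]
          _ = x := by group
      rwa [e] at hx
  haveI : (P.subgroupOf N).Normal := Subgroup.normal_in_normalizer
  set π := QuotientGroup.mk' (P.subgroupOf N)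
  have hπ1 : ∀ {x : N}, π x = 1 ↔ (x : G) ∈ P := fun {x} => QuotientGroup.eq_one_iff x
  have hc : ∀ {x y : N}, ⁅(x : G), (y : G)⁆ ∈ P → Commute (π x) (π y) := fun {x y} h => by
    rw [← commutatorElement_eq_one_iff_commute, ← map_commutatorElement]
    exact hπ1.2 h
  have hcc : ∀ {x y : G}, Commute x y → ⁅x, y⁆ ∈ P := fun {x y} h => by
    rw [commutatorElement_eq_one_iff_commute.2 h]; exact one_mem _
  have hpull : ∀ {g : N} {s : Set N}, π g ∈ Subgroup.closure (π '' s) →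
      (g : G) ∈ P ⊔ Subgroup.closure (Subtype.val '' s) := by
    intro g s h
    rw [← MonoidHom.map_closure] at h
    obtain ⟨k, hk, hke⟩ := h
    have h1 : (k⁻¹ * g : N) ∈ P.subgroupOf N := QuotientGroup.eq.1 hke
    have h2 : (k : G) ∈ Subgroup.closure (Subtype.val '' s) := by
      have := Subgroup.mem_map_of_mem N.subtype hk
      rwa [MonoidHom.map_closure] at this
    rw [show (g : G) = (k : G) * ((k⁻¹ * g : N) : G) by simp]
    exact mul_mem (Subgroup.mem_sup_right h2) (Subgroup.mem_sup_left (Subgroup.mem_subgroupOf.1 h1))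
  refine rank_contra hsec N.subtype N.subtype_injective π
    ![(⟨c₁, hDN c₁.2⟩ : N), ⟨c₂, hDN c₂.2⟩, ⟨u₁, huN u₁ hD1⟩, ⟨u₂, huN u₂ hD2⟩]
    ((hG.to_subgroup N).to_quotient _) ?_ ?_ ?_ ?_ ?_ ?_
  · have e12 : ⁅(c₁ : G), (c₂ : G)⁆ ∈ P := ⟨⁅c₁, c₂⁆, commutator_mem_frattini hD _ _, rfl⟩
    intro i k
    fin_cases i <;> fin_cases k <;> first
      | exact Commute.refl _
      | exact hc e12 | exact (hc e12).symm
      | exact hc (hcc (hD1 _ c₁.2).symm) | exact (hc (hcc (hD1 _ c₁.2).symm)).symm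
      | exact hc (hcc (hD2 _ c₁.2).symm) | exact (hc (hcc (hD2 _ c₁.2).symm)).symm
      | exact hc (hcc (hD1 _ c₂.2).symm) | exact (hc (hcc (hD1 _ c₂.2).symm)).symm
      | exact hc (hcc (hD2 _ c₂.2).symm) | exact (hc (hcc (hD2 _ c₂.2).symm)).symm
      | exact hc (hcc h12) | exact (hc (hcc h12)).symm
  · intro i
    rw [← map_pow]
    refine hπ1.2 ?_
    fin_cases i
    · exact ⟨c₁ ^ p, Cfsg.Agent.PGroupBasics.pow_mem_frattini hD c₁, rfl⟩
    · exact ⟨c₂ ^ p, Cfsg.Agent.PGroupBasics.pow_mem_frattini hD c₂, rfl⟩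
    · show u₁ ^ p ∈ P; rw [hp1]; exact one_mem _
    · show u₂ ^ p ∈ P; rw [hp2]; exact one_mem _
  · exact fun h => hc1 ((Subgroup.mem_map_iff_mem D.subtype_injective).1 (hπ1.1 h))
  · intro h
    have h' := hpull (g := ⟨c₂, hDN c₂.2⟩) (s := {⟨c₁, hDN c₁.2⟩}) (by rw [Set.image_singleton]; exact h)
    refine hc2 ((Subgroup.mem_map_iff_mem D.subtype_injective).1 ?_)
    rw [Set.image_singleton, ← Subgroup.zpowers_eq_closure] at h'
    rw [Subgroup.map_sup, MonoidHom.map_zpowers]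
    exact h'
  · intro h
    have h' := hpull (g := ⟨u₁, huN u₁ hD1⟩) (s := {⟨c₁, hDN c₁.2⟩, ⟨c₂, hDN c₂.2⟩})
      (by rw [Set.image_pair]; exact h)
    refine hu1 ((sup_le hPD ((Subgroup.closure_le _).2 ?_)) h')
    rintro _ ⟨g, (rfl | rfl), rfl⟩
    exacts [c₁.2, c₂.2]
  · intro h
    have h' := hpull (g := ⟨u₂, huN u₂ hD2⟩) (s := {⟨c₁, hDN c₁.2⟩, ⟨c₂, hDN c₂.2⟩, ⟨u₁, huN u₁ hD1⟩})
      (by rw [Set.image_insert_eq, Set.image_pair]; exact h)
    refine hu2 ((sup_le (hPD.trans le_sup_left) ((Subgroup.closure_le _).2 ?_)) h')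
    rintro _ ⟨g, (rfl | rfl | rfl), rfl⟩
    exacts [Subgroup.mem_sup_left c₁.2, Subgroup.mem_sup_left c₂.2, Subgroup.mem_sup_right (Subgroup.mem_zpowers u₁)]

end Cfsg.Agent.RankThreeNormal
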