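import Cfsg.Agent.Lib.RankThreeNormal.Linear

/-!
The orbit of a normal subgroup one step above an invariant subgroup with a two-dimensional top.
-/

set_option autoImplicit false
set_option linter.unusedSectionVars false
set_option linter.style.haveILetI false
set_option maxHeartbeats 1000000

open scoped commutatorElement
open Cfsg.Agent.RankThreeEss

namespace Cfsg.Agent.RankThreeNormal

variable {p : ℕ} [hp : Fact p.Prime] {G : Type*} [Group G] [Finite G]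

theorem orbit (f : Frame p G) (hG : IsPGroup p G) (hsec : Cfsg.SectionalPRankLE p 3 G) (hp2 : p ≠ 2)
    {E Z₀ V B : Subgroup G} (hE : E ∈ f.ess) [Z₀.Normal] [B.Normal] (hZV : Z₀ ≤ V) (hVB : V ≤ B) (hBE : B ≤ E)
    (hZi : Inv (f.aut E) Z₀) (hVi : Inv (f.aut E) V) (hcV : Nat.card V = p ^ 2 * Nat.card Z₀)
    (hcB : Nat.card B = p * Nat.card V) (hBc : ∀ x ∈ B, ∀ y ∈ B, ⁅x, y⁆ ∈ Z₀) (hBp : ∀ x ∈ B, x ^ p ∈ Z₀) :
    Inv (f.aut E) B ∨ ∃ U X : Subgroup G, U.Normal ∧ Inv (f.aut E) U ∧ B ≤ U ∧ U ≤ E ∧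
      Nat.card U = p * Nat.card B ∧ X.Normal ∧ Inv (f.aut E) X ∧ Z₀ ≤ X ∧ X ≤ V ∧
      Nat.card X = p * Nat.card Z₀ ∧ (∀ u ∈ U, ∀ w ∈ U, ⁅u, w⁆ ∈ X) ∧ (∀ u ∈ U, u ^ p ∈ Z₀) ∧
      ∀ v ∈ V, ∀ u ∈ U, ⁅v, u⁆ ∈ Z₀ := by
  haveI hVn : V.Normal := f.normal_of_inv hE (hVB.trans hBE) hVi
  refine or_iff_not_imp_left.2 fun hB => ?_
  simp only [Inv, not_forall] at hB
  obtain ⟨a, ha, b, hb, hy⟩ := hB
  set y := app a b with hyd
  have hbE := hBE hb
  have hyE : y ∈ E := app_mem a hbE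
  have hVimg : ∀ d ∈ f.aut E, V ≤ img d B := fun d hd v hv => mem_img.2
    ⟨app d⁻¹ v, hBE (hVB (hVi _ (inv_mem hd) v hv)), hVB (hVi _ (inv_mem hd) v hv), app_app_inv d v⟩
  have hcimg : ∀ d : MulAut E, Nat.card (img d B) = p * Nat.card V := fun d => (card_img hBE).trans hcB
  have hbV : b ∉ V := fun h => hy (hVB (hVi a ha b h))
  have hyV : y ∉ V := fun h => hy (hVB h)
  have hBeq : V ⊔ Subgroup.zpowers b = B := eq_sup hG hVB hcB hb hbV
  have hAeq : V ⊔ Subgroup.zpowers y = img a B :=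
    eq_sup hG (hVimg a ha) (hcimg a) (app_mem_img hbE hb) hyV
  have himgc : ∀ d ∈ f.aut E, ∀ x ∈ img d B, ∀ z ∈ img d B, ⁅x, z⁆ ∈ Z₀ := by
    intro d hd x hx z hz
    obtain ⟨x, hxE, hx', rfl⟩ := mem_img.1 hx
    obtain ⟨z, hzE, hz', rfl⟩ := mem_img.1 hz
    rw [← app_commutator d hxE hzE]
    exact hZi d hd _ (hBc x hx' z hz')
  have himgp : ∀ d ∈ f.aut E, ∀ x ∈ img d B, x ^ p ∈ Z₀ := by
    intro d hd x hx
    obtain ⟨x, hxE, hx', rfl⟩ := mem_img.1 hx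
    rw [← app_pow d hxE]
    exact hZi d hd _ (hBp x hx')
  have hinter : ∀ {D D' : Subgroup G}, V ≤ D → V ≤ D' → Nat.card D = p * Nat.card V →
      Nat.card D' = p * Nat.card V → D ≠ D' → D ⊓ D' ≤ V := by
    intro D D' h1 h2 c1 c2 hne x hx
    by_contra hxV
    exact hne ((eq_sup hG h1 c1 hx.1 hxV).symm.trans (eq_sup hG h2 c2 hx.2 hxV))
  have hnB : ∀ e ∈ E, ∀ x ∈ B, e * x * e⁻¹ ∈ B := fun e _ x hx => Subgroup.Normal.conj_mem inferInstance x hx e
  have hne : B ≠ img a B := fun h => hy (h.ge (app_mem_img hbE hb))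
  have hcV' : ⁅b, y⁆ ∈ V := hinter hVB (hVimg a ha) hcB (hcimg a) hne
    (comm_mem_inf hnB (f.conj_img hE a) hBE img_le hb (app_mem_img hbE hb))
  obtain ⟨v₁, hv1, hv1'⟩ : ∃ v ∈ V, v ∉ Z₀ := exists_not_mem (by
    rw [hcV]; exact lt_mul_of_one_lt_left Nat.card_pos (Nat.one_lt_pow two_ne_zero hp.out.one_lt))
  have hp1 : v₁ ^ p ∈ Z₀ := hBp v₁ (hVB hv1)
  obtain ⟨v₂, hv2, hv2'⟩ : ∃ v ∈ V, v ∉ Z₀ ⊔ Subgroup.zpowers v₁ := exists_not_mem (by
    rw [card_step hG hv1' hp1, hcV, pow_two, mul_assoc]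
    exact Nat.mul_lt_mul_of_pos_left (lt_mul_self Z₀) hp.out.pos)
  have hp2' : v₂ ^ p ∈ Z₀ := hBp v₂ (hVB hv2)
  have hVeq : Z₀ ⊔ Subgroup.zpowers v₁ ⊔ Subgroup.zpowers v₂ = V := by
    refine eq_of_step hG le_sup_left (sup_le (sup_le hZV (Subgroup.zpowers_le.2 hv1)) (Subgroup.zpowers_le.2 hv2))
      (Subgroup.mem_sup_right (Subgroup.mem_zpowers v₂)) hv2' ?_
    rw [card_step hG hv1' hp1, hcV, pow_two, mul_assoc]
  have hyB : y ∉ V ⊔ Subgroup.zpowers b := by rwa [hBeq]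
  have hcy : ∀ v ∈ V, ⁅v, y⁆ ∈ Z₀ := fun v hv => himgc a ha v (hVimg a ha hv) y (app_mem_img hbE hb)
  have hyp : y ^ p ∈ Z₀ := himgp a ha y (app_mem_img hbE hb)
  have hcZ : ⁅b, y⁆ ∉ Z₀ := fun h => no_pair hG hsec hZV hv1 hv2 hv1' hv2' hbV hyB
    (hBc _ (hVB hv1) _ (hVB hv2)) (hBc _ (hVB hv1) _ hb) (hcy _ hv1) (hBc _ (hVB hv2) _ hb) (hcy _ hv2) h hp1 hp2'
    (hBp b hb) hyp
  set U := B ⊔ Subgroup.zpowers y with hU
  have hAU : img a B ≤ U := by
    rw [← hAeq]; exact sup_le (hVB.trans le_sup_left) le_sup_right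
  have hall : ∀ d ∈ f.aut E, img d B ≤ U := by
    intro d hd
    by_contra hle
    obtain ⟨x, hx, hxU⟩ := SetLike.not_le_iff_exists.1 hle
    have hdB : B ≠ img d B := fun h => hxU (Subgroup.mem_sup_left (h.ge hx))
    have hdA : img a B ≠ img d B := fun h => hxU (hAU (h.ge hx))
    refine no_triple hG hsec hp2 hZV hVeq hv1' hv2' hbV hyB (c := x) ?_ (hBc _ (hVB hv1) _ (hVB hv2)) ?_ hcV'
      (hinter hVB (hVimg d hd) hcB (hcimg d) hdB (comm_mem_inf hnB (f.conj_img hE d) hBE img_le hb hx))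
      (hinter (hVimg a ha) (hVimg d hd) (hcimg a) (hcimg d) hdA
        (comm_mem_inf (f.conj_img hE a) (f.conj_img hE d) img_le img_le (app_mem_img hbE hb) hx))
      hp1 hp2' (hBp b hb) hyp (himgp d hd x hx)
    · rw [hBeq]; exact hxU
    · rintro z (rfl | rfl | rfl)
      · exact ⟨hBc _ (hVB hv1) _ hb, hBc _ (hVB hv2) _ hb⟩
      · exact ⟨hcy _ hv1, hcy _ hv2⟩
      · exact ⟨himgc d hd _ (hVimg d hd hv1) _ hx, himgc d hd _ (hVimg d hd hv2) _ hx⟩
  have hUE : U ≤ E := sup_le hBE (Subgroup.zpowers_le.2 hyE)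
  have hUi : Inv (f.aut E) U := by
    intro d hd u hu
    let K : Subgroup G :=
      { carrier := {x | x ∈ E ∧ app d x ∈ U}
        one_mem' := ⟨one_mem _, by rw [app_one]; exact one_mem _⟩
        mul_mem' := fun {x z} hx hz => ⟨mul_mem hx.1 hz.1, by rw [app_mul d hx.1 hz.1]; exact mul_mem hx.2 hz.2⟩
        inv_mem' := fun {x} hx => ⟨inv_mem hx.1, by rw [app_inv d hx.1]; exact inv_mem hx.2⟩ }
    have hK : U ≤ K := sup_le (fun x hx => ⟨hBE hx, hall d hd (app_mem_img (hBE hx) hx)⟩)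
      (Subgroup.zpowers_le.2 ⟨hyE, by
        rw [hyd, ← app_mul_aut]; exact hall _ (mul_mem hd ha) (app_mem_img hbE hb)⟩)
    exact (hK hu).2
  -- commutation with `V`
  have hVU : ∀ v ∈ V, ∀ u ∈ U, ⁅v, u⁆ ∈ Z₀ := by
    intro v hv u hu
    set π := QuotientGroup.mk' Z₀
    have hc : ∀ {g : G}, ⁅v, g⁆ ∈ Z₀ → π g ∈ Subgroup.centralizer {π v} := fun {g} h =>
      Subgroup.mem_centralizer_iff.2 (by
        rintro _ rfl
        refine (commutatorElement_eq_one_iff_mul_comm.1 ?_)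
        rw [← map_commutatorElement]; exact (QuotientGroup.eq_one_iff _).2 h)
    have hle : U ≤ (Subgroup.centralizer {π v}).comap π :=
      sup_le (fun x hx => hc (hBc v (hVB hv) x hx)) (Subgroup.zpowers_le.2 (hc (hcy v hv)))
    refine (QuotientGroup.eq_one_iff _).1 (show π _ = 1 from ?_)
    rw [map_commutatorElement, commutatorElement_eq_one_iff_mul_comm]
    exact Subgroup.mem_centralizer_iff.1 (hle hu) _ rfl
  set X := Z₀ ⊔ Subgroup.zpowers ⁅b, y⁆ with hX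
  have hXV : X ≤ V := sup_le hZV (Subgroup.zpowers_le.2 hcV')
  -- the derived subgroup
  haveI hXn : (X.subgroupOf U).Normal := ⟨fun x hx u => by
    have h1 := hVU _ (hXV hx) u u.2
    have h2 : ((u * x * u⁻¹ : U) : G) = ⁅(x : G), (u : G)⁆⁻¹ * x := by
      rw [Subgroup.coe_mul, Subgroup.coe_mul, Subgroup.coe_inv, commutatorElement_inv, commutatorElement_def]
      group
    exact Subgroup.mem_subgroupOf.2 (h2 ▸ mul_mem (inv_mem (Subgroup.mem_sup_left h1)) hx)⟩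
  have hUX : ∀ u ∈ U, ∀ w ∈ U, ⁅u, w⁆ ∈ X := by
    set π := QuotientGroup.mk' (X.subgroupOf U) with hπ
    let Bs : Set U := {u | (u : G) ∈ B ∨ (u : G) = y}
    have hgen : Subgroup.closure Bs = ⊤ := by
      refine Subgroup.map_injective U.subtype_injective ?_
      rw [← MonoidHom.range_eq_map, Subgroup.range_subtype]
      refine le_antisymm (Subgroup.map_subtype_le _) (sup_le (fun x hx => ⟨⟨x, Subgroup.mem_sup_left hx⟩,
        Subgroup.subset_closure (Or.inl hx), rfl⟩) (Subgroup.zpowers_le.2 ⟨⟨y, Subgroup.mem_sup_right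
          (Subgroup.mem_zpowers y)⟩, Subgroup.subset_closure (Or.inr rfl), rfl⟩))
    have hm : ∀ {s t : U}, ⁅(s : G), (t : G)⁆ ∈ X → Commute (π s) (π t) := fun {s t} h => by
      rw [← commutatorElement_eq_one_iff_commute, ← map_commutatorElement]
      exact (QuotientGroup.eq_one_iff _).2 h
    have hBy : ∀ {s : U}, (s : G) ∈ B → ⁅(s : G), y⁆ ∈ X := by
      intro s hs
      set ρ := QuotientGroup.mk' Z₀
      have hmem : (s : G) ∈ V ⊔ Subgroup.zpowers b := by rwa [hBeq]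
      obtain ⟨v, hv, w, hw, hvw⟩ := Subgroup.mem_sup_of_normal_left.1 hmem
      obtain ⟨k, rfl⟩ := Subgroup.mem_zpowers_iff.1 hw
      rw [← hvw, show ⁅v * b ^ k, y⁆ = v * ⁅b ^ k, y⁆ * v⁻¹ * ⁅v, y⁆ by simp only [commutatorElement_def]; group]
      refine mul_mem ?_ (Subgroup.mem_sup_left (hcy v hv))
      have h1 : ⁅b ^ k, y⁆ ∈ X := by
        have hc : Commute (ρ ⁅b, y⁆) (ρ b) := by
          rw [← commutatorElement_eq_one_iff_commute, ← map_commutatorElement]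
          exact (QuotientGroup.eq_one_iff _).2 (hBc _ (hVB hcV') _ hb)
        have hkey : ∀ n : ℕ, ρ ⁅b ^ n, y⁆ = ρ ⁅b, y⁆ ^ n := by
          intro n
          induction n with
          | zero => simp
          | succ n ih =>
            rw [pow_succ', show ⁅b * b ^ n, y⁆ = b * ⁅b ^ n, y⁆ * b⁻¹ * ⁅b, y⁆ by
              simp only [commutatorElement_def]; group, map_mul, map_mul, map_mul, ih, map_inv,
              ← (hc.pow_left n).eq, mul_inv_cancel_right, ← pow_succ]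
        obtain ⟨n, hn⟩ : ∃ n : ℕ, b ^ k = b ^ n := by
          obtain ⟨n, hn⟩ := (mem_powers_iff_mem_zpowers.2 (zpow_mem (Subgroup.mem_zpowers b) k) :
            b ^ k ∈ Submonoid.powers b)
          exact ⟨n, hn.symm⟩
        have h := hkey n
        rw [← hn, ← map_pow] at h
        have h' := QuotientGroup.eq.1 h.symm
        have := mul_mem (Subgroup.mem_sup_right (S := Z₀) (pow_mem (Subgroup.mem_zpowers ⁅b, y⁆) n))
          (Subgroup.mem_sup_left (T := Subgroup.zpowers ⁅b, y⁆) h')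
        rwa [mul_inv_cancel_left] at this
      have h2 := hBc v (hVB hv) _ (hVB (hXV h1))
      rw [show v * ⁅b ^ k, y⁆ * v⁻¹ = ⁅v, ⁅b ^ k, y⁆⁆ * ⁅b ^ k, y⁆ by simp only [commutatorElement_def]; group]
      exact mul_mem (Subgroup.mem_sup_left h2) h1
    have hs : ∀ s ∈ π '' Bs, ∀ t ∈ π '' Bs, Commute s t := by
      rintro _ ⟨s, hs, rfl⟩ _ ⟨t, ht, rfl⟩
      rcases hs with hs | hs <;> rcases ht with ht | ht
      · exact hm (Subgroup.mem_sup_left (hBc _ hs _ ht))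
      · exact hm (by rw [ht]; exact hBy hs)
      · exact (hm (by rw [hs]; exact hBy ht)).symm
      · exact hm (by rw [hs, ht, commutatorElement_self]; exact one_mem _)
    intro u hu w hw
    haveI := comm_closure hs
    have hmem : ∀ z : U, π z ∈ Subgroup.closure (π '' Bs) := fun z => by
      rw [← MonoidHom.map_closure, hgen]; exact ⟨z, Subgroup.mem_top z, rfl⟩
    have h := congrArg Subtype.val (mul_comm' (⟨_, hmem ⟨u, hu⟩⟩ : Subgroup.closure (π '' Bs)) ⟨_, hmem ⟨w, hw⟩⟩)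
    have h' : ⁅π ⟨u, hu⟩, π ⟨w, hw⟩⁆ = 1 := commutatorElement_eq_one_iff_mul_comm.2 h
    rw [← map_commutatorElement] at h'
    exact Subgroup.mem_subgroupOf.1 ((QuotientGroup.eq_one_iff _).1 h')
  have hXi : Inv (f.aut E) X := by
    intro d hd x hx
    have hgen : app d ⁅b, y⁆ ∈ X := by
      rw [app_commutator d hbE hyE]
      exact hUX _ (hUi d hd b (Subgroup.mem_sup_left hb)) _ (hUi d hd y (Subgroup.mem_sup_right (Subgroup.mem_zpowers y)))
    obtain ⟨z, hz, w, hw, rfl⟩ := Subgroup.mem_sup_of_normal_left.1 hx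
    obtain ⟨k, rfl⟩ := Subgroup.mem_zpowers_iff.1 hw
    have hcE : ⁅b, y⁆ ∈ E := hBE (hVB hcV')
    rw [app_mul d (hBE (hVB (hZV hz))) (zpow_mem hcE k), app_zpow d hcE]
    exact mul_mem (Subgroup.mem_sup_left (hZi d hd z hz)) (zpow_mem hgen k)
  have hUp : ∀ u ∈ U, u ^ p ∈ Z₀ := by
    haveI : (Z₀.subgroupOf U).Normal := inferInstance
    set ρ := QuotientGroup.mk' (Z₀.subgroupOf U) with hρ
    have hcl : ∀ s t g : U ⧸ Z₀.subgroupOf U, Commute ⁅s, t⁆ g := by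
      intro s t g
      obtain ⟨s, rfl⟩ := QuotientGroup.mk'_surjective _ s
      obtain ⟨t, rfl⟩ := QuotientGroup.mk'_surjective _ t
      obtain ⟨g, rfl⟩ := QuotientGroup.mk'_surjective _ g
      rw [← map_commutatorElement, ← commutatorElement_eq_one_iff_commute, ← map_commutatorElement]
      exact (QuotientGroup.eq_one_iff _).2 (hVU _ (hXV (hUX _ s.2 _ t.2)) _ g.2)
    have hzp : ∀ s t : U ⧸ Z₀.subgroupOf U, ⁅s, t⁆ ^ p = 1 := by
      intro s t
      obtain ⟨s, rfl⟩ := QuotientGroup.mk'_surjective _ s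
      obtain ⟨t, rfl⟩ := QuotientGroup.mk'_surjective _ t
      rw [← map_commutatorElement, ← map_pow]
      exact (QuotientGroup.eq_one_iff _).2 (hBp _ (hVB (hXV (hUX _ s.2 _ t.2))))
    let P : Subgroup G :=
      { carrier := {x | ∃ hx : x ∈ U, ρ ⟨x, hx⟩ ^ p = 1}
        one_mem' := ⟨one_mem _, by rw [← map_pow]; exact (QuotientGroup.eq_one_iff _).2 (Subgroup.mem_subgroupOf.2 (by simp))⟩
        mul_mem' := fun {x z} hx hz => ⟨mul_mem hx.1 hz.1, by
          rw [show (⟨x * z, mul_mem hx.1 hz.1⟩ : U) = ⟨x, hx.1⟩ * ⟨z, hz.1⟩ from rfl, map_mul,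
            mul_pow_prime hp2 hcl hzp, hx.2, hz.2, one_mul]⟩
        inv_mem' := fun {x} hx => ⟨inv_mem hx.1, by
          rw [show (⟨x⁻¹, inv_mem hx.1⟩ : U) = (⟨x, hx.1⟩ : U)⁻¹ from rfl, map_inv, inv_pow, hx.2, inv_one]⟩ }
    have hP : ∀ x (hx : x ∈ U), x ^ p ∈ Z₀ → x ∈ P := fun x hx h => ⟨hx, by
      rw [← map_pow]; exact (QuotientGroup.eq_one_iff _).2 h⟩
    intro u hu
    have hle : U ≤ P := sup_le (fun x hx => hP x (Subgroup.mem_sup_left hx) (hBp x hx))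
      (Subgroup.zpowers_le.2 (hP y (Subgroup.mem_sup_right (Subgroup.mem_zpowers y)) hyp))
    obtain ⟨_, h⟩ := hle hu
    rw [← map_pow] at h
    exact Subgroup.mem_subgroupOf.1 ((QuotientGroup.eq_one_iff _).1 h)
  exact ⟨U, X, f.normal_of_inv hE hUE hUi, hUi, le_sup_left, hUE, card_step hG hy (hVB (hZV hyp)),
    f.normal_of_inv hE (hXV.trans (hVB.trans hBE)) hXi, hXi, le_sup_left, hXV,
    card_step hG hcZ (hBp _ (hVB hcV')), hUX, hUp, hVU⟩

end Cfsg.Agent.RankThreeNormal
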