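import Cfsg.Agent.Lib.RankThreeNormal.Pair
import Cfsg.Agent.Lib.RankThreeNormal.Orbit

/-!
The member that moves the centre.
-/

set_option autoImplicit false
set_option linter.unusedSectionVars false
set_option linter.style.haveILetI false
set_option maxHeartbeats 1000000

open scoped commutatorElement
open Cfsg.Agent.RankThreeEss

namespace Cfsg.Agent.RankThreeNormal

variable {p : ℕ} [hp : Fact p.Prime] {G : Type*} [Group G] [Finite G]

/-- A member moves the central elements of order `p`. -/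
def Moves (f : Frame p G) (E : Subgroup G) : Prop := ¬ Inv (f.aut E) (zOm p (⊤ : Subgroup G))

theorem mem_zb {x : G} : x ∈ zOm p (⊤ : Subgroup G) ↔ (∀ g, Commute x g) ∧ x ^ p = 1 :=
  ⟨fun h => ⟨fun g => h.2.1 g (Subgroup.mem_top g), h.2.2⟩, fun h => ⟨Subgroup.mem_top x, fun g _ => h.1 g, h.2⟩⟩

instance zb_normal : (zOm p (⊤ : Subgroup G)).Normal := ⟨fun x hx g => by
  rw [← ((mem_zb.1 hx).1 g).eq, mul_inv_cancel_right]; exact hx⟩

theorem zb_le (f : Frame p G) {E : Subgroup G} (hE : E ∈ f.ess) : zOm p (⊤ : Subgroup G) ≤ zOm p E :=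
  fun x hx => ⟨f.cent E hE x fun e _ => (mem_zb.1 hx).1 e, fun e _ => (mem_zb.1 hx).1 e, (mem_zb.1 hx).2⟩

theorem zb_map {φ : MulAut G} {x : G} (hx : x ∈ zOm p (⊤ : Subgroup G)) : φ x ∈ zOm p (⊤ : Subgroup G) := by
  refine mem_zb.2 ⟨fun g => ?_, by rw [← map_pow, (mem_zb.1 hx).2, map_one]⟩
  obtain ⟨g, rfl⟩ := φ.surjective g
  exact ((mem_zb.1 hx).1 g).map φ.toMonoidHom

theorem nontrivial_of_rank (hsec2 : ¬ Cfsg.SectionalPRankLE p 2 G) : Nontrivial G := by
  by_contra h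
  rw [not_nontrivial_iff_subsingleton] at h
  refine hsec2 fun H N _ A _ _ => ?_
  haveI : Subsingleton (H ⧸ N) := (QuotientGroup.mk_surjective).subsingleton
  rw [Nat.card_of_subsingleton (1 : A)]
  exact Nat.one_le_pow _ _ hp.out.pos

theorem zb_card (hG : IsPGroup p G) [Nontrivial G] :
    p ≤ Nat.card (zOm p (⊤ : Subgroup G)) := by
  haveI := hG.center_nontrivial
  obtain ⟨n, hn⟩ := IsPGroup.iff_card.1 (hG.to_subgroup (Subgroup.center G))
  have hn0 : n ≠ 0 := fun h => by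
    have := Finite.one_lt_card (α := Subgroup.center G)
    rw [hn, h, pow_zero] at this
    exact lt_irrefl 1 this
  obtain ⟨⟨x, hx⟩, hox⟩ := exists_prime_orderOf_dvd_card' (G := Subgroup.center G) p (hn ▸ dvd_pow_self p hn0)
  rw [Subgroup.orderOf_mk] at hox
  have hxZ : x ∈ zOm p (⊤ : Subgroup G) :=
    mem_zb.2 ⟨fun g => (Subgroup.mem_center_iff.1 hx g).symm, hox ▸ pow_orderOf_eq_one x⟩
  calc p = Nat.card (Subgroup.zpowers x) := by rw [Nat.card_zpowers, hox]
    _ ≤ _ := Subgroup.card_le_of_le (Subgroup.zpowers_le.2 hxZ)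

theorem exists_moves (f : Frame p G) (hG : IsPGroup p G) [Nontrivial G] :
    ∃ E ∈ f.ess, Moves f E := by
  by_contra! h
  have hb := f.core _ (fun φ _ x hx => zb_map hx) fun E hE =>
    ⟨(zb_le f hE).trans zOm_le, not_not.1 (h E hE)⟩
  have := zb_card (p := p) hG
  rw [hb, Subgroup.card_bot] at this
  exact absurd hp.out.one_lt (not_lt.2 this)

theorem Moves.cent {f : Frame p G} {E : Subgroup G} (hm : Moves f E) (hE : E ∈ f.ess) {g : G}
    (h : ∀ x ∈ zOm p E, Commute g x) : g ∈ E := by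
  by_contra hg
  refine hm ?_
  rw [show zOm p (⊤ : Subgroup G) = zOm p E from le_antisymm (zb_le f hE) fun x hx => mem_zb.2 ⟨fun r => ?_, hx.2.2⟩]
  · exact zOm_inv _
  have htop : E ⊔ Subgroup.zpowers g ≤ Subgroup.centralizer {x} := sup_le
    (fun e he => Subgroup.mem_centralizer_iff.2 (by rintro _ rfl; exact (hx.2.1 e he).eq))
    (Subgroup.zpowers_le.2 (Subgroup.mem_centralizer_iff.2 (by rintro _ rfl; exact (h _ hx).eq.symm)))
  rw [eq_top_of_index (f.index E hE) le_sup_left (Subgroup.mem_sup_right (Subgroup.mem_zpowers g)) hg] at htop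
  exact Subgroup.mem_centralizer_iff.1 (htop (Subgroup.mem_top r)) x rfl

theorem Moves.card_lt {f : Frame p G} {E : Subgroup G} (hm : Moves f E) (hE : E ∈ f.ess) (hG : IsPGroup p G) :
    p * Nat.card (zOm p (⊤ : Subgroup G)) ≤ Nat.card (zOm p E) := by
  obtain ⟨x, hx, hx'⟩ : ∃ x ∈ zOm p E, x ∉ zOm p (⊤ : Subgroup G) := by
    by_contra! h
    refine hm ?_
    rw [le_antisymm (zb_le f hE) h]
    exact zOm_inv _
  exact step hG (zb_le f hE) hx hx'

theorem zOm_card_le (hG : IsPGroup p G) (hsec : Cfsg.SectionalPRankLE p 3 G) (E : Subgroup G) :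
    Nat.card (zOm p E) ≤ p ^ 3 :=
  card_elem_le hG hsec _ (fun _ hx y hy => hx.2.1 y hy.1) fun _ hx => hx.2.2

/-- A normal subgroup of order `p` is central. -/
theorem le_zb_of_card (hG : IsPGroup p G) {X : Subgroup G} [X.Normal] (hX : Nat.card X ≤ p) :
    X ≤ zOm p (⊤ : Subgroup G) := by
  intro x hx
  refine mem_zb.2 ⟨fun g => ?_, ?_⟩
  · have h := commutator_mem_of_step hG (U := (⊥ : Subgroup G)) bot_le (by rwa [Subgroup.card_bot, mul_one]) hx g
    exact (commutatorElement_eq_one_iff_commute.1 (Subgroup.mem_bot.1 h)).symm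
  · by_cases h1 : x = 1
    · rw [h1, one_pow]
    · obtain ⟨k, hk⟩ := IsPGroup.iff_card.1 (hG.to_subgroup X)
      have hXp : Nat.card X = p := by
        have h2 := Nat.pow_le_pow_right hp.out.pos (show 1 ≤ k by
          by_contra hk0
          have : Nat.card X = 1 := by rw [hk, show k = 0 by omega, pow_zero]
          rw [Subgroup.card_eq_one] at this
          exact h1 (Subgroup.mem_bot.1 (this ▸ hx)))
        rw [pow_one, ← hk] at h2
        exact le_antisymm hX h2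
      have := congrArg Subtype.val (hXp ▸ pow_card_eq_one' : (⟨x, hx⟩ : X) ^ p = 1)
      exact this

/-- The plane of a moving member contains no invariant line. -/
theorem Moves.no_line {f : Frame p G} {E : Subgroup G} (hm : Moves f E) (hE : E ∈ f.ess) (hG : IsPGroup p G)
    (hV : Nat.card (zOm p E) = p ^ 2) {X : Subgroup G} (hXi : Inv (f.aut E) X) (hXV : X ≤ zOm p E)
    (hXc : Nat.card X = p) : False := by
  haveI := f.normal_of_inv hE (hXV.trans zOm_le) hXi
  have h := le_zb_of_card hG hXc.le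
  have := hm.card_lt hE hG
  rw [hV, pow_two] at this
  exact hm ((Subgroup.eq_of_le_of_card_ge h ((Nat.le_of_mul_le_mul_left this hp.out.pos).trans hXc.ge)) ▸ hXi)

theorem Moves.orbit_inv {f : Frame p G} {E : Subgroup G} (hm : Moves f E) (hE : E ∈ f.ess) (hG : IsPGroup p G)
    (hsec : Cfsg.SectionalPRankLE p 3 G) (hp2 : p ≠ 2) (hV : Nat.card (zOm p E) = p ^ 2) {B : Subgroup G}
    [B.Normal] (hVB : zOm p E ≤ B) (hBE : B ≤ E) (hcB : Nat.card B = p ^ 3)
    (hBc : ∀ x ∈ B, ∀ y ∈ B, Commute x y) (hBp : ∀ x ∈ B, x ^ p = 1) : Inv (f.aut E) B := by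
  rcases orbit f hG hsec hp2 hE (Z₀ := (⊥ : Subgroup G)) bot_le hVB hBE
    (fun a _ x hx => by rw [Subgroup.mem_bot] at hx ⊢; rw [hx, app_one]) (zOm_inv _)
    (by rw [Subgroup.card_bot, mul_one, hV]) (by rw [hcB, hV]; ring)
    (fun x hx y hy => Subgroup.mem_bot.2 (commutatorElement_eq_one_iff_commute.2 (hBc x hx y hy)))
    (fun x hx => Subgroup.mem_bot.2 (hBp x hx)) with h | ⟨U, X, -, -, -, -, -, -, hXi, -, hXV, hXc, -⟩
  · exact h
  · rw [Subgroup.card_bot, mul_one] at hXc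
    exact (hm.no_line hE hG hV hXi hXV hXc).elim

/-- A moving member centralizes an invariant subgroup whose commutators with it are central. -/
theorem Moves.no_comm {f : Frame p G} {E : Subgroup G} (hm : Moves f E) (hE : E ∈ f.ess)
    (hZ : Nat.card (zOm p (⊤ : Subgroup G)) = p) {B : Subgroup G} (hBE : B ≤ E) (hBi : Inv (f.aut E) B)
    (h : ∀ e ∈ E, ∀ b ∈ B, ⁅e, b⁆ ∈ zOm p (⊤ : Subgroup G)) : ∀ e ∈ E, ∀ b ∈ B, Commute e b := by
  intro e he b hb
  by_contra hne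
  refine hm fun a ha x hx => ?_
  set t := ⁅e, b⁆ with ht
  have ht1 : t ≠ 1 := fun h' => hne (commutatorElement_eq_one_iff_commute.1 h')
  have hgen : Subgroup.zpowers t = zOm p (⊤ : Subgroup G) := by
    refine Subgroup.eq_of_le_of_card_ge (Subgroup.zpowers_le.2 (h e he b hb)) ?_
    rw [hZ, Nat.card_zpowers, orderOf_eq_prime (mem_zb.1 (h e he b hb)).2 ht1]
  obtain ⟨i, rfl⟩ := Subgroup.mem_zpowers_iff.1 (hgen.ge hx)
  have htE : t ∈ E := zOm_le (zb_le f hE (h e he b hb))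
  rw [app_zpow a htE, ht, app_commutator a he (hBE hb)]
  exact zpow_mem (h _ (app_mem a he) _ (hBi a ha b hb)) i

theorem moves_unique {f : Frame p G} (hG : IsPGroup p G) (hsec : Cfsg.SectionalPRankLE p 3 G) (hp2 : p ≠ 2)
    (hall : ∀ A ∈ f.ess, ∀ B ∈ f.ess, zOm p A ≤ B) {E E' : Subgroup G} (hE : E ∈ f.ess) (hE' : E' ∈ f.ess)
    (hm : Moves f E) (hm' : Moves f E') : E = E' := by
  haveI := f.normal E hE
  haveI := f.normal E' hE'
  haveI hVn : (zOm p E).Normal := f.normal_of_inv hE zOm_le (zOm_inv _)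
  haveI hVn' : (zOm p E').Normal := f.normal_of_inv hE' zOm_le (zOm_inv _)
  have hcard : Nat.card E = Nat.card E' := by
    have h1 := E.card_mul_index
    have h2 := E'.card_mul_index
    rw [f.index E hE] at h1
    rw [f.index E' hE'] at h2
    exact Nat.eq_of_mul_eq_mul_right hp.out.pos (h1.trans h2.symm)
  by_cases h1 : zOm p E' ≤ zOm p E
  · exact Subgroup.eq_of_le_of_card_ge (fun g hg => hm'.cent hE' fun x hx => ((h1 hx).2.1 g hg).symm) hcard.ge
  by_cases h2 : zOm p E ≤ zOm p E'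
  · exact (Subgroup.eq_of_le_of_card_ge (fun g hg => hm.cent hE fun x hx => ((h2 hx).2.1 g hg).symm) hcard.le).symm
  exfalso
  set A := zOm p E ⊔ zOm p E' with hA
  have hc : ∀ x ∈ (zOm p E : Set G) ∪ zOm p E', ∀ y ∈ (zOm p E : Set G) ∪ zOm p E', Commute x y := by
    rintro x (hx | hx) y (hy | hy)
    exacts [hx.2.1 y hy.1, hx.2.1 y (hall E' hE' E hE hy), (hy.2.1 x (hall E' hE' E hE hx)).symm, hx.2.1 y hy.1]
  have hAcl : A ≤ Subgroup.closure ((zOm p E : Set G) ∪ zOm p E') :=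
    sup_le (fun x hx => Subgroup.subset_closure (Or.inl hx)) fun x hx => Subgroup.subset_closure (Or.inr hx)
  haveI := comm_closure hc
  have hAc : ∀ x ∈ A, ∀ y ∈ A, Commute x y := fun x hx y hy =>
    congrArg Subtype.val (mul_comm' (⟨x, hAcl hx⟩ : Subgroup.closure _) ⟨y, hAcl hy⟩)
  have hAp : ∀ x ∈ A, x ^ p = 1 := fun x hx => pow_eq_one_closure p hc (by
    rintro y (hy | hy) <;> exact hy.2.2) (hAcl hx)
  have hA3 := card_elem_le hG hsec A hAc hAp
  obtain ⟨x', hx', hx'V⟩ := SetLike.not_le_iff_exists.1 h1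
  obtain ⟨x, hx, hxV'⟩ := SetLike.not_le_iff_exists.1 h2
  have s1 : p * Nat.card (zOm p E) ≤ Nat.card A := step hG le_sup_left (Subgroup.mem_sup_right hx') hx'V
  have s2 : p * Nat.card (zOm p E') ≤ Nat.card A := step hG le_sup_right (Subgroup.mem_sup_left hx) hxV'
  have l1 := hm.card_lt hE hG
  have l2 := hm'.card_lt hE' hG
  have hZ0 : 0 < Nat.card (zOm p (⊤ : Subgroup G)) := Nat.card_pos
  obtain ⟨k, hk⟩ := IsPGroup.iff_card.1 (hG.to_subgroup (zOm p (⊤ : Subgroup G)))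
  have hk0 : k ≠ 0 := by
    intro h0
    rw [h0, pow_zero] at hk
    refine hm fun a _ z hz => ?_
    rw [Subgroup.card_eq_one.1 hk, Subgroup.mem_bot] at hz ⊢
    rw [hz, app_one]
  have hZp : p ≤ Nat.card (zOm p (⊤ : Subgroup G)) := hk ▸ Nat.le_self_pow hk0 p
  have hV2 : ∀ {n : ℕ}, p * Nat.card (zOm p (⊤ : Subgroup G)) ≤ n → p * n ≤ p ^ 3 →
      n = p ^ 2 ∧ Nat.card (zOm p (⊤ : Subgroup G)) = p := fun {n} hn1 hn2 => by
    have a1 : n ≤ p ^ 2 := Nat.le_of_mul_le_mul_left (hn2.trans (by rw [← pow_succ'])) hp.out.pos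
    have a2 : p ^ 2 ≤ n := (by rw [pow_two]; exact (Nat.mul_le_mul_left p hZp).trans hn1)
    refine ⟨le_antisymm a1 a2, le_antisymm ?_ hZp⟩
    rw [le_antisymm a1 a2, pow_two] at hn1
    exact Nat.le_of_mul_le_mul_left hn1 hp.out.pos
  obtain ⟨c1, hZ⟩ := hV2 l1 (s1.trans hA3)
  obtain ⟨c2, -⟩ := hV2 l2 (s2.trans hA3)
  rw [c2] at s2
  have hcA : Nat.card A = p ^ 3 := le_antisymm hA3 (le_of_eq_of_le (pow_succ' p 2) s2)
  haveI : A.Normal := Subgroup.sup_normal _ _
  have hAE' : A ≤ E' := sup_le (hall E hE E' hE') zOm_le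
  have hAi := hm'.orbit_inv hE' hG hsec hp2 c2 le_sup_right hAE' hcA hAc hAp
  have hcomm := hm'.no_comm hE' hZ hAE' hAi fun e he b hb => by
    have i1 : ⁅e, b⁆ ∈ zOm p E' := commutator_mem_of_step hG le_sup_right
      (by rw [hcA, c2]; exact (pow_succ' p 2).le) hb e
    have i2 : ⁅e, b⁆ ∈ zOm p E := by
      obtain ⟨v, hv, v', hv', rfl⟩ := Subgroup.mem_sup_of_normal_left.1 hb
      rw [show ⁅e, v * v'⁆ = ⁅e, v⁆ * (v * ⁅e, v'⁆ * v⁻¹) by simp only [commutatorElement_def]; group,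
        commutatorElement_eq_one_iff_commute.2 (hv'.2.1 e he).symm, mul_one, mul_inv_cancel, mul_one,
        commutatorElement_def]
      exact mul_mem (hVn.conj_mem v hv e) (inv_mem hv)
    refine le_zb_of_card hG (X := zOm p E ⊓ zOm p E') ?_ ⟨i2, i1⟩
    obtain ⟨j, hj⟩ := IsPGroup.iff_card.1 (hG.to_subgroup (zOm p E ⊓ zOm p E'))
    have hlt : Nat.card (zOm p E ⊓ zOm p E' : Subgroup G) < p ^ 2 :=
      lt_of_le_of_ne (c1 ▸ Subgroup.card_le_of_le inf_le_left) fun h =>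
        h2 (inf_eq_left.1 (Subgroup.eq_of_le_of_card_ge inf_le_left (by rw [h, c1])))
    rw [hj] at hlt ⊢
    calc p ^ j ≤ p ^ 1 := Nat.pow_le_pow_right hp.out.pos
          (Nat.lt_succ_iff.1 ((Nat.pow_lt_pow_iff_right hp.out.one_lt).1 hlt))
      _ = p := pow_one p
  exact h2 fun v hv => ⟨hall E hE E' hE' hv, fun e he => (hcomm e he v (Subgroup.mem_sup_left hv)).symm, hv.2.2⟩

theorem zOm_map (f : Frame p G) (hG : IsPGroup p G) (hsec : Cfsg.SectionalPRankLE p 3 G) (hp2 : p ≠ 2)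
    (hall : ∀ A ∈ f.ess, ∀ B ∈ f.ess, zOm p A ≤ B) {E : Subgroup G} (hE : E ∈ f.ess) (hm : Moves f E)
    {φ : MulAut G} (hφ : φ ∈ f.autTop) {x : G} (hx : x ∈ zOm p E) : φ x ∈ zOm p E := by
  obtain ⟨hE', htr⟩ := f.transport φ hφ E hE
  have hm' : Moves f (E.map φ.toMonoidHom) := fun h => hm fun a ha z hz => by
    obtain ⟨b, hb, hbe⟩ := htr a ha
    have h1 := h b hb _ (zb_map (φ := φ) hz)
    rw [hbe z (zOm_le (zb_le f hE hz))] at h1
    have h2 := zb_map (φ := φ⁻¹) h1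
    rwa [show φ⁻¹ (φ (app a z)) = app a z from φ.symm_apply_apply _] at h2
  have he : E.map φ.toMonoidHom = E := (moves_unique hG hsec hp2 hall hE hE' hm hm').symm
  refine ⟨?_, fun e he' => ?_, by rw [← map_pow, hx.2.2, map_one]⟩
  · rw [← he]; exact ⟨x, hx.1, rfl⟩
  · rw [← he] at he'
    obtain ⟨e, he'', rfl⟩ := he'
    exact (hx.2.1 e he'').map φ.toMonoidHom

end Cfsg.Agent.RankThreeNormal
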