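import Cfsg.Agent.Lib.RankThreeNormal.Linear

/-!
An element of order `p` central in one member and outside another: the group splits over a cyclic centre.
-/

set_option autoImplicit false
set_option linter.unusedSectionVars false
set_option linter.style.haveILetI false
set_option maxHeartbeats 1000000

open scoped commutatorElement
open Cfsg.Agent.RankThreeEss

namespace Cfsg.Agent.RankThreeNormal

variable {G : Type*} [Group G]

/-- The elements of exponent `p` in the centre of a subgroup. -/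
def zOm (p : ℕ) (E : Subgroup G) : Subgroup G where
  carrier := {x | x ∈ E ∧ (∀ e ∈ E, Commute x e) ∧ x ^ p = 1}
  one_mem' := ⟨one_mem _, fun e _ => Commute.one_left e, one_pow p⟩
  mul_mem' := fun {x y} hx hy => ⟨mul_mem hx.1 hy.1, fun e he => (hx.2.1 e he).mul_left (hy.2.1 e he), by
    rw [(hx.2.1 y hy.1).mul_pow, hx.2.2, hy.2.2, one_mul]⟩
  inv_mem' := fun {x} hx => ⟨inv_mem hx.1, fun e he => (hx.2.1 e he).inv_left, by rw [inv_pow, hx.2.2, inv_one]⟩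

theorem mem_zOm {p : ℕ} {E : Subgroup G} {x : G} :
    x ∈ zOm p E ↔ x ∈ E ∧ (∀ e ∈ E, Commute x e) ∧ x ^ p = 1 := Iff.rfl

theorem zOm_le {p : ℕ} {E : Subgroup G} : zOm p E ≤ E := fun _ h => h.1

theorem zOm_inv {p : ℕ} {E : Subgroup G} (A : Subgroup (MulAut E)) : Inv A (zOm p E) := fun a _ x hx => by
  refine ⟨app_mem a hx.1, fun e he => ?_, by rw [← app_pow a hx.1, hx.2.2, app_one]⟩
  have h := congrArg (app a) (hx.2.1 _ (app_mem a⁻¹ he)).eq
  rwa [app_mul a hx.1 (app_mem _ he), app_mul a (app_mem _ he) hx.1, app_app_inv] at h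

/-- The presentation of a Sylow subgroup of the symplectic group of rank two. -/
def Shape (p : ℕ) (G : Type*) [Group G] : Prop :=
  Nat.card G = p ^ 4 ∧ ∃ z y t x : G, z ^ p = 1 ∧ y ^ p = 1 ∧ t ^ p = 1 ∧ x ^ p = 1 ∧ Commute z y ∧
    Commute z t ∧ Commute y t ∧ Commute x t ∧ x * z * x⁻¹ = z * y ∧ x * y * x⁻¹ = y * t ∧
    Subgroup.closure {z, y, t, x} = ⊤

variable {p : ℕ} [hp : Fact p.Prime] [Finite G]

/-- The data extracted from a pair. -/
structure PairData (p : ℕ) (E₁ E₂ : Subgroup G) (z : G) where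
  X : G
  Y : G
  c : G
  hX : X ∈ E₂
  hXp : X ^ p = 1
  hY1 : Y ∈ E₁
  hY2 : Y ∈ E₂
  hYp : Y ^ p = 1
  hzY : Commute z Y
  hconj : z * X * z⁻¹ = X * Y
  hYc : Y ∉ Subgroup.zpowers c
  ht : ⁅Y, X⁆ ∈ Subgroup.zpowers c
  htp : ⁅Y, X⁆ ^ p = 1
  hc : ∀ g, Commute c g
  hc1 : c ∈ E₁
  hc2 : c ∈ E₂
  hX1 : X ∉ E₁
  hDgen : Subgroup.zpowers c ⊔ Subgroup.zpowers Y = E₁ ⊓ E₂
  hgen : (E₁ ⊓ E₂) ⊔ Subgroup.zpowers X = E₂

theorem pairData (f : Frame p G) (hG : IsPGroup p G) (hsec : Cfsg.SectionalPRankLE p 3 G) {E₁ E₂ : Subgroup G}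
    (hE₁ : E₁ ∈ f.ess) (hE₂ : E₂ ∈ f.ess) {z : G} (hz : z ∈ zOm p E₁) (hz2 : z ∉ E₂) :
    Nonempty (PairData p E₁ E₂ z) := by
  haveI := f.normal E₁ hE₁
  haveI := f.normal E₂ hE₂
  haveI hZn : (zOm p E₁).Normal := f.normal_of_inv hE₁ zOm_le (zOm_inv _)
  set R₀ := zOm p E₁ ⊓ E₂ with hR0
  set D := E₁ ⊓ E₂ with hD
  have hRD : R₀ ≤ D := inf_le_inf_right E₂ zOm_le
  set a : MulAut E₂ := MulAut.conjNormal z with ha
  have haa : ∀ {x : G}, x ∈ E₂ → app a x = z * x * z⁻¹ := fun hx => app_conjNormal z hx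
  have haR : ∀ x ∈ E₂, x⁻¹ * app a x ∈ R₀ := by
    intro x hx
    refine Subgroup.mem_inf.2 ⟨?_, mul_mem (inv_mem hx) (app_mem a hx)⟩
    rw [haa hx, ← mul_assoc, ← mul_assoc]
    exact mul_mem (by simpa using hZn.conj_mem z hz x⁻¹) (inv_mem hz)
  have haD : ∀ x ∈ D, app a x = x := fun x hx => by
    rw [haa hx.2, (hz.2.1 x hx.1).eq, mul_inv_cancel_right]
  obtain ⟨g, hg, hnp⟩ := f.exists_pair hG hE₂ hz2
  set a' : MulAut E₂ := g * a * g⁻¹ with ha'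
  set D' := img g D with hD'
  have hD'E : D' ≤ E₂ := img_le
  have haR' : ∀ x ∈ E₂, x⁻¹ * app a' x ∈ img g R₀ := by
    intro x hx
    have hy : app g⁻¹ x ∈ E₂ := app_mem _ hx
    refine mem_img.2 ⟨(app g⁻¹ x)⁻¹ * app a (app g⁻¹ x), mul_mem (inv_mem hy) (app_mem a hy), haR _ hy, ?_⟩
    rw [app_mul g (inv_mem hy) (app_mem a hy), app_inv g hy, app_app_inv, ha', app_mul_aut, app_mul_aut]
  have haD' : ∀ x ∈ D', app a' x = x := by
    intro x hx
    obtain ⟨d, hdE, hd, rfl⟩ := mem_img.1 hx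
    rw [ha', app_mul_aut, app_mul_aut, app_inv_app, haD d hd]
  have hRD' : img g R₀ ≤ D' := img_mono hRD
  have hnp1 : ¬ ∀ x ∈ E₂, x⁻¹ * app a x ∈ D' := by
    intro h
    refine hnp ((isPGroup_stab4 hG).to_le ((Subgroup.closure_le (stab4 E₂ D' (D ⊓ D') (D ⊓ D')
      inf_le_right le_rfl)).2 ?_))
    rintro c (rfl | rfl) x hx
    · exact ⟨h x hx, fun _ => ⟨hRD (haR x hx), h x hx⟩, fun _ => ⟨hRD (haR x hx), h x hx⟩,
        fun hx' => haD x hx'.1⟩
    · exact ⟨hRD' (haR' x hx), fun hx' => by rw [haD' x hx', inv_mul_cancel]; exact one_mem _,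
        fun hx' => by rw [haD' x hx'.2, inv_mul_cancel]; exact one_mem _, fun hx' => haD' x hx'.2⟩
  have hnp2 : ¬ ∀ x ∈ E₂, x⁻¹ * app a' x ∈ D := by
    intro h
    refine hnp ((isPGroup_stab4 hG).to_le ((Subgroup.closure_le (stab4 E₂ D (D ⊓ D') (D ⊓ D')
      inf_le_left le_rfl)).2 ?_))
    rintro c (rfl | rfl) x hx
    · exact ⟨hRD (haR x hx), fun hx' => by rw [haD x hx', inv_mul_cancel]; exact one_mem _,
        fun hx' => by rw [haD x hx'.1, inv_mul_cancel]; exact one_mem _, fun hx' => haD x hx'.1⟩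
    · exact ⟨h x hx, fun _ => ⟨h x hx, hRD' (haR' x hx)⟩, fun _ => ⟨h x hx, hRD' (haR' x hx)⟩,
        fun hx' => haD' x hx'.2⟩
  push Not at hnp1 hnp2
  obtain ⟨x₀, hx₀, hs₀⟩ := hnp1
  obtain ⟨x₁, hx₁, hs₁⟩ := hnp2
  set X := x₁⁻¹ * app a' x₁ with hXd
  obtain ⟨r, hrE, hr, hrX⟩ := mem_img.1 (haR' x₁ hx₁)
  have hXR : X ∈ img g R₀ := haR' x₁ hx₁
  have hX : X ∈ E₂ := img_le hXR
  have hXp : X ^ p = 1 := by
    rw [hXd, ← hrX, ← app_pow g hrE, hr.1.2.2, app_one]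
  have hX1 : X ∉ E₁ := fun h => hs₁ ⟨h, hX⟩
  have hE1top : E₁ ⊔ Subgroup.zpowers X = ⊤ :=
    eq_top_of_index (f.index E₁ hE₁) le_sup_left (Subgroup.mem_sup_right (Subgroup.mem_zpowers X)) hX1
  have hgen : D ⊔ Subgroup.zpowers X = E₂ := by
    refine le_antisymm (sup_le inf_le_right (Subgroup.zpowers_le.2 hX)) fun x hx => ?_
    obtain ⟨e, he, w, hw, rfl⟩ := Subgroup.mem_sup_of_normal_left.1 (hE1top.ge (Subgroup.mem_top x))
    have hwE : w ∈ E₂ := Subgroup.zpowers_le.2 hX hw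
    exact mul_mem (Subgroup.mem_sup_left ⟨he, by
      have := mul_mem hx (inv_mem hwE); rwa [mul_inv_cancel_right] at this⟩) (Subgroup.mem_sup_right hw)
  have hcE : Nat.card E₂ = p * Nat.card D := by
    rw [← hgen]
    exact card_step hG (fun h => hs₁ h) (by rw [hXp]; exact one_mem _)
  set Y := X⁻¹ * app a X with hYd
  have hYR : Y ∈ R₀ := haR X hX
  have hXD' : X ∈ D' := hRD' hXR
  have haX : app a X = X * Y := (mul_inv_cancel_left _ _).symm
  have hY' : Y ∉ D' := by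
    intro h
    refine hs₀ ?_
    rw [← hgen] at hx₀
    obtain ⟨d, hd, w, hw, rfl⟩ := Subgroup.mem_sup_of_normal_left.1 hx₀
    obtain ⟨k, rfl⟩ := Subgroup.mem_zpowers_iff.1 hw
    rw [app_mul a hd.2 (zpow_mem hX k), haD d hd, app_zpow a hX, haX, mul_inv_rev, mul_assoc, inv_mul_cancel_left]
    exact mul_mem (inv_mem (zpow_mem hXD' k)) (zpow_mem (mul_mem hXD' h) k)
  set C := D ⊓ D' with hC
  have hY2 : Y ∈ E₂ := hYR.2
  have hE2' : D' ⊔ Subgroup.zpowers Y = E₂ :=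
    eq_sup hG hD'E (by rw [card_img inf_le_right]; exact hcE) hY2 hY'
  have hzY : Commute z Y := hz.2.1 Y hYR.1.1
  have hnR : ∀ e ∈ E₂, ∀ x ∈ R₀, e * x * e⁻¹ ∈ R₀ := fun e _ x hx => Subgroup.Normal.conj_mem inferInstance x hx e
  have hnD : ∀ e ∈ E₂, ∀ x ∈ D, e * x * e⁻¹ ∈ D := fun e _ x hx => Subgroup.Normal.conj_mem inferInstance x hx e
  have ht : ⁅Y, X⁆ ∈ R₀ ⊓ img g R₀ := comm_mem_inf hnR (img_normIn hnR) inf_le_right img_le hYR hXR
  have htC : ⁅Y, X⁆ ∈ C := ⟨hRD ht.1, hRD' ht.2⟩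
  have hCX : ∀ d ∈ C, Commute X d := by
    intro d hd
    obtain ⟨e, heE, he, hed⟩ := mem_img.1 hd.2
    have h := congrArg (app g) (hr.1.2.1 e he.1).eq
    rw [app_mul g hrE heE, app_mul g heE hrE, hed, hrX] at h
    exact h
  have hzC : ∀ d ∈ C, Commute z d := fun d hd => hz.2.1 d hd.1.1
  have hYC : ∀ d ∈ C, Commute Y d := fun d hd => hYR.1.2.1 d hd.1.1
  have hYC' : Y ∉ C := fun h => hY' h.2
  have hzC' : z ∉ C ⊔ Subgroup.zpowers Y := fun h =>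
    hz2 (sup_le (inf_le_left.trans inf_le_right) (Subgroup.zpowers_le.2 hY2) h)
  obtain ⟨⟨c, hc⟩, hgc⟩ := (cyclic_of_pair hG hsec hzY.symm hYR.1.2.2 hz.2.2 hYC hzC hYC' hzC').exists_generator
  have hCz : C = Subgroup.zpowers c := by
    refine le_antisymm (fun d hd => ?_) (Subgroup.zpowers_le.2 hc)
    obtain ⟨k, hk⟩ := Subgroup.mem_zpowers_iff.1 (hgc ⟨d, hd⟩)
    exact ⟨k, congrArg Subtype.val hk⟩
  have hDgen : C ⊔ Subgroup.zpowers Y = D := by
    refine le_antisymm (sup_le inf_le_left (Subgroup.zpowers_le.2 (hRD hYR))) fun d hd => ?_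
    have hdn : Subgroup.zpowers Y ≤ Subgroup.normalizer (D' : Set G) := by
      refine Subgroup.zpowers_le.2 (Subgroup.mem_normalizer_iff.2 fun x => ⟨img_normIn hnD Y hY2 x, fun h => ?_⟩)
      have := img_normIn hnD Y⁻¹ (inv_mem hY2) _ h
      simpa [mul_assoc] using this
    have hd' := hd.2
    rw [← hE2'] at hd'
    have hd'' : d ∈ ((D' ⊔ Subgroup.zpowers Y : Subgroup G) : Set G) := hd'
    rw [Subgroup.coe_mul_of_right_le_normalizer_left D' (Subgroup.zpowers Y) hdn] at hd''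
    obtain ⟨u, hu, w, hw, rfl⟩ := hd''
    refine mul_mem (Subgroup.mem_sup_left ⟨?_, hu⟩) (Subgroup.mem_sup_right hw)
    have := mul_mem hd (inv_mem ((Subgroup.zpowers_le.2 (hRD hYR)) hw))
    rwa [mul_inv_cancel_right] at this
  refine ⟨⟨X, Y, c, hX, hXp, hYR.1.1, hY2, hYR.1.2.2, hzY, by rw [← haa hX, haX], hCz ▸ hYC', hCz ▸ htC,
    ht.1.1.2.2, ?_, hc.1.1, hc.1.2, hX1, by rw [← hCz, hDgen], hgen⟩⟩
  intro g'
  set K := Subgroup.centralizer ({c} : Set G) with hK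
  have hm : ∀ {u : G}, Commute u c → u ∈ K := fun h => Subgroup.mem_centralizer_iff.2 (by rintro _ rfl; exact h.eq.symm)
  have hCK : C ≤ K := fun d hd => hm (by
    obtain ⟨k, rfl⟩ := Subgroup.mem_zpowers_iff.1 (hCz.le hd)
    exact (Commute.refl c).zpow_left k)
  have hE2K : E₂ ≤ K := by
    rw [← hgen, ← hDgen]
    exact sup_le (sup_le hCK (Subgroup.zpowers_le.2 (hm (hYC c hc)))) (Subgroup.zpowers_le.2 (hm (hCX c hc)))
  have htop : K = ⊤ := eq_top_of_index (f.index E₂ hE₂) hE2K (hm (hzC c hc)) hz2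
  exact Subgroup.mem_centralizer_iff.1 (htop.ge (Subgroup.mem_top g')) c rfl

end Cfsg.Agent.RankThreeNormal
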